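import Mathlib
import Cfsg.Agent.SAc.Defs

/-! Definitions for the Harada-Norton end game. See `stubs/Cfsg/Agent/SAc/HN.md`. -/

set_option autoImplicit false
set_option linter.unusedSectionVars false

namespace Cfsg.Agent.SAc

open Cfsg Cfsg.Agent.GT Cfsg.Agent.Loc.Mss Cfsg.Agent.Sym Cfsg.Agent.Loc.SO Cfsg.Agent.SAn Subgroup Equiv
open Cfsg.Agent.StdB (C1 mem_C1)
open scoped commutatorElement

variable {G : Type*} [Group G] {Q : Type*} [Group Q]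

/-- The normalizer of a cyclic group. -/
abbrev NN (φ : G) : Subgroup G := 𝐍[zpowers φ]

/-- The odd core of a subgroup, as a subgroup of the whole group. -/
abbrev Oc (H : Subgroup G) : Subgroup G := (oddCore H).map H.subtype

open Classical in
/-- The value of a homomorphism defined on a subgroup (junk value `1` outside). -/
noncomputable def th {H : Subgroup G} (θ : H →* Q) (g : G) : Q := if h : g ∈ H then θ ⟨g, h⟩ else 1

section Th

variable {H : Subgroup G} {θ : H →* Q} {a b : G}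

theorem th_of_mem (h : a ∈ H) : th θ a = θ ⟨a, h⟩ := dif_pos h

@[simp] theorem th_coe (a : H) : th θ (a : G) = θ a := dif_pos a.2

@[simp] theorem th_one : th θ 1 = 1 := by rw [th_of_mem (one_mem _)]; exact map_one θ

theorem th_mul (ha : a ∈ H) (hb : b ∈ H) : th θ (a * b) = th θ a * th θ b := by
  rw [th_of_mem ha, th_of_mem hb, th_of_mem (mul_mem ha hb), ← map_mul]; rfl

theorem th_inv (ha : a ∈ H) : th θ a⁻¹ = (th θ a)⁻¹ := by
  rw [th_of_mem ha, th_of_mem (inv_mem ha), ← map_inv]; rfl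

theorem th_pow (ha : a ∈ H) (k : ℕ) : th θ (a ^ k) = th θ a ^ k := by
  rw [th_of_mem ha, th_of_mem (pow_mem ha k), ← map_pow]; rfl

theorem th_conj (ha : a ∈ H) (hb : b ∈ H) : th θ (a * b * a⁻¹) = th θ a * th θ b * (th θ a)⁻¹ := by
  rw [th_mul (mul_mem ha hb) (inv_mem ha), th_mul ha hb, th_inv ha]

end Th

/-- `θ` is the projection of `N(⟨φ⟩)` with kernel `⟨φ⟩ O(N(⟨φ⟩))`. -/
structure QD (φ : G) (θ : NN φ →* Q) : Prop where
  four : φ ^ 4 = 1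
  surj : ∀ q, ∃ n ∈ NN φ, th θ n = q
  core : oddCore Q = ⊥
  ker : ∀ n ∈ NN φ, th θ n = 1 ↔ n ∈ zpowers φ ⊔ Oc (NN φ)

/-- The last eight points. -/
abbrev S8 : Finset (Fin 12) := ({0, 1, 2, 3} : Finset (Fin 12))ᶜ

/-- The type of the last eight points. -/
abbrev R8 : Type := {z : Fin 12 // z ∈ S8}

/-- The element of order four. -/
abbrev ph (ψ : Perm (Fin 12) →* G) : G := ψ (c4 0 1 2 3)

/-- Its square. -/
abbrev dd (ψ : Perm (Fin 12) →* G) : G := ψ (dt 0 1 2 3)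

/-- The alternating group on the last eight points. -/
abbrev L8 (ψ : Perm (Fin 12) →* G) : Subgroup G := (altOn S8).map ψ

theorem Fx.comm_swap {α : Type} [DecidableEq α] {r : Perm α} {a b : α} (ha : r a = a) (hb : r b = b) :
    r * swap a b = swap a b * r := by
  rw [Equiv.mul_swap_eq_swap_mul, ha, hb]

theorem fx_comm_c4 {α : Type} [DecidableEq α] [Fintype α] {r : Perm α} {a b c d : α} (h : Fx a b c d r) :
    r * c4 a b c d = c4 a b c d * r :=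
  (Commute.mul_right (Fx.comm_swap h.a h.b)
    (Commute.mul_right (Fx.comm_swap h.a h.c) (Fx.comm_swap h.b h.d))).eq

theorem fx_iff {r : Perm (Fin 12)} : Fx 0 1 2 3 r ↔ ∀ x ∉ S8, r x = x := by
  refine ⟨fun h x hx => ?_, fun h => ⟨h _ (by decide), h _ (by decide), h _ (by decide), h _ (by decide)⟩⟩
  rw [Finset.mem_compl, not_not] at hx
  simp only [Finset.mem_insert, Finset.mem_singleton] at hx
  rcases hx with rfl | rfl | rfl | rfl
  exacts [h.a, h.b, h.c, h.d]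

theorem fx_ofSubtype (r : Perm R8) : Fx 0 1 2 3 (Perm.ofSubtype r) :=
  fx_iff.2 fun _ hx => Perm.ofSubtype_apply_of_not_mem r hx

variable {ψ : Perm (Fin 12) →* G}

theorem ph_sq : ph ψ * ph ψ = dd ψ := by rw [← map_mul]; congr 1; decide

theorem dd_sq : dd ψ * dd ψ = 1 := by rw [← map_mul, ← map_one ψ]; congr 1; decide

theorem ph_four : ph ψ ^ 4 = 1 := by
  rw [show (4 : ℕ) = 2 * 2 from rfl, pow_mul, pow_two (ph ψ), ph_sq, pow_two, dd_sq]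

theorem comm_ph {r : Perm (Fin 12)} (h : Fx 0 1 2 3 r) : ψ r * ph ψ = ph ψ * ψ r := by
  rw [← map_mul, fx_comm_c4 h, map_mul]

theorem mem_NN_of_comm {φ g : G} (h : g * φ = φ * g) : g ∈ NN φ :=
  cent_le_norm _ (mem_cent.2 fun a ha => by
    obtain ⟨k, rfl⟩ := mem_zpowers_iff.1 ha
    exact ((Commute.zpow_right h k).eq).symm)

theorem mem_NN {r : Perm (Fin 12)} (h : Fx 0 1 2 3 r) : ψ r ∈ NN (ph ψ) := mem_NN_of_comm (comm_ph h)

theorem ph_mem {φ : G} : φ ∈ NN φ := mem_NN_of_comm rfl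

theorem u1_ph : ψ (swap 0 1) * ph ψ * (ψ (swap 0 1))⁻¹ = (ph ψ)⁻¹ := by
  rw [← map_inv, ← map_inv, ← map_mul, ← map_mul]; congr 1; decide

theorem mem_NN_of_inv {φ g : G} (h : g * φ * g⁻¹ = φ⁻¹) : g ∈ NN φ := by
  rw [mem_normalizer_iff]
  intro a
  have h' : g⁻¹ * φ * g = φ⁻¹ := by
    have h2 : g * φ⁻¹ * g⁻¹ = φ := by
      rw [show g * φ⁻¹ * g⁻¹ = (g * φ * g⁻¹)⁻¹ by group, h, inv_inv]
    calc g⁻¹ * φ * g = g⁻¹ * (g * φ⁻¹ * g⁻¹) * g := by rw [h2]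
      _ = φ⁻¹ := by group
  constructor
  · rintro ⟨k, rfl⟩
    refine ⟨-k, ?_⟩
    show φ ^ (-k) = g * φ ^ k * g⁻¹
    rw [← conj_zpow, h]; simp
  · rintro ⟨k, hk⟩
    refine ⟨-k, ?_⟩
    show φ ^ (-k) = a
    have hk' : φ ^ k = g * a * g⁻¹ := hk
    have : a = g⁻¹ * φ ^ k * g⁻¹⁻¹ := by rw [hk']; group
    rw [this, ← conj_zpow, inv_inv, h']; simp

theorem u1_mem : ψ (swap 0 1) ∈ NN (ph ψ) := mem_NN_of_inv u1_ph

/-- The alternating group on the last eight points in the quotient. -/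
def i8 (ψ : Perm (Fin 12) →* G) (θ : NN (ph ψ) →* Q) : alternatingGroup R8 →* Q :=
  θ.comp ((sub ψ fun z => z ∈ S8).codRestrict _ fun p => mem_NN (fx_ofSubtype p.1))

theorem ev_i8 (θ : NN (ph ψ) →* Q) {p : Perm R8} (hp : p ∈ alternatingGroup R8) :
    ev (i8 ψ θ) p = th θ (ψ (Perm.ofSubtype p)) := by
  rw [ev_of_mem hp, th_of_mem (mem_NN (fx_ofSubtype p))]; rfl

theorem card_R8 : Fintype.card R8 = 8 := by decide

/-- The Higman-Sims group in the quotient. -/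
structure HM (ψ : Perm (Fin 12) →* G) (θ : NN (ph ψ) →* Q) (M : Subgroup Q) : Prop where
  qd : QD (ph ψ) θ
  nM : M.Normal
  hs : Cfsg.Spor.IsoHS M
  cen : ∀ q ∈ 𝐂[M], q = 1
  alt : ∀ a ∈ L8 ψ, th θ a ∈ M
  out : th θ (ψ (swap 0 1)) ∉ M

/-- The classes of involutions of the quotient. -/
def Cls (ψ : Perm (Fin 12) →* G) : Prop :=
  ∀ w ∈ NN (ph ψ), w * w ∈ zpowers (ph ψ) → w ∈ zpowers (ph ψ) ∨ ∃ n ∈ NN (ph ψ), ∃ k : ℕ,
    (w * ph ψ = ph ψ * w ∧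
      (n * w * n⁻¹ = ψ (swap 4 5) * ph ψ ^ k ∨ n * w * n⁻¹ = ψ (dt 4 5 6 7) * ph ψ ^ k)) ∨
    (w * ph ψ * w⁻¹ = (ph ψ)⁻¹ ∧
      (n * w * n⁻¹ = ψ (swap 0 1) * ph ψ ^ k ∨ n * w * n⁻¹ = ψ (swap 0 1 * dt 4 5 6 7) * ph ψ ^ k))

/-- The normal closure of the alternating group on the last eight points in the normalizer. -/
abbrev LL (ψ : Perm (Fin 12) →* G) : Subgroup G := ncl (NN (ph ψ)) (L8 ψ)

/-- The centralizer of `d` is `O(C(d)) N`. -/
def Dec (ψ : Perm (Fin 12) →* G) : Prop :=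
  ∀ g ∈ C1 (dd ψ), ∃ o ∈ Oc (C1 (dd ψ)), o * g ∈ NN (ph ψ)

/-- The component of the centralizer of `d`. -/
structure LD (ψ : Perm (Fin 12) →* G) : Prop where
  perf : ⁅LL ψ, LL ψ⁆ = LL ψ
  le : LL ψ ≤ C1 (ph ψ)
  nrm : C1 (dd ψ) ≤ 𝐍[LL ψ]
  cen : LL ψ ≤ 𝐂[Oc (C1 (dd ψ))]
  two : ∀ w ∈ C1 (dd ψ) ⊓ 𝐂[LL ψ], w * w = 1 → w = 1 ∨ w = dd ψ
  stem : ∃ σ : LL ψ →* Cfsg.Spor.HS, IsStemExtension σ ∧ σ.ker = center (LL ψ)

end Cfsg.Agent.SAc
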