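import Mathlib
import Cfsg.Agent.SAc.Defs

/-!
# S3124, case `A1`: definitions

See `stubs/Cfsg/Agent/SAc/PLAN3.md`.
-/

set_option autoImplicit false

namespace Cfsg.Agent.SAc

open Cfsg Cfsg.Agent.GT Cfsg.Agent.Loc.Mss Cfsg.Agent.SAn Subgroup Equiv

variable {α β : Type} [Fintype α] [DecidableEq α] [Fintype β] [DecidableEq β] {G : Type*} [Group G]

/-- The double transposition on four of eight chosen points. -/
def dE (e : Fin 8 ↪ α) (i j k l : Fin 8) : Perm α := dt (e i) (e j) (e k) (e l)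

/-- The transposition on two of eight chosen points. -/
def sE (e : Fin 8 ↪ α) (i j : Fin 8) : Perm α := swap (e i) (e j)

/-- The formal structure: `Y p` moves `t` to `t p` for each double transposition `p`. -/
structure Yt (ι : alternatingGroup α →* G) (t : G) (Y : Perm α → G) : Prop where
  eight : 8 ≤ Fintype.card α
  inj : Function.Injective ι
  tt : t * t = 1
  tc : ∀ p, ev ι p * t = t * ev ι p
  ph : ∀ p, Dt p → Y p * t * (Y p)⁻¹ = t * ev ι p
  eqv : ∀ q ∈ alternatingGroup α, ∀ p, Dt p → ev ι q * Y p * (ev ι q)⁻¹ = Y (q * p * q⁻¹)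
  sq : (∀ p, Dt p → Y p * Y p = 1) ∨ (∀ p, Dt p → Y p * Y p = ev ι p)
  vc : ∀ a b c d, D4 a b c d → Commute (Y (dt a b c d)) (Y (dt a c b d))
  va : ∀ a b c d, D4 a b c d → Y (dt a b c d) * Y (dt a c b d) * Y (dt a d b c) = 1

/-- The formal structure inside the local configuration. -/
structure YG (ι : alternatingGroup α →* G) (t : G) (Y : Perm α → G) : Prop where
  cf : Cf ι t
  yt : Yt ι t Y
  od : ∀ o, Od ι t o → ∀ p, Dt p → Commute o (Y p)

/-- Disjoint double transpositions. -/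
def DC (Y : Perm α → G) : Prop := ∀ e : Fin 8 ↪ α, Commute (Y (dE e 0 1 2 3)) (Y (dE e 4 5 6 7))

/-- Double transpositions with a common pair and otherwise disjoint. -/
def EC (Y : Perm α → G) : Prop := ∀ e : Fin 8 ↪ α, Commute (Y (dE e 0 1 2 3)) (Y (dE e 0 1 4 5))

/-- The product over two disjoint double transpositions only depends on their product. -/
def GW (Y : Perm α → G) : Prop :=
  ∀ e : Fin 8 ↪ α, Y (dE e 0 1 2 3) * Y (dE e 4 5 6 7) = Y (dE e 0 1 4 5) * Y (dE e 2 3 6 7)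

/-- Additivity on three pairs. -/
def EA0 (Y : Perm α → G) : Prop :=
  ∀ e : Fin 8 ↪ α, Y (dE e 0 1 2 3) * Y (dE e 0 1 4 5) * Y (dE e 2 3 4 5) = 1

/-- Twisted additivity on three pairs. -/
def EA1 (ι : alternatingGroup α →* G) (Y : Perm α → G) : Prop :=
  ∀ e : Fin 8 ↪ α, Y (dE e 0 1 2 3) * Y (dE e 0 1 4 5) * Y (dE e 2 3 4 5) =
    ev ι (dE e 0 1 2 3 * dE e 4 5 6 7)

/-- The formal structure with involutions. -/
structure Zt (ι : alternatingGroup α →* G) (t : G) (Z : Perm α → G) : Prop where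
  yt : Yt ι t Z
  sq : ∀ p, Dt p → Z p * Z p = 1
  dc : DC Z
  ec : EC Z
  gw : GW Z

/-- `Z p` commutes with `t Z q t = Z q * q`. -/
def Good (ι : alternatingGroup α →* G) (Z : Perm α → G) (p q : Perm α) : Prop :=
  Commute (Z p) (Z q * ev ι q)

/-- The hypotheses of the abstract construction of the homocyclic or elementary group above `V`. -/
structure Hat (M : Subgroup G) (t a v c j : G) : Prop where
  tt : t * t = 1
  aa : a * a = 1
  vv : v * v = 1
  jj : j * j = 1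
  ccc : c ^ 3 = 1
  a1 : a ≠ 1
  tM : t ∈ M
  aM : a ∈ M
  vM : v ∈ M
  ca : c * a * c⁻¹ = v
  cv : c * v * c⁻¹ = a * v
  ct : c * t = t * c
  ja : j * a = a * j
  jv : j * v * j⁻¹ = a * v
  jt : j * t = t * j
  jc : j * c * j⁻¹ * c ∈ closure ({a, v} : Set G)
  cM : ∀ g ∈ M, c * g * c⁻¹ ∈ M
  jM : ∀ g ∈ M, j * g * j⁻¹ ∈ M
  cen : ∀ g ∈ M, g * a = a * g ∧ g * v = v * g
  ph : ∀ g ∈ M, g * t * g⁻¹ * t ∈ closure ({a, v} : Set G)
  tV : t ∉ closure ({a, v} : Set G)
  ker : ∀ g ∈ M, g * t = t * g → ∃ o ∈ M, Odd (orderOf o) ∧ (∀ x ∈ M, o * x = x * o) ∧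
    ∃ w ∈ closure ({a, v} : Set G), g = o * w ∨ g = o * w * t
  ex : ∃ x ∈ M, x * t ≠ t * x

end Cfsg.Agent.SAc
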