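import Mathlib
import Cfsg.Agent.SAc.Defs
import Cfsg.Agent.SAn.Perm0

/-! Involutions of symmetric groups. See `stubs/Cfsg/Agent/SAc/PLAN.md`. -/

set_option autoImplicit false
set_option linter.unusedSectionVars false

namespace Cfsg.Agent.SAc

open Cfsg Cfsg.Agent.GT Cfsg.Agent.Loc.Mss Cfsg.Agent.Sym Cfsg.Agent.Loc.SO Cfsg.Agent.SAn Subgroup Equiv
open Cfsg.Agent.StdB (C1 mem_C1)
open scoped commutatorElement

variable {α β γ : Type} [Fintype α] [DecidableEq α] [Fintype β] [DecidableEq β] [Fintype γ]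
  [DecidableEq γ] {G : Type*} [Group G] [Finite G] {ι κ l : alternatingGroup α →* G}
  {ψ : Perm β →* G} {X P M L : Subgroup G} {t s u g o : G} {p q σ τ π : Perm α} {k j : ℕ}

theorem tp_iff_cycleType : Tp p k ↔ p.cycleType = Multiset.replicate k 2 := by
  refine ⟨fun h => ?_, fun h => ⟨?_, ?_⟩⟩
  · have h1 := Perm.cycleType_of_pow_prime_eq_one (p := 2) ((pow_two p).trans h.1)
    have h2 := p.sum_cycleType.trans h.2
    generalize p.cycleType.card = n at h1
    rw [h1, Multiset.sum_replicate, smul_eq_mul] at h2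
    rw [h1, show n = k by omega]
  · rw [← pow_two, Perm.pow_prime_eq_one_iff, h]
    exact fun c hc => Multiset.eq_of_mem_replicate hc
  · rw [← p.sum_cycleType, h, Multiset.sum_replicate, smul_eq_mul, mul_comm]

theorem Tp.ct (h : Tp p k) : p.cycleType = Multiset.replicate k 2 := tp_iff_cycleType.1 h

theorem tp_exists (h : p * p = 1) : ∃ k, Tp p k :=
  (P0.iv_type h).imp fun _ h => tp_iff_cycleType.2 h.1

theorem Tp.unique (h : Tp p k) (h' : Tp p j) : k = j := by
  have := h.2.symm.trans h'.2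
  omega

theorem Tp.le (h : Tp p k) : 2 * k ≤ Fintype.card α := h.2 ▸ p.support.card_le_univ

theorem Tp.even_iff (h : Tp p k) : p ∈ alternatingGroup α ↔ Even k := by
  obtain ⟨n, h1, -, h2⟩ := P0.iv_type h.1
  rw [h.unique (tp_iff_cycleType.2 h1), h2]

theorem Tp.conj (h : Tp p k) (π : Perm α) : Tp (π * p * π⁻¹) k :=
  ⟨by rw [conj_mul, h.1, mul_one, mul_inv_cancel], Perm.card_support_conj.trans h.2⟩

theorem tp_zero : Tp p 0 ↔ p = 1 :=
  ⟨fun h => Perm.card_support_eq_zero.1 h.2, fun h => ⟨by rw [h, mul_one], Perm.card_support_eq_zero.2 h⟩⟩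

theorem tp_one : Tp p 1 ↔ p.IsSwap := tp_iff_cycleType.trans Perm.isSwap_iff_cycleType.symm

theorem tp_two : Tp p 2 ↔ Dt p := by
  refine ⟨fun h => ?_, fun ⟨a, b, c, d, h, e⟩ => tp_iff_cycleType.2 (e ▸ P0.ctype h)⟩
  obtain ⟨a, b, c, d, h'⟩ := exists_D4 h.le
  obtain ⟨π, rfl⟩ := isConj_iff.1 (Perm.isConj_iff_cycleType_eq.2 ((P0.ctype h').trans h.ct.symm))
  exact Dt.conj ⟨_, _, _, _, h', rfl⟩ π

theorem Tp.card_fix (h : Tp p k) : Fintype.card {x // p x = x} = Fintype.card α - 2 * k := by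
  rw [← h.2, ← Finset.card_compl, Fintype.card_subtype]
  congr 1
  ext x
  simp

namespace Pm

theorem pp (h : p * p = 1) (x : α) : p (p x) = x := by rw [← Perm.mul_apply, h, Perm.one_apply]

theorem swap_comm' (h : p * p = 1) (x : α) : swap x (p x) * p = p * swap x (p x) := by
  rw [mul_swap_eq_swap_mul, pp h, swap_comm]

theorem v_comm (h : p * p = 1) {x y : α} (d : D4 x (p x) y (p y)) :
    dt x y (p x) (p y) * p = p * dt x y (p x) (p y) :=
  (mul_inv_eq_iff_eq_mul.1 (by rw [dt_conj, pp h, pp h, d.acb.dt_cdab])).symm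

theorem comm_eq {a b c d : α} (h : D4 a b c d) {g : Perm α} (hg : g * dt a c b d = dt a c b d * g) :
    ⁅swap a b * g, dt a c b d⁆ = dt a b c d := by
  have k : dt a c b d * swap a b * (dt a c b d)⁻¹ = swap c d := by
    rw [← swap_apply_apply, dt, Perm.mul_apply, Perm.mul_apply, swap_apply_of_ne_of_ne h.ab h.ad, swap_apply_left,
      swap_apply_left, swap_apply_of_ne_of_ne h.ad.symm h.cd.symm]
  calc _ = swap a b * (g * dt a c b d * g⁻¹ * (swap a b)⁻¹ * (dt a c b d)⁻¹) := by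
        simp only [commutatorElement_def, mul_inv_rev, mul_assoc]
    _ = _ := by rw [hg, mul_inv_cancel_right, swap_inv, k, dt]

/-- The even products of transpositions of `p` are products of pairs. -/
theorem gen (h : p * p = 1) {D : Subgroup (Perm α)}
    (hD : ∀ x y, D4 x (p x) y (p y) → dt x (p x) y (p y) ∈ D) :
    ∀ n, ∀ q ∈ alternatingGroup α, q.support.card ≤ n → (∀ x, q x = x ∨ q x = p x) → q ∈ D := by
  intro n
  induction n with
  | zero => exact fun q _ hn _ => Perm.card_support_eq_zero.1 (Nat.le_zero.1 hn) ▸ one_mem _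
  | succ n ih =>
    intro q hq hn hs
    by_cases q1 : q = 1
    · exact q1 ▸ one_mem _
    have mv : ∀ x, q x ≠ x → q x = p x ∧ q (p x) = x ∧ x ≠ p x := fun x hx => by
      have k := (hs x).resolve_left hx
      refine ⟨k, (hs (p x)).elim (fun k' => ?_) fun k' => k'.trans (pp h x), fun e => hx (k.trans e.symm)⟩
      exact absurd (k.trans (q.injective (k'.trans k.symm))) hx
    obtain ⟨x, hx⟩ : ∃ x, q x ≠ x := not_forall.1 fun k => q1 (Perm.ext k)
    obtain ⟨x1, x2, x3⟩ := mv x hx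
    obtain ⟨y, hy, y4, y5⟩ : ∃ y, q y ≠ y ∧ y ≠ x ∧ y ≠ p x := by
      by_contra! k
      refine swap_not_mem_alternatingGroup x3 (?_ : swap x (p x) ∈ _)
      rwa [← show q = swap x (p x) from Perm.ext fun z => by
        by_cases e1 : z = x
        · rw [e1, swap_apply_left, x1]
        by_cases e2 : z = p x
        · rw [e2, swap_apply_right, x2]
        rw [swap_apply_of_ne_of_ne e1 e2]
        exact by_contra fun e => e2 (k z e e1)]
    obtain ⟨y1, y2, y3⟩ := mv y hy
    have d : D4 x (p x) y (p y) := ⟨x3, y4.symm, fun e => y5 (by rw [e, pp h]), y5.symm,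
      p.injective.ne y4.symm, y3⟩
    have e : ∀ z, (q * dt x (p x) y (p y)) z = z ∨ ((q * dt x (p x) y (p y)) z = q z ∧ z ≠ x) := fun z => by
      rw [dt, Perm.mul_apply, Perm.mul_apply]
      by_cases e1 : z = y
      · rw [e1, swap_apply_left, swap_apply_of_ne_of_ne d.ad.symm d.bd.symm, y2]; exact .inl rfl
      by_cases e2 : z = p y
      · rw [e2, swap_apply_right, swap_apply_of_ne_of_ne y4 y5, y1]; exact .inl rfl
      rw [swap_apply_of_ne_of_ne e1 e2]
      by_cases e3 : z = x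
      · rw [e3, swap_apply_left, x2]; exact .inl rfl
      by_cases e4 : z = p x
      · rw [e4, swap_apply_right, x1]; exact .inl rfl
      rw [swap_apply_of_ne_of_ne e3 e4]
      exact .inr ⟨rfl, e3⟩
    refine (mul_mem_cancel_right (hD x y d)).1 (ih _ (mul_mem hq d.mem) ?_ fun z => ?_)
    · refine Nat.le_of_lt_succ (lt_of_lt_of_le (Finset.card_lt_card ⟨fun z hz => ?_, fun k => ?_⟩) hn)
      · rw [Perm.mem_support] at hz ⊢
        exact ((e z).resolve_left hz).1 ▸ hz
      · exact ((e x).resolve_left (Perm.mem_support.1 (k (Perm.mem_support.2 hx)))).2 rfl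
    · exact (e z).elim .inl fun k => k.1 ▸ hs z

end Pm

/-- Involutions of the same type are conjugate by an even permutation. -/
theorem Tp.alt_conj (h : Tp p k) (h' : Tp q k) : ∃ π ∈ alternatingGroup α, π * p * π⁻¹ = q := by
  by_cases p1 : p = 1
  · obtain rfl := h.unique (tp_zero.2 p1)
    exact ⟨1, one_mem _, by rw [p1, tp_zero.1 h']; simp⟩
  obtain ⟨π, rfl⟩ := isConj_iff.1 (Perm.isConj_iff_cycleType_eq.2 (h.ct.trans h'.ct.symm))
  by_cases hπ : π ∈ alternatingGroup α
  · exact ⟨π, hπ, rfl⟩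
  obtain ⟨x, hx⟩ : ∃ x, p x ≠ x := not_forall.1 fun k => p1 (Perm.ext k)
  refine ⟨π * swap x (p x), ?_, ?_⟩
  · rw [Perm.mem_alternatingGroup, map_mul, sign_eq_neg_one_of_not_mem hπ, Perm.sign_swap hx.symm]
    rfl
  · rw [mul_assoc π, Pm.swap_comm' h.1]
    group

theorem Tp.mul_disjoint (h : Tp p k) (h' : Tp q j) (hd : p.Disjoint q) : Tp (p * q) (k + j) :=
  ⟨by rw [hd.commute.symm.mul_mul_mul_comm, h.1, h'.1, mul_one], by rw [hd.card_support_mul, h.2, h'.2, mul_add]⟩

theorem Tp.ofSubtype {P : α → Prop} [DecidablePred P] {r : Perm {z // P z}} :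
    Tp (Perm.ofSubtype r) k ↔ Tp r k := by
  rw [tp_iff_cycleType, tp_iff_cycleType, Perm.cycleType_ofSubtype]

theorem tp_of_std (e : Fin k × Bool ↪ α) (h1 : ∀ i b, p (e (i, b)) = e (i, !b))
    (h2 : ∀ x, (∀ z, e z ≠ x) → p x = x) : Tp p k := by
  refine ⟨Perm.ext fun x => ?_, ?_⟩
  · by_cases hx : ∀ z, e z ≠ x
    · rw [Perm.mul_apply, h2 x hx, h2 x hx, Perm.one_apply]
    · push Not at hx
      obtain ⟨⟨i, b⟩, rfl⟩ := hx
      rw [Perm.mul_apply, h1, h1, Bool.not_not, Perm.one_apply]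
  · rw [show p.support = Finset.univ.map e from Finset.ext fun x => ?_, Finset.card_map, Finset.card_univ,
      Fintype.card_prod, Fintype.card_fin, Fintype.card_bool, mul_comm]
    rw [Perm.mem_support, Finset.mem_map]
    refine ⟨fun hx => by_contra fun k => hx (h2 x fun z hz => k ⟨z, Finset.mem_univ _, hz⟩), ?_⟩
    rintro ⟨⟨i, b⟩, -, rfl⟩ k
    rw [h1] at k
    exact Bool.not_ne_self b (congrArg Prod.snd (e.injective k))

/-- Standard form: the transpositions are `(e (i, false), e (i, true))`. -/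
theorem Tp.std (h : Tp p k) : ∃ e : Fin k × Bool ↪ α, (∀ i b, p (e (i, b)) = e (i, !b)) ∧
    ∀ x, (∀ z, e z ≠ x) → p x = x := by
  obtain ⟨e⟩ := Function.Embedding.nonempty_of_card_le (α := Fin k × Bool) (β := α) (by
    rw [Fintype.card_prod, Fintype.card_fin, Fintype.card_bool, mul_comm]; exact h.le)
  obtain ⟨r, h1, h2⟩ : ∃ r : Perm α, (∀ i b, r (e (i, b)) = e (i, !b)) ∧ ∀ x, (∀ z, e z ≠ x) → r x = x :=
    ⟨Perm.viaEmbedding (Equiv.prodCongr (Equiv.refl _) Equiv.boolNot) e, fun i b => Perm.viaEmbedding_apply _ _ _,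
      fun x hx => Perm.viaEmbedding_apply_of_notMem _ _ _ fun ⟨z, hz⟩ => hx z hz⟩
  obtain ⟨π, -, rfl⟩ := (tp_of_std e h1 h2).alt_conj h
  refine ⟨e.trans π.toEmbedding, fun i b => ?_, fun x hx => ?_⟩
  · simp [h1]
  · rw [Perm.mul_apply, Perm.mul_apply, h2 _ fun z hz => hx z (by simp [hz])]
    simp

theorem Tp.card_cent (h : Tp p k) :
    Nat.card (C1 p) = (Fintype.card α - 2 * k).factorial * 2 ^ k * k.factorial :=
  card_centralizer_of_cycleType_replicate h.ct

/-- An even involution is in the derived group of its even centralizer. -/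
theorem der_of_even (h6 : 6 ≤ Fintype.card α) (hp : p ∈ alternatingGroup α) (h : p * p = 1) :
    p ∈ ⁅C1 p ⊓ alternatingGroup α, C1 p ⊓ alternatingGroup α⁆ := by
  refine Pm.gen h (fun x y d => ?_) _ p hp le_rfl fun _ => .inr rfl
  have op : ∀ z, SAn.Out x (p x) y (p y) z → SAn.Out x (p x) y (p y) (p z) := fun z o =>
    ⟨fun e => o.b (by rw [← e, Pm.pp h]), p.injective.ne o.a, fun e => o.d (by rw [← e, Pm.pp h]),
      p.injective.ne o.c⟩
  obtain ⟨z, w, oz, ow, zw, c⟩ : ∃ z w, SAn.Out x (p x) y (p y) z ∧ SAn.Out x (p x) y (p y) w ∧ z ≠ w ∧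
      swap z w * p = p * swap z w := by
    obtain ⟨z, w, oz, ow, zw⟩ := exists_out2 h6 x (p x) y (p y)
    by_cases e1 : p z = z
    · by_cases e2 : p w = w
      · exact ⟨z, w, oz, ow, zw, by rw [mul_swap_eq_swap_mul, e1, e2]⟩
      · exact ⟨w, p w, ow, op w ow, Ne.symm e2, Pm.swap_comm' h w⟩
    · exact ⟨z, p z, oz, op z oz, Ne.symm e1, Pm.swap_comm' h z⟩
  have fx : ∀ z, SAn.Out x (p x) y (p y) z → dt x y (p x) (p y) z = z := fun z o => by
    rw [dt, Perm.mul_apply, swap_apply_of_ne_of_ne o.b o.d, swap_apply_of_ne_of_ne o.a o.c]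
  rw [← Pm.comm_eq d (g := swap z w) (by rw [mul_swap_eq_swap_mul, fx z oz, fx w ow])]
  exact commutator_mem_commutator (mem_inf.2 ⟨mul_mem (mem_C1.2 (Pm.swap_comm' h x)) (mem_C1.2 c), dt_mem d.ab zw⟩)
    (mem_inf.2 ⟨mem_C1.2 (Pm.v_comm h d), d.acb.mem⟩)

/-- An even involution is in the derived group of its centralizer in the symmetric group. -/
theorem der_of_even' (hp : p ∈ alternatingGroup α) (h : p * p = 1) : p ∈ ⁅C1 p, C1 p⁆ := by
  refine Pm.gen h (fun x y d => ?_) _ p hp le_rfl fun _ => .inr rfl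
  rw [← Pm.comm_eq d (g := 1) (by rw [one_mul, mul_one])]
  exact commutator_mem_commutator (mul_mem (mem_C1.2 (Pm.swap_comm' h x)) (one_mem _)) (mem_C1.2 (Pm.v_comm h d))

end Cfsg.Agent.SAc
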