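import Mathlib
import Cfsg.Agent.SAc.Pm
import Cfsg.Agent.Sym.Aut

/-! Subgroups of centralizers of involutions in symmetric groups. See `stubs/Cfsg/Agent/SAc/PLAN.md`. -/

set_option autoImplicit false
set_option linter.unusedSectionVars false

namespace Cfsg.Agent.SAc

open Cfsg Cfsg.Agent.GT Cfsg.Agent.Loc.Mss Cfsg.Agent.Sym Cfsg.Agent.Loc.SO Cfsg.Agent.SAn Subgroup Equiv
open Cfsg.Agent.StdB (C1 mem_C1)
open scoped commutatorElement

variable {α β γ : Type} [Fintype α] [DecidableEq α] [Fintype β] [DecidableEq β] [Fintype γ]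
  [DecidableEq γ] {G : Type*} [Group G] [Finite G] {ι κ l : alternatingGroup α →* G}
  {ψ : Perm β →* G} {X P M L : Subgroup G} {t s u g o : G} {p q σ τ π : Perm α} {k j : ℕ}

namespace PmB

theorem app (h : σ * τ = τ * σ) (x : α) : σ (τ x) = τ (σ x) := by
  rw [← Perm.mul_apply, h, Perm.mul_apply]

theorem inv_app (σ : Perm α) (x : α) : σ⁻¹ (σ x) = x := σ.symm_apply_apply x

theorem app_inv (σ : Perm α) (x : α) : σ (σ⁻¹ x) = x := σ.apply_symm_apply x

theorem ex_out {s r : Finset α} (h : r.card < s.card) : ∃ x ∈ s, x ∉ r :=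
  Finset.exists_mem_notMem_of_card_lt_card h

theorem card_comap {s : Finset α} {H : Subgroup (Perm α)} (hH : ∀ σ ∈ H, ∀ x ∉ s, σ x = x) :
    Nat.card (H.comap (Perm.ofSubtype : Perm {x // x ∈ s} →* Perm α)) = Nat.card H := by
  rw [← card_map_of_injective Perm.ofSubtype_injective, map_comap_eq_self fun σ hσ =>
    Perm.mem_range_ofSubtype_iff.2 fun x hx => by
      by_contra h
      exact Perm.mem_support.1 hx (hH σ hσ x h)]

theorem card_perm (s : Finset α) : Nat.card (Perm {x // x ∈ s}) = s.card.factorial := by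
  rw [Nat.card_perm, Nat.card_eq_fintype_card, Fintype.card_coe]

/-- The action of the centralizer of an involution on its transpositions. -/
theorem pair_hom (h : Tp τ k) : ∃ φ : C1 τ →* Perm (Fin k),
    ∀ σ : C1 τ, φ σ = 1 → ∀ x, τ x ≠ x → (σ : Perm α) x = x ∨ (σ : Perm α) x = τ x := by
  obtain ⟨e, h1, h2⟩ := h.std
  have h3 : ∀ x, τ x ≠ x → ∃ z, e z = x := fun x hx => by
    by_contra hc
    push Not at hc
    exact hx (h2 x hc)
  have h4 : ∀ z, τ (e z) ≠ e z := fun ⟨i, b⟩ hz => by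
    rw [h1] at hz
    simpa using e.injective hz
  have h5 : ∀ (σ : C1 τ) z, ∃ w, e w = (σ : Perm α) (e z) := fun σ z => h3 _ fun hz =>
    h4 z ((σ : Perm α).injective ((app (mem_C1.1 σ.2) _).trans hz))
  choose F hF using h5
  have h6 : ∀ (σ : C1 τ) i b, (F σ (i, b)).1 = (F σ (i, false)).1 := fun σ i b => by
    cases b
    · rfl
    · have := hF σ (i, true)
      rw [show e (i, true) = τ (e (i, false)) from (h1 i false).symm, app (mem_C1.1 σ.2), ← hF,
        show F σ (i, false) = ((F σ (i, false)).1, (F σ (i, false)).2) from rfl, h1] at this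
      have h7 := congrArg Prod.fst (e.injective this)
      exact h7
  let f : C1 τ →* Function.End (Fin k) :=
    { toFun := fun σ i => (F σ (i, false)).1
      map_one' := funext fun i => congrArg Prod.fst (e.injective (hF 1 (i, false)))
      map_mul' := fun a b => funext fun i => by
        have : F (a * b) (i, false) = F a (F b (i, false)) := e.injective (by rw [hF, hF, hF]; rfl)
        exact (congrArg Prod.fst this).trans (h6 a _ _) }
  refine ⟨f.toHomPerm, fun σ hσ x hx => ?_⟩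
  obtain ⟨⟨i, b⟩, rfl⟩ := h3 x hx
  have h7 : (F σ (i, b)).1 = i := (h6 σ i b).trans (congrArg (fun r : Perm (Fin k) => r i) hσ)
  rw [← hF, h1, show F σ (i, b) = (i, (F σ (i, b)).2) from Prod.ext h7 rfl]
  generalize (F σ (i, b)).2 = c
  cases b <;> cases c <;> simp

theorem le_of_dvd {m j : ℕ} (h5 : 5 ≤ m) {c : ℕ} (hc : 2 * c = m.factorial) (h : c ∣ j.factorial) : m ≤ j := by
  by_contra hj
  obtain ⟨n, rfl⟩ : ∃ n, m = n + 1 := ⟨m - 1, by omega⟩
  have h1 := Nat.le_of_dvd j.factorial_pos h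
  have h2 : j.factorial ≤ n.factorial := Nat.factorial_le (by omega)
  have h3 := n.factorial_pos
  rw [Nat.factorial_succ] at hc
  nlinarith

theorem odd_sq {N : Subgroup (Perm α)} (ho : Odd (Nat.card N)) (h : σ ∈ N) (h2 : σ * σ = 1) : σ = 1 := by
  have h1 : orderOf σ ∣ 2 := orderOf_dvd_of_pow_eq_one (by rw [pow_two, h2])
  exact orderOf_eq_one_iff.1 (Nat.Coprime.eq_one_of_dvd
    ((ho.of_dvd_nat (N.orderOf_dvd_natCard h)).coprime_two_right) h1)

theorem odd_fix {N : Subgroup (Perm α)} (ho : Odd (Nat.card N)) (h : σ ∈ N) {x : α} (hx : (σ ^ 4) x = x) :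
    σ x = x := by
  have h1 : σ ∈ zpowers (σ ^ 4) := mem_zpowers_pow_iff.2
    ((Nat.coprime_two_left.2 (ho.of_dvd_nat (N.orderOf_dvd_natCard h))).pow_left 2)
  obtain ⟨n, hn⟩ := mem_zpowers_iff.1 h1
  have := Perm.zpow_apply_eq_self_of_apply_eq_self hx n
  rwa [hn] at this

/-- Products of transpositions of `τ`. -/
def Fl (τ w : Perm α) : Prop := w * τ = τ * w ∧ ∀ z, w z = z ∨ w z = τ z

theorem Fl.mul {v w : Perm α} (h : τ * τ = 1) (hv : Fl τ v) (hw : Fl τ w) : Fl τ (v * w) :=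
  ⟨(show Commute v τ from hv.1).mul_left hw.1, fun z => by
    have h2 : τ (τ z) = z := by rw [← Perm.mul_apply, h, Perm.one_apply]
    rw [Perm.mul_apply]
    rcases hw.2 z with e | e <;> rw [e]
    · exact hv.2 z
    · rw [app hv.1]
      rcases hv.2 z with e | e <;> rw [e]
      exacts [.inr rfl, .inl h2]⟩

theorem Fl.sq {w : Perm α} (h : τ * τ = 1) (hw : Fl τ w) : w * w = 1 := Perm.ext fun z => by
  rw [Perm.mul_apply, Perm.one_apply]
  rcases hw.2 z with e | e
  · rw [e, e]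
  · rw [e, app hw.1, e, ← Perm.mul_apply, h, Perm.one_apply]

theorem Fl.conj {w : Perm α} (hw : Fl τ w) (h : σ * τ = τ * σ) : Fl τ (σ * w * σ⁻¹) :=
  ⟨((show Commute σ τ from h).mul_left hw.1).mul_left (Commute.inv_left h), fun z => by
    obtain ⟨y, rfl⟩ := σ.surjective z
    rw [Perm.mul_apply, Perm.mul_apply, inv_app, ← app h]
    exact (hw.2 y).imp (congrArg σ) (congrArg σ)⟩

theorem fl_swap (h : τ * τ = 1) (x : α) : Fl τ (swap x (τ x)) := by
  have h2 : τ (τ x) = x := by rw [← Perm.mul_apply, h, Perm.one_apply]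
  refine ⟨by rw [mul_swap_eq_swap_mul, h2, swap_comm], fun z => ?_⟩
  by_cases h3 : z = x
  · rw [h3, swap_apply_left]; exact .inr rfl
  · by_cases h4 : z = τ x
    · rw [h4, swap_apply_right, h2]; exact .inr rfl
    · exact .inl (swap_apply_of_ne_of_ne h3 h4)

theorem d8 : ∀ ν : Perm (Fin 4), ν * dt 0 1 2 3 = dt 0 1 2 3 * ν → ν ^ 4 = 1 := by decide +kernel

theorem four_type {ρ : Perm β} (h6 : Fintype.card β = 6) (h4 : orderOf ρ = 4) (ho : ρ ∉ alternatingGroup β) :
    ρ.cycleType = {4} := by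
  have h1 : 4 ∈ ρ.cycleType := by
    by_contra hc
    have : ρ.cycleType.lcm ∣ 2 := Multiset.lcm_dvd.2 fun n hn => by
      have h2 : n ∣ 4 := h4 ▸ Perm.dvd_of_mem_cycleType hn
      have h3 : n ≠ 4 := fun e => hc (e ▸ hn)
      have h5 := Nat.le_of_dvd (by norm_num) h2
      interval_cases n <;> simp_all
    rw [Perm.lcm_cycleType, h4] at this
    omega
  obtain ⟨m, hm⟩ := Multiset.exists_cons_of_mem h1
  have h2 := ρ.sum_cycleType_le
  rw [hm, Multiset.sum_cons, h6] at h2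
  by_contra hc
  obtain ⟨n, hn⟩ := Multiset.exists_mem_of_ne_zero (s := m) fun e => hc (by rw [hm, e]; rfl)
  obtain ⟨m', rfl⟩ := Multiset.exists_cons_of_mem hn
  have h3 : ∀ a ∈ n ::ₘ m', 2 ≤ a := fun a ha => Perm.two_le_of_mem_cycleType (hm ▸ Multiset.mem_cons_of_mem ha)
  have h5 := h3 n hn
  rw [Multiset.sum_cons] at h2
  have h7 : m' = 0 := by
    by_contra e
    obtain ⟨a, ha⟩ := Multiset.exists_mem_of_ne_zero e
    have := h3 a (Multiset.mem_cons_of_mem ha)
    have := Multiset.single_le_sum (fun _ _ => Nat.zero_le _) a ha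
    omega
  obtain rfl : n = 2 := by omega
  refine ho (Perm.mem_alternatingGroup.2 ?_)
  rw [Perm.sign_of_cycleType, hm, h7]
  decide

end PmB

open PmB

theorem cent_altOn {s : Finset α} (h4 : 4 ≤ s.card) (h : σ ∈ 𝐂[altOn s]) : ∀ x ∈ s, σ x = x := fun x hx => by
  by_contra hy
  obtain ⟨c, hc, h1⟩ := ex_out (s := s) (r := {x, σ x}) (lt_of_le_of_lt Finset.card_le_two (by omega))
  obtain ⟨d, hd, h2⟩ := ex_out (s := s) (r := {x, σ x, c}) (lt_of_le_of_lt Finset.card_le_three (by omega))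
  simp only [Finset.mem_insert, Finset.mem_singleton, not_or] at h1 h2
  have h3 : cyc3 x c d ∈ altOn s := mem_altOn.2 ⟨cyc3_mem_alternatingGroup (Ne.symm h1.1) (Ne.symm h2.2.2),
    fun z hz => cyc3_apply_of_ne (fun e => hz (e ▸ hx)) (fun e => hz (e ▸ hc)) fun e => hz (e ▸ hd)⟩
  have h5 := app (mem_cent.1 h _ h3) x
  rw [cyc3_apply_of_ne hy (Ne.symm h1.2) (Ne.symm h2.2.1), cyc3_apply_fst (Ne.symm h1.1) (Ne.symm h2.1)] at h5
  exact h1.1 (σ.injective h5).symm

/-- A group moving only points of `s` of order at least `|s|! / 2` contains the alternating group. -/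
theorem altOn_le_of_card {s : Finset α} {H : Subgroup (Perm α)} (hH : ∀ σ ∈ H, ∀ x ∉ s, σ x = x)
    (hc : s.card.factorial ≤ 2 * Nat.card H) : altOn s ≤ H := by
  have h1 := (H.comap (Perm.ofSubtype : Perm {x // x ∈ s} →* Perm α)).index_mul_card
  rw [card_comap hH, card_perm] at h1
  have h2 : 0 < Nat.card H := Nat.card_pos
  have h3 := Perm.alternatingGroup_le_of_index_le_two
    (G := H.comap (Perm.ofSubtype : Perm {x // x ∈ s} →* Perm α)) (Nat.le_of_mul_le_mul_right (h1 ▸ hc) h2)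
  rintro _ ⟨r, rfl⟩
  exact h3 r.2

/-- A non-abelian simple group centralizing an involution acts faithfully on its transpositions or
moves only fixed points. -/
theorem simple_cent {B : Subgroup (Perm α)} (hB : IsSimpleGroup B) (hn : ¬ B ≤ 𝐂[B]) (h : Tp τ k)
    (hc : B ≤ C1 τ) : (Nat.card B ∣ k.factorial) ∨ ∀ σ ∈ B, ∀ x, τ x ≠ x → σ x = x := by
  obtain ⟨φ, hφ⟩ := pair_hom h
  rcases IsSimpleGroup.eq_bot_or_eq_top_of_normal (φ.comp (inclusion hc)).ker inferInstance with e | e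
  · have := card_dvd_of_injective _ ((MonoidHom.ker_eq_bot_iff _).1 e)
    rw [Nat.card_perm, Nat.card_eq_fintype_card (α := Fin k), Fintype.card_fin] at this
    exact .inl this
  · have h1 : ∀ σ ∈ B, ∀ x, τ x ≠ x → σ x = x ∨ σ x = τ x := fun σ hσ =>
      hφ ⟨σ, hc hσ⟩ (show (⟨σ, hσ⟩ : B) ∈ (φ.comp (inclusion hc)).ker from e ▸ mem_top _)
    have h2 : commutator B = ⊤ :=
      (IsSimpleGroup.eq_bot_or_eq_top_of_normal _ inferInstance).resolve_left fun e' =>
        hn (commutator_eq_bot_iff_le_centralizer.1 (by rw [← map_subtype_commutator, e', Subgroup.map_bot]))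
    have h3 : ⁅B, B⁆ ≤ fixingSubgroup (Perm α) {x | τ x ≠ x} := commutator_le.2 fun a ha b hb =>
      (mem_fixingSubgroup_iff _).2 fun x hx => by
        have h4 : τ (b⁻¹ x) ≠ b⁻¹ x := fun e' => hx (by
          rw [← app (mem_C1.1 (hc (inv_mem hb)))] at e'; exact b⁻¹.injective e')
        have h5 : τ (a⁻¹ (b⁻¹ x)) ≠ a⁻¹ (b⁻¹ x) := fun e' => h4 (by
          rw [← app (mem_C1.1 (hc (inv_mem ha)))] at e'; exact a⁻¹.injective e')
        have h6 : ∀ y, τ y ≠ y → a (b y) = b (a y) := fun y hy => by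
          rcases h1 a ha y hy with e1 | e1 <;> rcases h1 b hb y hy with e2 | e2 <;>
            simp only [e1, e2, app (mem_C1.1 (hc ha)), app (mem_C1.1 (hc hb))]
        rw [commutatorElement_def, Perm.smul_def, Perm.mul_apply, Perm.mul_apply, Perm.mul_apply, h6 _ h5,
          app_inv, app_inv]
    rw [← map_subtype_commutator, h2, ← MonoidHom.range_eq_map, range_subtype] at h3
    exact .inr fun σ hσ x hx => (mem_fixingSubgroup_iff _).1 (h3 hσ) x hx

theorem card_dvd_of_fix {B : Subgroup (Perm α)} {s : Finset α} (hH : ∀ σ ∈ B, ∀ x ∉ s, σ x = x) :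
    Nat.card B ∣ s.card.factorial := by
  rw [← card_comap hH, ← card_perm]
  exact card_subgroup_dvd_card _

/-- `A_m` centralizes an involution only if `m` points are fixed or there are `m` transpositions. -/
theorem alt_cent (h5 : 5 ≤ Fintype.card β) (f : alternatingGroup β →* Perm α)
    (hf : Function.Injective f) (h : Tp τ k) (hc : ∀ b, f b * τ = τ * f b) :
    Fintype.card β ≤ k ∨ (Fintype.card β + 2 * k ≤ Fintype.card α ∧ ∀ b x, τ x ≠ x → f b x = x) := by
  have hs : IsSimpleGroup (alternatingGroup β) :=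
    alternatingGroup.isSimpleGroup (by rwa [Nat.card_eq_fintype_card])
  have : Nontrivial β := Fintype.one_lt_card_iff_nontrivial.1 (by omega)
  have h1 : 2 * Nat.card f.range = (Fintype.card β).factorial := by
    rw [← Nat.card_congr (MonoidHom.ofInjective hf).toEquiv, two_mul_nat_card_alternatingGroup, Nat.card_perm,
      Nat.card_eq_fintype_card]
  have h2 : ¬ f.range ≤ 𝐂[f.range] := fun hle => by
    obtain ⟨a, b, c, d, h4⟩ := exists_D4 (α := β) (by omega)
    refine h4.iv.2 (eq_one_of_commute_alternatingGroup (by omega) fun x hx => ?_)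
    have := mem_cent.1 (hle ⟨⟨_, h4.mem⟩, rfl⟩) _ ⟨⟨x, hx⟩, rfl⟩
    rw [← map_mul, ← map_mul] at this
    exact congrArg Subtype.val (hf this)
  refine (simple_cent (MonoidHom.ofInjective hf).symm.isSimpleGroup h2 h
    (by rintro _ ⟨b, rfl⟩; exact mem_C1.2 (hc b))).imp (le_of_dvd h5 h1) fun h3 => ⟨?_, fun b => h3 _ ⟨b, rfl⟩⟩
  have h4 := le_of_dvd h5 h1 (card_dvd_of_fix (s := τ.supportᶜ) fun σ hσ x hx =>
    h3 σ hσ x (Perm.mem_support.1 (by simpa using hx)))
  rw [Finset.card_compl, h.2] at h4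
  have := h.le
  omega

/-- A subgroup of odd order normalized by the even centralizer of an even involution. -/
theorem odd_norm {N : Subgroup (Perm α)} (h : Tp τ k) (h2 : 2 ≤ k)
    (h3 : Fintype.card α ≠ 2 * k + 3) (ho : Odd (Nat.card N)) (hc : N ≤ C1 τ)
    (hn : C1 τ ⊓ alternatingGroup α ≤ 𝐍[N]) : N = ⊥ := by
  have tt : ∀ x, τ (τ x) = x := fun x => by rw [← Perm.mul_apply, h.1, Perm.one_apply]
  have nm : ∀ v, v * τ = τ * v → v ∈ alternatingGroup α → ∀ σ ∈ N, v * σ * v⁻¹ ∈ N := fun v h4 h5 σ hσ =>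
    (mem_normalizer_iff.1 (hn ⟨mem_C1.2 h4, h5⟩) σ).1 hσ
  have k1 : ∀ σ ∈ N, ∀ x, τ x ≠ x → σ x = x := fun σ hσ x hx => by
    obtain ⟨y, hy, h4⟩ := ex_out (s := τ.support) (r := {x, τ x})
      (lt_of_le_of_lt Finset.card_le_two (by rw [h.2]; omega))
    simp only [Finset.mem_insert, Finset.mem_singleton, not_or] at h4
    have d4 : D4 x (τ x) y (τ y) := ⟨hx.symm, Ne.symm h4.1, fun e => h4.2 (by rw [e, tt]), Ne.symm h4.2,
      fun e => h4.1 (τ.injective e).symm, (Perm.mem_support.1 hy).symm⟩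
    have fv : Fl τ (dt x (τ x) y (τ y)) := (fl_swap h.1 x).mul h.1 (fl_swap h.1 y)
    have h5 : σ * (dt x (τ x) y (τ y) * σ⁻¹ * (dt x (τ x) y (τ y))⁻¹) = 1 :=
      odd_sq ho (mul_mem hσ (nm _ fv.1 d4.mem _ (inv_mem hσ))) (by
        rw [inv_eq_of_mul_eq_one_right d4.iv.1, ← mul_assoc, ← mul_assoc]
        exact ((fv.conj (mem_C1.1 (hc hσ))).mul h.1 fv).sq h.1)
    rw [← mul_assoc, ← mul_assoc, mul_inv_eq_one, mul_inv_eq_iff_eq_mul] at h5
    obtain ⟨ν, hν⟩ := P0.exists_res' d4 (d4.map_of_comm h5)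
    have h6 := d8 ν (P0.res_comm d4 hν (by rw [P0.Φ1]; exact h5))
    have h7 : ∀ n i, (σ ^ n) (P0.e d4 i) = P0.e d4 ((ν ^ n) i) := fun n => by
      induction n with
      | zero => intro i; rfl
      | succ n ih => intro i; rw [pow_succ, pow_succ, Perm.mul_apply, Perm.mul_apply, hν, ih]
    exact odd_fix ho hσ (by have := h7 4 0; rwa [h6] at this)
  obtain ⟨u, hu⟩ : τ.support.Nonempty := Finset.card_pos.1 (by rw [h.2]; omega)
  rw [Perm.mem_support] at hu
  have k2 : ∀ a b, a ≠ b → τ a = a → τ b = b → ∀ σ ∈ N, swap a b * σ * (swap a b)⁻¹ ∈ N :=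
    fun a b hab ha hb σ hσ => by
      have c1 : Commute (swap a b) τ := by
        rw [Commute, SemiconjBy, mul_swap_eq_swap_mul, ha, hb]
      have c2 : swap u (τ u) * σ = σ * swap u (τ u) := by
        rw [mul_swap_eq_swap_mul, k1 σ hσ u hu, k1 σ hσ (τ u) (by rw [tt]; exact hu.symm)]
      have := nm (swap a b * swap u (τ u)) (c1.mul_left (fl_swap h.1 u).1) (dt_mem hab hu.symm) σ hσ
      rwa [mul_assoc (swap a b), c2, mul_inv_rev, ← mul_assoc, ← mul_assoc, mul_inv_cancel_right] at this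
  refine eq_bot_iff.2 fun σ hσ => mem_bot.2 (Perm.ext fun x => ?_)
  by_contra hx
  rw [Perm.one_apply] at hx
  have tx : τ x = x := by_contra fun e => hx (k1 σ hσ x e)
  have fx : ∀ a, τ a = a → τ (σ a) = σ a := fun a ha => by rw [← app (mem_C1.1 (hc hσ)), ha]
  have h4 : σ (σ x) ≠ x := fun e => hx (odd_fix ho hσ (by
    simp only [pow_succ, pow_zero, one_mul, Perm.mul_apply, e]))
  have h5 : σ (σ x) ≠ σ x := fun e => hx (σ.injective e)
  obtain ⟨w, tw, hw⟩ : ∃ w, τ w = w ∧ w ∉ ({x, σ x, σ (σ x)} : Finset α) := by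
    by_contra hc'
    push Not at hc'
    have h6 : τ.supportᶜ = {x, σ x, σ (σ x)} := Finset.ext fun a => ⟨fun ha => hc' a (by simpa using ha), fun ha => by
      simp only [Finset.mem_insert, Finset.mem_singleton] at ha
      rcases ha with rfl | rfl | rfl <;> simp [tx, fx]⟩
    have h7 := congrArg Finset.card h6
    rw [Finset.card_compl, h.2, Finset.card_eq_three.2 ⟨_, _, _, Ne.symm hx, h4.symm, h5.symm, rfl⟩] at h7
    omega
  simp only [Finset.mem_insert, Finset.mem_singleton, not_or] at hw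
  have h6 : swap x (σ⁻¹ w) * swap (σ x) w ∈ N := by
    have := mul_mem (inv_mem hσ) (k2 (σ x) w (Ne.symm hw.2.1) (fx x tx) tw σ hσ)
    rwa [← mul_assoc, ← mul_assoc, mul_swap_eq_swap_mul, inv_app, inv_mul_cancel_right, swap_inv] at this
  by_cases h7 : σ⁻¹ w = w
  · rw [h7, swap_comm (σ x)] at h6
    have h8 := k2 (σ x) (σ (σ x)) h5.symm (fx x tx) (fx _ (fx x tx)) (cyc3 x w (σ x)) h6
    rw [conj_cyc3, swap_apply_of_ne_of_ne (Ne.symm hx) h4.symm, swap_apply_of_ne_of_ne hw.2.1 hw.2.2,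
      swap_apply_left] at h8
    have h9 := mul_mem (show cyc3 x w (σ x) ∈ N from h6) h8
    rw [cyc3_mul_cyc3 _ (Ne.symm hw.1) (Ne.symm hx) hw.2.1] at h9
    have d4 : D4 x (σ x) w (σ (σ x)) := ⟨Ne.symm hx, Ne.symm hw.1, h4.symm, Ne.symm hw.2.1, h5.symm, hw.2.2⟩
    exact d4.iv.2 (odd_sq ho h9 d4.iv.1)
  · have d4 : D4 x (σ⁻¹ w) (σ x) w := ⟨fun e => hw.2.1 (by rw [e, app_inv]), Ne.symm hx, Ne.symm hw.1,
      fun e => hw.2.2 (by rw [← e, app_inv]), h7, Ne.symm hw.2.1⟩
    exact d4.iv.2 (odd_sq ho h6 d4.iv.1)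

/-- Isomorphisms between symmetric groups. -/
theorem swap_image (h4 : 4 ≤ Fintype.card α) (hc : Fintype.card α = Fintype.card β)
    (f : Perm α →* Perm β) (hf : Function.Injective f) :
    (∃ e : α ≃ β, ∀ σ, f σ = e.permCongr σ) ∨
      (Fintype.card α = 6 ∧ (∀ σ, Tp σ 1 → Tp (f σ) 3) ∧ (∀ σ, Tp σ 2 → Tp (f σ) 2) ∧
        (∀ σ, Tp σ 3 → Tp (f σ) 1) ∧ ∀ σ, σ.cycleType = {4} → (f σ).cycleType = {4}) := by
  have hb : Function.Bijective f := (Fintype.bijective_iff_injective_and_card f).2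
    ⟨hf, by rw [Fintype.card_perm, Fintype.card_perm, hc]⟩
  let φ := MulEquiv.ofBijective f hb
  by_cases h6 : Fintype.card α = 6
  swap
  · exact .inl (exists_equiv_of_mulEquiv_perm h4 h6 hc φ)
  by_cases hs : ∀ g : Perm α, g.IsSwap → (f g).IsSwap
  · exact .inl (exists_equiv_of_isSwap h4 hc f hf hs)
  push Not at hs
  obtain ⟨s₀, s1, s2⟩ := hs
  have key : ∀ σ k, Tp σ k → ∃ j, j ≤ 3 ∧ Tp (f σ) j ∧
      (6 - 2 * j).factorial * 2 ^ j * j.factorial = (6 - 2 * k).factorial * 2 ^ k * k.factorial := fun σ k h => by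
    obtain ⟨j, hj⟩ := tp_exists (p := f σ) (by rw [← map_mul, h.1, map_one])
    have h1 := hj.le
    refine ⟨j, by omega, hj, ?_⟩
    have h2 := card_centralizer_mulEquiv φ σ
    have h3 := hj.card_cent
    have h5 := h.card_cent
    rw [← hc, h6] at h3
    rw [h6] at h5
    exact h3.symm.trans (h2.trans h5)
  have t0 : Tp (f s₀) 3 := by
    obtain ⟨j, j3, hj, e⟩ := key s₀ 1 (tp_one.2 s1)
    interval_cases j
    · exact absurd e (by decide)
    · exact absurd (tp_one.1 hj) s2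
    · exact absurd e (by decide)
    · exact hj
  refine .inr ⟨h6, fun σ h => ?_, fun σ h => ?_, fun σ h => ?_, fun σ h => ?_⟩
  · obtain ⟨π, -, rfl⟩ := (tp_one.2 s1).alt_conj h
    rw [map_mul, map_mul, map_inv]
    exact t0.conj _
  · obtain ⟨j, j3, hj, e⟩ := key σ 2 h
    interval_cases j
    · exact absurd e (by decide)
    · exact absurd e (by decide)
    · exact hj
    · exact absurd e (by decide)
  · obtain ⟨j, j3, hj, e⟩ := key σ 3 h
    interval_cases j
    · exact absurd e (by decide)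
    · exact hj
    · exact absurd e (by decide)
    · obtain ⟨π, -, e'⟩ := t0.alt_conj hj
      obtain ⟨ρ, rfl⟩ := hb.2 π
      rw [← map_inv, ← map_mul, ← map_mul] at e'
      exact absurd (((tp_one.2 s1).conj ρ).unique (hf e' ▸ h)) (by decide)
  · have : Nontrivial β := Fintype.one_lt_card_iff_nontrivial.1 (by omega)
    have h1 : (alternatingGroup β).comap f = alternatingGroup α := Perm.eq_alternatingGroup_of_index_eq_two (by
      rw [index_comap_of_surjective _ hb.2, alternatingGroup.index_eq_two])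
    refine four_type (hc ▸ h6) (by rw [orderOf_injective f hf, ← Perm.lcm_cycleType, h]; rfl) fun e => ?_
    have h2 : σ ∈ alternatingGroup α := h1 ▸ e
    rw [Perm.mem_alternatingGroup, Perm.sign_of_cycleType, h] at h2
    exact absurd h2 (by decide)

end Cfsg.Agent.SAc
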