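import Mathlib
import Cfsg.Agent.SAc.ADefs
import Cfsg.Agent.SAc.PmB

/-! Permutation lemmas for case A1, part 1: eight points, restriction. See `stubs/Cfsg/Agent/SAc/PLAN3.md`. -/

set_option autoImplicit false
set_option linter.unusedSectionVars false

namespace Cfsg.Agent.SAc

open Cfsg Cfsg.Agent.GT Cfsg.Agent.Loc.Mss Cfsg.Agent.Sym Cfsg.Agent.Loc.SO Cfsg.Agent.SAn Subgroup Equiv
open Cfsg.Agent.StdB (C1 mem_C1)
open scoped commutatorElement

variable {α β γ : Type} [Fintype α] [DecidableEq α] [Fintype β] [DecidableEq β] [Fintype γ]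
  [DecidableEq γ] {G : Type*} [Group G] [Finite G] {ι κ l : alternatingGroup α →* G}
  {ψ : Perm β →* G} {X P M L : Subgroup G} {t s u g o : G} {p q σ τ π : Perm α} {k j : ℕ}

variable {Y Z : Perm α → G} {a b c d x y : α} {e : Fin 8 ↪ α}

namespace APm

theorem via_swap (e : β ↪ α) (i j : β) : Perm.viaEmbeddingHom e (swap i j) = swap (e i) (e j) := by
  ext x
  rw [Perm.viaEmbeddingHom_apply]
  by_cases hx : x ∈ Set.range e
  · obtain ⟨l, rfl⟩ := hx
    rw [Perm.viaEmbedding_apply, e.injective.swap_apply]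
  · rw [Perm.viaEmbedding_apply_of_notMem _ _ _ hx,
      swap_apply_of_ne_of_ne (fun o : x = _ => hx ⟨i, o.symm⟩) fun o : x = _ => hx ⟨j, o.symm⟩]

theorem via_dt' (e : β ↪ α) (i j k l : β) :
    Perm.viaEmbeddingHom e (dt i j k l) = dt (e i) (e j) (e k) (e l) := by
  rw [dt, map_mul, via_swap, via_swap, dt]

theorem d4_map (e : β ↪ α) {i j k l : β} (h : D4 i j k l) : D4 (e i) (e j) (e k) (e l) :=
  ⟨e.injective.ne h.ab, e.injective.ne h.ac, e.injective.ne h.ad, e.injective.ne h.bc, e.injective.ne h.bd,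
    e.injective.ne h.cd⟩

theorem via_dE (e : β ↪ α) (e' : Fin 8 ↪ β) (i j k l : Fin 8) :
    Perm.viaEmbeddingHom e (dE e' i j k l) = dE (e'.trans e) i j k l := via_dt' e ..

theorem via_surj (e : β ≃ α) (p : Perm α) : ∃ ν, Perm.viaEmbeddingHom e.toEmbedding ν = p := by
  refine ⟨e.symm.permCongr p, Equiv.ext fun x => ?_⟩
  obtain ⟨y, rfl⟩ := e.surjective x
  exact (Perm.viaEmbedding_apply _ e.toEmbedding y).trans (by simp)

theorem swap_mul_mem (h : σ ∉ alternatingGroup α) (hxy : x ≠ y) : swap x y * σ ∈ alternatingGroup α := by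
  rw [Perm.mem_alternatingGroup] at h ⊢
  rw [Perm.sign_mul, Perm.sign_swap hxy, (Int.units_eq_one_or _).resolve_left h]
  rfl

end APm

open APm

theorem dE_eq (e : Fin 8 ↪ α) (i j k l : Fin 8) : dE e i j k l = Perm.viaEmbeddingHom e (dt i j k l) :=
  (via_dt' e i j k l).symm

theorem sE_eq (e : Fin 8 ↪ α) (i j : Fin 8) : sE e i j = Perm.viaEmbeddingHom e (swap i j) :=
  (via_swap e i j).symm

theorem dE_dt (e : Fin 8 ↪ α) {i j k l : Fin 8} (h : D4 i j k l) : Dt (dE e i j k l) :=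
  ⟨_, _, _, _, d4_map e h, rfl⟩

theorem d4_emb (e : Fin 8 ↪ α) {i j k l : Fin 8} (h : D4 i j k l) : D4 (e i) (e j) (e k) (e l) :=
  d4_map e h

theorem dE_trans (e : Fin 8 ↪ α) (ν : Perm (Fin 8)) (i j k l : Fin 8) :
    dE (ν.toEmbedding.trans e) i j k l = dE e (ν i) (ν j) (ν k) (ν l) := rfl

theorem via_mem (e : β ↪ α) {ν : Perm β} :
    Perm.viaEmbeddingHom e ν ∈ alternatingGroup α ↔ ν ∈ alternatingGroup β := by
  classical
  rw [Perm.mem_alternatingGroup, Perm.mem_alternatingGroup, Perm.viaEmbeddingHom_apply, Perm.viaEmbedding,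
    Perm.sign_extendDomain]

theorem via_dt (e : β ↪ α) {ν : Perm β} (h : Dt ν) : Dt (Perm.viaEmbeddingHom e ν) := by
  obtain ⟨a, b, c, d, h4, rfl⟩ := h
  exact ⟨_, _, _, _, d4_map e h4, via_dt' e a b c d⟩

/-- any injective family of at most eight points extends to eight points -/
theorem ext8 (h8 : 8 ≤ Fintype.card α) {m : ℕ} (hm : m ≤ 8) (f : Fin m → α) (hf : Function.Injective f) :
    ∃ e : Fin 8 ↪ α, ∀ i : Fin m, e (Fin.castLE hm i) = f i := by
  obtain ⟨e0⟩ : Nonempty (Fin 8 ↪ α) := Function.Embedding.nonempty_of_card_le (by rwa [Fintype.card_fin])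
  obtain ⟨σ, hσ⟩ := Perm.exists_extending_pair (fun i => e0 (Fin.castLE hm i)) f
    (e0.injective.comp (Fin.castLE_injective hm)) hf
  exact ⟨e0.trans σ.toEmbedding, hσ⟩

theorem ext4 (h8 : 8 ≤ Fintype.card α) (h : D4 a b c d) :
    ∃ e : Fin 8 ↪ α, e 0 = a ∧ e 1 = b ∧ e 2 = c ∧ e 3 = d := by
  obtain ⟨e, he⟩ := ext8 h8 (by norm_num : 4 ≤ 8) (P0.e h) (P0.e h).injective
  exact ⟨e, he 0, he 1, he 2, he 3⟩

theorem ext6 (h8 : 8 ≤ Fintype.card α) (h : D4 a b c d) (hx : SAn.Out a b c d x) (hy : SAn.Out a b c d y)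
    (hxy : x ≠ y) : ∃ e : Fin 8 ↪ α, e 0 = a ∧ e 1 = b ∧ e 2 = c ∧ e 3 = d ∧ e 4 = x ∧ e 5 = y := by
  have hn : [a, b, c, d, x, y].Nodup := by
    simp [h.ab, h.ac, h.ad, h.bc, h.bd, h.cd, hx.a.symm, hx.b.symm, hx.c.symm, hx.d.symm, hy.a.symm, hy.b.symm,
      hy.c.symm, hy.d.symm, hxy]
  obtain ⟨e, he⟩ := ext8 h8 (by norm_num : 6 ≤ 8) [a, b, c, d, x, y].get (List.nodup_iff_injective_get.1 hn)
  exact ⟨e, he 0, he 1, he 2, he 3, he 4, he 5⟩

/-- the alternating group is transitive on frames, up to the order of the last two points -/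
theorem trans8 (e e' : Fin 8 ↪ α) : ∃ π ∈ alternatingGroup α, (∀ i : Fin 8, i ≠ 6 → i ≠ 7 → π (e i) = e' i) ∧
    ((π (e 6) = e' 6 ∧ π (e 7) = e' 7) ∨ (π (e 6) = e' 7 ∧ π (e 7) = e' 6)) := by
  obtain ⟨σ, hσ⟩ := Perm.exists_extending_pair e e' e.injective e'.injective
  by_cases h : σ ∈ alternatingGroup α
  · exact ⟨σ, h, fun i _ _ => hσ i, Or.inl ⟨hσ 6, hσ 7⟩⟩
  · refine ⟨swap (e' 6) (e' 7) * σ, swap_mul_mem h (e'.injective.ne (by decide)), fun i h6 h7 => ?_, Or.inr ⟨?_, ?_⟩⟩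
    · rw [Perm.mul_apply, hσ, swap_apply_of_ne_of_ne (e'.injective.ne h6) (e'.injective.ne h7)]
    · rw [Perm.mul_apply, hσ, swap_apply_left]
    · rw [Perm.mul_apply, hσ, swap_apply_right]

theorem trans4 (h6 : 6 ≤ Fintype.card α) {a' b' c' d' : α} (h : D4 a b c d) (h' : D4 a' b' c' d') :
    ∃ π ∈ alternatingGroup α, π a = a' ∧ π b = b' ∧ π c = c' ∧ π d = d' := by
  obtain ⟨σ, hσ⟩ := Perm.exists_extending_pair (P0.e h) (P0.e h') (P0.e h).injective (P0.e h').injective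
  have ha : σ a = a' := hσ 0
  have hb : σ b = b' := hσ 1
  have hc : σ c = c' := hσ 2
  have hd : σ d = d' := hσ 3
  by_cases hs : σ ∈ alternatingGroup α
  · exact ⟨σ, hs, ha, hb, hc, hd⟩
  · obtain ⟨x, y, hx, hy, hxy⟩ := exists_out2 h6 a' b' c' d'
    refine ⟨swap x y * σ, swap_mul_mem hs hxy, ?_, ?_, ?_, ?_⟩
    · rw [Perm.mul_apply, ha, swap_apply_of_ne_of_ne hx.a.symm hy.a.symm]
    · rw [Perm.mul_apply, hb, swap_apply_of_ne_of_ne hx.b.symm hy.b.symm]
    · rw [Perm.mul_apply, hc, swap_apply_of_ne_of_ne hx.c.symm hy.c.symm]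
    · rw [Perm.mul_apply, hd, swap_apply_of_ne_of_ne hx.d.symm hy.d.symm]

/-- the alternating group on the chosen points -/
noncomputable def resE (ι : alternatingGroup α →* G) (e : β ↪ α) : alternatingGroup β →* G :=
  ι.comp (((Perm.viaEmbeddingHom e).comp (alternatingGroup β).subtype).codRestrict _
    fun p => (via_mem e).2 p.2)

theorem ev_resE (ι : alternatingGroup α →* G) (e : β ↪ α) (ν : Perm β) :
    ev (resE ι e) ν = ev ι (Perm.viaEmbeddingHom e ν) := by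
  by_cases h : ν ∈ alternatingGroup β
  · rw [ev_of_mem h, ev_of_mem ((via_mem e).2 h)]
    rfl
  · rw [ev, ev, dif_neg h, dif_neg fun k => h ((via_mem e).1 k)]

theorem APm.res_inj (h : Function.Injective ι) (e : β ↪ α) : Function.Injective (resE ι e) := fun _ _ k =>
  Subtype.ext (Perm.viaEmbeddingHom_injective e (congrArg Subtype.val (h k)))

theorem APm.act_iff (e : β ≃ α) {ν : Perm β} :
    Act (resE ι e.toEmbedding) g ν ↔ Act ι g (Perm.viaEmbeddingHom e.toEmbedding ν) := by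
  constructor
  · intro h p hp
    obtain ⟨p', rfl⟩ := via_surj e p
    have := h p' ((via_mem _).1 hp)
    rwa [ev_resE, ev_resE, map_mul, map_mul, map_inv] at this
  · intro h p hp
    rw [ev_resE, ev_resE, map_mul, map_mul, map_inv]
    exact h _ ((via_mem _).2 hp)

theorem APm.act_one (e : β ≃ α) : Act (resE ι e.toEmbedding) g 1 ↔ Act ι g 1 := by
  rw [act_iff, map_one]

theorem APm.cf (h : Cf ι t) (e : β ≃ α) : Cf (resE ι e.toEmbedding) t where
  eight := Fintype.card_congr e ▸ h.eight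
  inj := res_inj h.inj _
  iv := h.iv
  cen := (act_one e).2 h.cen
  reg g hg := by
    obtain ⟨σ, hσ⟩ := h.reg g hg
    obtain ⟨ν, rfl⟩ := via_surj e σ
    exact ⟨ν, (act_iff e).2 hσ⟩
  ker g hg h1 := h.ker g hg ((act_one e).1 h1)

theorem Yt.res (h : Yt ι t Y) (e : β ↪ α) (h8 : 8 ≤ Fintype.card β) :
    Yt (resE ι e) t fun ν => Y (Perm.viaEmbeddingHom e ν) where
  eight := h8
  inj := res_inj h.inj e
  tt := h.tt
  tc p := by rw [ev_resE]; exact h.tc _
  ph p hp := by rw [ev_resE]; exact h.ph _ (via_dt e hp)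
  eqv q hq p hp := by
    rw [ev_resE, map_mul, map_mul, map_inv]
    exact h.eqv _ ((via_mem e).2 hq) _ (via_dt e hp)
  sq := h.sq.imp (fun k _ hp => k _ (via_dt e hp)) fun k p hp => by rw [ev_resE]; exact k _ (via_dt e hp)
  vc a b c d h4 := by rw [via_dt', via_dt']; exact h.vc _ _ _ _ (d4_map e h4)
  va a b c d h4 := by rw [via_dt', via_dt', via_dt']; exact h.va _ _ _ _ (d4_map e h4)

theorem DC.res (h : DC Y) (e : β ↪ α) : DC fun ν => Y (Perm.viaEmbeddingHom e ν) := fun e' => by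
  simp only [via_dE]; exact h _

theorem APm.ec (h : EC Y) (e : β ↪ α) : EC fun ν => Y (Perm.viaEmbeddingHom e ν) := fun e' => by
  simp only [via_dE]; exact h _

theorem GW.res (h : GW Y) (e : β ↪ α) : GW fun ν => Y (Perm.viaEmbeddingHom e ν) := fun e' => by
  simp only [via_dE]; exact h _

theorem Zt.res (h : Zt ι t Z) (e : β ↪ α) (h8 : 8 ≤ Fintype.card β) :
    Zt (resE ι e) t fun ν => Z (Perm.viaEmbeddingHom e ν) :=
  ⟨h.yt.res e h8, fun _ hp => h.sq _ (via_dt e hp), h.dc.res e, APm.ec h.ec e, h.gw.res e⟩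

theorem EA0.res (h : EA0 Y) (e : β ↪ α) : EA0 fun ν => Y (Perm.viaEmbeddingHom e ν) := fun e' => by
  simp only [via_dE]; exact h _

/-- relabelling along a bijection -/
theorem YG.congr (h : YG ι t Y) (e : β ≃ α) :
    YG (resE ι e.toEmbedding) t fun ν => Y (Perm.viaEmbeddingHom e.toEmbedding ν) :=
  ⟨APm.cf h.cf e, h.yt.res _ (Fintype.card_congr e ▸ h.cf.eight),
    fun o ho _ hp => h.od o ⟨ho.1, (act_one e).1 ho.2.1, ho.2.2⟩ _ (via_dt _ hp)⟩

theorem EA1.congr (h : EA1 ι Y) (e : β ≃ α) :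
    EA1 (resE ι e.toEmbedding) fun ν => Y (Perm.viaEmbeddingHom e.toEmbedding ν) := fun e' => by
  simp only [ev_resE, map_mul, via_dE]; exact h _

theorem Gl.congr (h : Gl ι t X) (e : β ≃ α) : Gl (resE ι e.toEmbedding) t X :=
  ⟨APm.cf h.cf e, h.fr, by rintro _ ⟨p, rfl⟩; exact h.AX ⟨_, rfl⟩⟩

theorem closure_dt (h5 : 5 ≤ Fintype.card α) : closure {p : Perm α | Dt p} = alternatingGroup α := by
  rw [← Perm.closure_cycleType_eq_two_two_eq_alternatingGroup (Nat.card_eq_fintype_card (α := α) ▸ h5)]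
  congr 1
  ext p
  exact tp_two.symm.trans tp_iff_cycleType

end Cfsg.Agent.SAc
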