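import Mathlib
import Cfsg.Agent.SAc.APm
import Cfsg.Agent.SAn.PermA
import Cfsg.Agent.SAn.PermB

/-! Permutation lemmas for case A1, part 2: centralizers. See `stubs/Cfsg/Agent/SAc/PLAN3.md`. -/

set_option autoImplicit false
set_option linter.unusedSectionVars false

namespace Cfsg.Agent.SAc

open Cfsg Cfsg.Agent.GT Cfsg.Agent.Loc.Mss Cfsg.Agent.Sym Cfsg.Agent.Loc.SO Cfsg.Agent.SAn Subgroup Equiv
open Cfsg.Agent.StdB (C1 mem_C1)
open scoped commutatorElement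

variable {α β γ : Type} [Fintype α] [DecidableEq α] [Fintype β] [DecidableEq β] [Fintype γ]
  [DecidableEq γ] {G : Type*} [Group G] [Finite G] {ι κ l : alternatingGroup α →* G}
  {ψ : Perm β →* G} {X P M L : Subgroup G} {t s u g o : G} {p q σ τ π : Perm α} {k j : ℕ}

variable {Y Z : Perm α → G} {a b c d x y : α} {e : Fin 8 ↪ α}

namespace APn

theorem cV (h : D4 a b c d) (h1 : σ * dt a b c d = dt a b c d * σ)
    (h2 : σ * dt a c b d = dt a c b d * σ) : σ ∈ 𝐂[V4 a b c d] := mem_cent.2 fun p hp => by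
  rcases h.mem_V4.1 hp with rfl | rfl | rfl | rfl
  · rw [one_mul, mul_one]
  · exact h1.symm
  · exact h2.symm
  · rw [← h.dt_mul, mul_assoc, ← h2, ← mul_assoc, ← h1, mul_assoc]

theorem mem4 (h : D4 a b c d) (hc : σ * dt a b c d = dt a b c d * σ) :
    σ a = a ∨ σ a = b ∨ σ a = c ∨ σ a = d := by
  have ha : σ a ∈ ({a, b, c, d} : Finset α) := by rw [← h.map_of_comm hc]; simp
  simpa only [Finset.mem_insert, Finset.mem_singleton] using ha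

theorem mem2 (h : D4 a b c d) (hx : SAn.Out a b c d x) (hy : SAn.Out a b c d y) (hxy : x ≠ y)
    (h1 : σ * dt a b c d = dt a b c d * σ) (h2 : σ * dt a b x y = dt a b x y * σ) :
    σ a = a ∨ σ a = b := by
  rcases mem4 h h1 with e | e | e | e
  · exact .inl e
  · exact .inr e
  all_goals rcases mem4 (PA.d4xy h hx hy hxy) h2 with e' | e' | e' | e'
  exacts [.inl e', .inr e', (hx.c (e'.symm.trans e)).elim, (hy.c (e'.symm.trans e)).elim,
    .inl e', .inr e', (hx.d (e'.symm.trans e)).elim, (hy.d (e'.symm.trans e)).elim]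

/-- a pair is preserved -/
theorem pr (h : D4 a b c d) (hx : SAn.Out a b c d x) (hy : SAn.Out a b c d y) (hxy : x ≠ y)
    (h1 : σ * dt a b c d = dt a b c d * σ) (h2 : σ * dt a b x y = dt a b x y * σ) :
    (σ a = a ∧ σ b = b) ∨ (σ a = b ∧ σ b = a) := by
  have e1 := PA.cm h1 a
  rw [PA.dt1 h] at e1
  rcases mem2 h hx hy hxy h1 h2 with e | e <;> rw [e] at e1
  · exact .inl ⟨e, e1.trans (PA.dt1 h)⟩
  · exact .inr ⟨e, e1.trans (PA.dt2 h)⟩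

theorem cE (h : D4 a b c d) (hx : SAn.Out a b c d x) (hy : SAn.Out a b c d y) (hxy : x ≠ y) :
    dt a b x y * dt a b c d = dt a b c d * dt a b x y := by
  have h5 := PA.d4xy h hx hy hxy
  refine (PA.comm_dt ?_).symm
  rw [PA.dt1 h5, PA.dt2 h5, PA.dt0 ⟨h.ac.symm, h.bc.symm, hx.c.symm, hy.c.symm⟩,
    PA.dt0 ⟨h.ad.symm, h.bd.symm, hx.d.symm, hy.d.symm⟩, dt_bac]

theorem fx_of (hq : q ∈ altOn ({a, b, c, d} : Finset α)ᶜ) : Fx a b c d q :=
  have k := (mem_altOn.1 hq).2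
  ⟨k a (by simp), k b (by simp), k c (by simp), k d (by simp)⟩

theorem card4 (h : D4 a b c d) : ({a, b, c, d} : Finset α).card = 4 := by
  have := List.toFinset_card_of_nodup (P0.nodup h)
  simpa only [List.toFinset_cons, List.toFinset_nil, insert_empty_eq, List.length] using this

theorem gen_aux (h : D4 a b c d) (hq : q ∈ alternatingGroup α) (hc : q * dt a b c d = dt a b c d * q)
    {ν : Perm (Fin 4)} (hν : ∀ i, q (P0.e h i) = P0.e h (ν i)) (hs : Perm.sign ν = 1) :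
    q ∈ V4 a b c d ⊔ altOn ({a, b, c, d} : Finset α)ᶜ := by
  have hv := P0.v4_pair ν hs (P0.res_comm h hν (by rw [P0.Φ1, hc]))
  have e : q = P0.Φ h ν * (P0.Φ h ν⁻¹ * q) := by simp
  rw [e]
  refine mul_mem (mem_sup_left ((P0.Φ_mem h).2 hv)) (mem_sup_right (mem_altOn.2 ⟨mul_mem ?_ hq, ?_⟩))
  · rw [Perm.mem_alternatingGroup, P0.Φ_sign, map_inv, hs, inv_one]
  · intro z hz
    obtain ⟨i, rfl⟩ := (P0.mem_iff h).1 (by simpa only [Finset.mem_compl, not_not] using hz)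
    rw [Perm.mul_apply, hν, P0.Φ_e]; simp

end APn

open APn

/-- `C_S(V × A_{n-4}) = V` -/
theorem cent_VB (h8 : 8 ≤ Fintype.card α) (h : D4 a b c d) (h1 : σ * dt a b c d = dt a b c d * σ)
    (h2 : σ * dt a c b d = dt a c b d * σ) (h3 : σ ∈ 𝐂[altOn ({a, b, c, d} : Finset α)ᶜ]) :
    σ ∈ V4 a b c d := by
  obtain ⟨v, hv, hf⟩ := h.cent_V4 (cV h h1 h2)
  have k := cent_altOn (by rw [Finset.card_compl, card4 h]; omega) h3
  have e : v * σ = 1 := by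
    ext z
    rcases PA.cases a b c d z with rfl | rfl | rfl | rfl | hz
    exacts [hf.a, hf.b, hf.c, hf.d, by
      have hz' := P0.out_iff.1 hz
      rw [Perm.mul_apply, k z (Finset.mem_compl.2 hz'), (mem_altOn.1 (h.V4_le hv)).2 z hz',
        Perm.one_apply]]
  rw [eq_inv_of_mul_eq_one_right e]
  exact inv_mem hv

/-- `C_S(C_A(p)) = ⟨p⟩` -/
theorem cent_self (h8 : 8 ≤ Fintype.card α) (hp : Dt p)
    (h : ∀ q ∈ alternatingGroup α, q * p = p * q → σ * q = q * σ) : σ = 1 ∨ σ = p := by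
  obtain ⟨a, b, c, d, h4, rfl⟩ := hp
  obtain ⟨x, y, hx, hy, hxy⟩ := exists_out2 (by omega) a b c d
  have h1 := h _ h4.mem rfl
  have h2 := cent_VB h8 h4 h1 (h _ h4.acb.mem h4.dt_comm.symm) (mem_cent.2 fun q hq =>
    (h q (mem_altOn.1 hq).1 (h4.comm_of_fx (fx_of hq) (h4.V4_le (PA.mem1 _ _ _ _)))).symm)
  have h3 := mem2 h4 hx hy hxy h1 (h _ (PA.d4xy h4 hx hy hxy).mem (cE h4 hx hy hxy))
  rcases h4.mem_V4.1 h2 with e | e | e | e
  · exact .inl e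
  · exact .inr e
  · rw [e, PA.dt1 h4.acb] at h3
    exact (h3.elim h4.ac.symm h4.bc.symm).elim
  · rw [e, PA.dt1 h4.abdc.acb] at h3
    exact (h3.elim h4.ad.symm h4.bd.symm).elim

/-- generators of `C_A((a b)(c d))` -/
theorem cent_gen (h : D4 a b c d) (hx : SAn.Out a b c d x) (hy : SAn.Out a b c d y) (hxy : x ≠ y)
    (hq : q ∈ alternatingGroup α) (hc : q * dt a b c d = dt a b c d * q) :
    q ∈ V4 a b c d ⊔ altOn ({a, b, c, d} : Finset α)ᶜ ⊔ zpowers (dt a b x y) := by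
  obtain ⟨ν, hν⟩ := P0.exists_res' h (h.map_of_comm hc)
  rcases Int.units_eq_one_or (Perm.sign ν) with hs | hs
  · exact mem_sup_left (gen_aux h hq hc hν hs)
  have h5 := PA.d4xy h hx hy hxy
  have k : ∀ i, dt a b x y (P0.e h i) = P0.e h (swap 0 1 i) := fun i => by
    fin_cases i
    exacts [PA.dt1 h5, PA.dt2 h5, PA.dt0 ⟨h.ac.symm, h.bc.symm, hx.c.symm, hy.c.symm⟩,
      PA.dt0 ⟨h.ad.symm, h.bd.symm, hx.d.symm, hy.d.symm⟩]
  have h6 := gen_aux (q := dt a b x y * q) (ν := swap 0 1 * ν) h (mul_mem h5.mem hq)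
    (by rw [mul_assoc, hc, ← mul_assoc, cE h hx hy hxy, mul_assoc])
    (fun i => by rw [Perm.mul_apply, hν, k, Perm.mul_apply])
    (by rw [map_mul, hs, Perm.sign_swap (by decide)]; rfl)
  exact (mul_mem_cancel_left (mem_sup_right (mem_zpowers _))).1 (mem_sup_left h6)

theorem cent_V (h : D4 a b c d) (hx : SAn.Out a b c d x) (hy : SAn.Out a b c d y) (hxy : x ≠ y)
    (h1 : σ * dt a b c d = dt a b c d * σ) (h2 : σ * dt a c b d = dt a c b d * σ)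
    (h3 : σ * dt a b x y = dt a b x y * σ) : Fx a b c d σ ∨ Fx a b c d (dt a b c d * σ) := by
  obtain ⟨v, hv, hf⟩ := h.cent_V4 (cV h h1 h2)
  have h4 := mem2 h hx hy hxy h1 h3
  have h5 := hf.a
  rw [Perm.mul_apply] at h5
  rcases h.mem_V4.1 hv with rfl | rfl | rfl | rfl
  · exact .inl (one_mul σ ▸ hf)
  · exact .inr hf
  · rcases h4 with e | e <;> rw [e] at h5
    · exact (h.ac ((PA.dt1 h.acb).symm.trans h5).symm).elim
    · exact (h.ad ((PA.dt3 h.acb).symm.trans h5).symm).elim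
  · rcases h4 with e | e <;> rw [e] at h5
    · exact (h.ad ((PA.dt1 h.abdc.acb).symm.trans h5).symm).elim
    · exact (h.ac ((PA.dt3 h.abdc.acb).symm.trans h5).symm).elim

namespace APn

theorem ne (e : Fin 8 ↪ α) {i j : Fin 8} (h : i ≠ j := by decide) : e i ≠ e j := e.injective.ne h

theorem d4 (e : Fin 8 ↪ α) (i j k l : Fin 8) (h : [i, j, k, l].Nodup := by decide) :
    D4 (e i) (e j) (e k) (e l) := by
  simp only [List.nodup_cons, List.mem_cons, not_or] at h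
  exact ⟨ne e h.1.1, ne e h.1.2.1, ne e h.1.2.2.1, ne e h.2.1.1, ne e h.2.1.2.1, ne e h.2.2.1.1⟩

theorem out (e : Fin 8 ↪ α) (i j k l m : Fin 8) (h : m ∉ [i, j, k, l] := by decide) :
    SAn.Out (e i) (e j) (e k) (e l) (e m) := by
  simp only [List.mem_cons, not_or] at h
  exact ⟨ne e h.1, ne e h.2.1, ne e h.2.2.1, ne e h.2.2.2.1⟩

theorem lo (e : Fin 8 ↪ α) {n : Fin 8} (m : Fin 8) (h : n ≤ m := by decide) :
    ∀ i : Fin 8, i < n → e i ≠ e m := fun _ hi => ne e (hi.trans_le h).ne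

theorem ex2 (e : Fin 8 ↪ α) {i j : Fin 8} (h : (σ (e i) = e i ∧ σ (e j) = e j) ∨ (σ (e i) = e j ∧ σ (e j) = e i)) :
    ∃ m : Fin 2, σ (e i) = e ((swap i j ^ m.1) i) ∧ σ (e j) = e ((swap i j ^ m.1) j) := by
  rcases h with h | h
  · exact ⟨0, h⟩
  · exact ⟨1, by simpa using h⟩

theorem dec8 : ∀ i j k m : Fin 2, ∀ ν : Perm (Fin 8),
    ν = swap 0 1 ^ i.1 * swap 2 3 ^ j.1 * swap 4 5 ^ k.1 * swap 6 7 ^ m.1 →
    (ν 0 = (swap 0 1 ^ i.1) 0 ∧ ν 1 = (swap 0 1 ^ i.1) 1 ∧ ν 2 = (swap 2 3 ^ j.1) 2 ∧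
      ν 3 = (swap 2 3 ^ j.1) 3) ∧ ν 4 = (swap 4 5 ^ k.1) 4 ∧ ν 5 = (swap 4 5 ^ k.1) 5 ∧
      ν 6 = (swap 6 7 ^ m.1) 6 ∧ ν 7 = (swap 6 7 ^ m.1) 7 := by
  rintro i j k m _ rfl
  revert i j k m
  decide

end APn

/-- the centralizer of `C_A(P₁P₂, P₁P₃)` -/
theorem cent_E (e : Fin 8 ↪ α)
    (h : ∀ q ∈ alternatingGroup α, q * dE e 0 1 2 3 = dE e 0 1 2 3 * q → q * dE e 0 1 4 5 = dE e 0 1 4 5 * q →
      σ * q = q * σ) :
    ∃ i j k m : Fin 2, σ = sE e 0 1 ^ i.1 * sE e 2 3 ^ j.1 * sE e 4 5 ^ k.1 * sE e 6 7 ^ m.1 ∧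
      (m = 1 → Fintype.card α = 8) := by
  have c12 := PA.sw (d4 e 0 1 2 3)
  have c13 := PA.sw (d4 e 0 1 4 5)
  have c23 := PA.sw (d4 e 2 3 4 5)
  have H : ∀ {u v w z : α}, u ≠ v → w ≠ z → (Commute (swap u v) (swap (e 0) (e 1)) ∧
      Commute (swap u v) (swap (e 2) (e 3)) ∧ Commute (swap u v) (swap (e 4) (e 5))) →
      (Commute (swap w z) (swap (e 0) (e 1)) ∧
      Commute (swap w z) (swap (e 2) (e 3)) ∧ Commute (swap w z) (swap (e 4) (e 5))) →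
      σ * dt u v w z = dt u v w z * σ := fun h1 h2 k1 k2 =>
    h _ (dt_mem h1 h2) ((k1.1.mul_right k1.2.1).mul_left (k2.1.mul_right k2.2.1))
      ((k1.1.mul_right k1.2.2).mul_left (k2.1.mul_right k2.2.2))
  have k1 := And.intro (Commute.refl (swap (e 0) (e 1))) (And.intro c12 c13)
  have k2 := And.intro c12.symm (And.intro (Commute.refl (swap (e 2) (e 3))) c23)
  have k3 := And.intro c13.symm (And.intro c23.symm (Commute.refl (swap (e 4) (e 5))))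
  have n01 : e 0 ≠ e 1 := ne e
  have n23 : e 2 ≠ e 3 := ne e
  have n45 : e 4 ≠ e 5 := ne e
  have K : ∀ x y, (∀ i : Fin 8, i < 6 → e i ≠ x) → (∀ i : Fin 8, i < 6 → e i ≠ y) → x ≠ y →
      (σ x = x ∧ σ y = y) ∨ (σ x = y ∧ σ y = x) := fun x y hx hy hxy => by
    have D : ∀ i j : Fin 8, i < 6 → j < 6 → i ≠ j → D4 x y (e i) (e j) := fun i j hi hj hij =>
      ⟨hxy, (hx i hi).symm, (hx j hj).symm, (hy i hi).symm, (hy j hj).symm, ne e hij⟩
    have D1 := D 0 1 (by decide) (by decide) (by decide)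
    have k4 := And.intro (PA.sw D1) (And.intro (PA.sw (D 2 3 (by decide) (by decide) (by decide)))
      (PA.sw (D 4 5 (by decide) (by decide) (by decide))))
    exact pr D1 ⟨hx 2 (by decide), hy 2 (by decide), ne e, ne e⟩
      ⟨hx 3 (by decide), hy 3 (by decide), ne e, ne e⟩ n23 (H hxy n01 k4 k1) (H hxy n23 k4 k2)
  obtain ⟨i, i0, i1⟩ := ex2 e (pr (d4 e 0 1 2 3) (out e 0 1 2 3 4) (out e 0 1 2 3 5) n45
    (H n01 n23 k1 k2) (H n01 n45 k1 k3))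
  obtain ⟨j, i2, i3⟩ := ex2 e (pr (d4 e 2 3 0 1) (out e 2 3 0 1 4) (out e 2 3 0 1 5) n45
    (H n23 n01 k2 k1) (H n23 n45 k2 k3))
  obtain ⟨k, i4, i5⟩ := ex2 e (pr (d4 e 4 5 0 1) (out e 4 5 0 1 2) (out e 4 5 0 1 3) n23
    (H n45 n01 k3 k1) (H n45 n23 k3 k2))
  obtain ⟨m, i6, i7⟩ := ex2 e (K _ _ (lo e 6) (lo e 7) (ne e))
  refine ⟨i, j, k, m, ?_, fun hm => ?_⟩
  · obtain ⟨⟨d0, d1, d2, d3⟩, d4, d5, d6, d7⟩ := dec8 i j k m _ rfl
    simp only [sE_eq, ← map_pow, ← map_mul]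
    ext z
    by_cases hz : ∃ n, e n = z
    · obtain ⟨n, rfl⟩ := hz
      refine Eq.trans ?_ (PB.Ψ_e e _ n).symm
      fin_cases n
      exacts [d0 ▸ i0, d1 ▸ i1, d2 ▸ i2, d3 ▸ i3, d4 ▸ i4, d5 ▸ i5, d6 ▸ i6, d7 ▸ i7]
    · push Not at hz
      refine Eq.trans ?_ (PB.Ψ_out e _ hz).symm
      rcases K z _ (fun i _ => hz i) (lo e 6) (hz 6).symm with o | o
      · exact o.1
      rcases K z _ (fun i _ => hz i) (lo e 7) (hz 7).symm with o' | o'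
      · exact o'.1
      exact (ne e (i := 6) (j := 7) (by decide) (o.1.symm.trans o'.1)).elim
  · by_contra h8
    have h9 := Fintype.card_le_of_embedding e
    obtain ⟨z, hz⟩ := P0.ex_list (List.ofFn e) (by simp at h9 ⊢; omega)
    simp only [List.mem_ofFn, not_exists] at hz
    subst hm
    have i8 : σ (e 6) = e 7 := i6
    rcases K _ z (lo e 6) (fun i _ => hz i) (hz 6) with o | o
    · exact ne e (i := 6) (j := 7) (by decide) (o.1.symm.trans i8)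
    · exact hz 7 (i8.symm.trans o.1)

theorem cent_T (e : Fin 8 ↪ α) (h1 : σ * dE e 0 1 2 3 = dE e 0 1 2 3 * σ) (h2 : σ * dE e 0 2 4 5 = dE e 0 2 4 5 * σ)
    (h3 : ∀ x y, (∀ i : Fin 8, i < 6 → e i ≠ x) → (∀ i : Fin 8, i < 6 → e i ≠ y) → x ≠ y →
      σ * cyc3 (e 4) x y = cyc3 (e 4) x y * σ ∧ σ * cyc3 (e 5) x y = cyc3 (e 5) x y * σ) :
    σ = 1 ∨ σ = dE e 0 2 1 3 := by
  have D1 := d4 e 0 1 2 3
  have D2 := d4 e 0 2 4 5
  have f4 : σ (e 4) = e 4 := by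
    by_contra k
    have k1 := PA.cm (h3 _ _ (lo e 6) (lo e 7) (ne e)).1 (e 4)
    have k2 := mem4 (σ := σ) D2.cdab (by rw [D2.dt_cdab]; exact h2)
    rw [cyc3_apply_fst (ne e) (ne e), cyc3_apply_of_ne k ?_ ?_] at k1
    · exact ne e (i := 6) (j := 4) (by decide) (σ.injective k1)
    all_goals
      rcases k2 with o | o | o | o <;> rw [o] <;> exact ne e
  have f5 : σ (e 5) = e 5 := by
    have := PA.cm h2 (e 4)
    rwa [f4, dE, PA.dt3 D2] at this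
  have f0 : ∀ x, (∀ i : Fin 8, i < 6 → e i ≠ x) → σ x = x := fun x hx => by
    obtain ⟨y, hy, hxy⟩ : ∃ y, (∀ i : Fin 8, i < 6 → e i ≠ y) ∧ x ≠ y := by
      by_cases k : x = e 6
      exacts [⟨e 7, lo e 7, k ▸ ne e⟩, ⟨e 6, lo e 6, k⟩]
    have := PA.cm (h3 x y hx hy hxy).1 (e 4)
    rwa [f4, cyc3_apply_fst (hx 4 (by decide)) (hy 4 (by decide))] at this
  have fo : ∀ x, SAn.Out (e 0) (e 1) (e 2) (e 3) x → σ x = x := fun x hx => by
    by_cases k4 : x = e 4; · rw [k4, f4]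
    by_cases k5 : x = e 5; · rw [k5, f5]
    refine f0 x fun i hi => ?_
    fin_cases i
    exacts [hx.a.symm, hx.b.symm, hx.c.symm, hx.d.symm, Ne.symm k4, Ne.symm k5, absurd hi (by decide),
      absurd hi (by decide)]
  have e1 := PA.cm h1 (e 0)
  have e2 := PA.cm h2 (e 0)
  have e3 := PA.cm h1 (e 2)
  rw [dE] at e1 e2 e3
  rw [PA.dt1 D1] at e1
  rw [PA.dt1 D2] at e2
  rw [PA.dt3 D1] at e3
  have k : σ (e 0) = e 0 ∨ σ (e 0) = e 2 := by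
    rcases mem4 D2 h2 with o | o | o | o
    exacts [.inl o, .inr o, (ne e (by decide) (σ.injective (o.trans f4.symm))).elim,
      (ne e (by decide) (σ.injective (o.trans f5.symm))).elim]
  rcases k with k | k <;> rw [k] at e1 e2
  · rw [PA.dt1 D1] at e1
    rw [PA.dt1 D2] at e2
    rw [e2, PA.dt3 D1] at e3
    refine .inl (Perm.ext fun z => ?_)
    rcases PA.cases (e 0) (e 1) (e 2) (e 3) z with rfl | rfl | rfl | rfl | hz
    exacts [k, e1, e2, e3, fo z hz]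
  · rw [PA.dt3 D1] at e1
    rw [PA.dt2 D2] at e2
    rw [e2, PA.dt1 D1] at e3
    exact .inr (PA.eq_dt D1.acb k e2 e1 e3 fun x hx => fo x ⟨hx.a, hx.c, hx.b, hx.d⟩)

/-- the four-groups on `{0,1,2,x}` and on `{3,4,x,y}` generate the alternating group -/
theorem gen_O (e : Fin 8 ↪ α) {H : Subgroup (Perm α)}
    (h1 : ∀ x, (∀ i : Fin 8, i < 5 → e i ≠ x) → V4 (e 0) (e 1) (e 2) x ≤ H)
    (h2 : ∀ x y, (∀ i : Fin 8, i < 5 → e i ≠ x) → (∀ i : Fin 8, i < 5 → e i ≠ y) → x ≠ y →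
      V4 (e 3) (e 4) x y ≤ H) : alternatingGroup α ≤ H := by
  have D : ∀ x, (∀ i : Fin 8, i < 5 → e i ≠ x) → D4 (e 0) (e 1) (e 2) x := fun x hx =>
    ⟨ne e, ne e, hx 0 (by decide), ne e, hx 1 (by decide), hx 2 (by decide)⟩
  have r : ∀ x, (∀ i : Fin 8, i < 5 → e i ≠ x) → Rel3 H x (e 2) := fun x hx => by
    obtain ⟨y, hy, hxy⟩ : ∃ y, (∀ i : Fin 8, i < 5 → e i ≠ y) ∧ x ≠ y := by
      by_cases k : x = e 6
      exacts [⟨e 7, lo e 7, k ▸ ne e⟩, ⟨e 6, lo e 6, k⟩]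
    have h3 := mul_mem (h1 x hx (PA.mem1 _ _ _ _)) (h1 y hy (PA.mem1 _ _ _ _))
    rw [← (D x hx).dt_cdab, dt, dt, mul_assoc, swap_mul_self_mul, swap_comm (e 2) x] at h3
    exact (PA.rel (hx 2 (by decide)).symm hxy (hy 2 (by decide)) h3).1
  have r2 := r _ (lo e 7)
  have r5 := r2.trans (r _ (lo e 5)).symm
  have r0 : Rel3 H (e 7) (e 0) := PA.mvr r2 (h1 _ (lo e 5) (PA.mem2 _ _ _ _)) (PA.dt0 (out e 0 2 1 5 7))
    (PA.dt2 (d4 e 0 2 1 5))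
  have r1 : Rel3 H (e 7) (e 1) := PA.mvr r0 (h1 _ (lo e 5) (PA.mem1 _ _ _ _)) (PA.dt0 (out e 0 1 2 5 7))
    (PA.dt1 (d4 e 0 1 2 5))
  have r3 : Rel3 H (e 7) (e 3) := PA.mvr r5 (h2 _ _ (lo e 5) (lo e 6) (ne e) (PA.mem2 _ _ _ _))
    (PA.dt0 (out e 3 5 4 6 7)) (PA.dt2 (d4 e 3 5 4 6))
  have r4 : Rel3 H (e 7) (e 4) := PA.mvr r3 (h2 _ _ (lo e 5) (lo e 6) (ne e) (PA.mem1 _ _ _ _))
    (PA.dt0 (out e 3 4 5 6 7)) (PA.dt1 (d4 e 3 4 5 6))
  refine PA.full (x := e 7) fun z => ?_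
  by_cases hz : ∀ i : Fin 8, i < 5 → e i ≠ z
  · exact r2.trans (r z hz).symm
  push Not at hz
  obtain ⟨i, hi, rfl⟩ := hz
  fin_cases i
  exacts [r0, r1, r2, r3, r4, absurd hi (by decide), absurd hi (by decide), absurd hi (by decide)]

namespace APn

/-- The hypotheses of the induction principle, on points. -/
structure PI (R : Perm α → Perm α → Prop) : Prop where
  h8 : 8 ≤ Fintype.card α
  z : ∀ p, Dt p → R p p
  D : ∀ {a b c d x y z w}, D4 a b c d → D4 x y z w → SAn.Out a b c d x → SAn.Out a b c d y →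
    SAn.Out a b c d z → SAn.Out a b c d w → R (dt a b c d) (dt x y z w)
  E : ∀ {a b c d x y}, D4 a b c d → SAn.Out a b c d x → SAn.Out a b c d y → x ≠ y →
    R (dt a b c d) (dt a b x y)
  T : ∀ {a b c d x y}, D4 a b c d → SAn.Out a b c d x → SAn.Out a b c d y → x ≠ y →
    R (dt a b c d) (dt a c x y)
  O : ∀ {a b c d x}, D4 a b c d → SAn.Out a b c d x → R (dt a b c d) (dt b x c d)
  A : ∀ {p a b c d x y}, D4 a b c d → SAn.Out a b c d x → SAn.Out a b c d y → x ≠ y →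
    R p (dt a b c d) → R p (dt a b x y) → R p (dt c d x y)

variable {R : Perm α → Perm α → Prop} {z w v r : α}

theorem PI.i1 (H : PI R) (h : D4 a b c d) (h' : D4 a b c y) : R (dt a b c d) (dt a b c y) := by
  by_cases k : y = d
  · exact k ▸ H.z _ ⟨_, _, _, _, h', rfl⟩
  have := H.O h.cdab.bac ⟨k, h'.cd.symm, h'.ad.symm, h'.bd.symm⟩
  rwa [dt_bac, h.dt_cdab, h'.dt_cdab] at this

theorem PI.ii (H : PI R) (h : D4 a b c d) (h' : D4 a x y z) (hx : SAn.Out a b c d x)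
    (hy : SAn.Out a b c d y) (hz : SAn.Out a b c d z) : R (dt a b c d) (dt a x y z) := by
  have h1 : D4 c d a x := ⟨h.cd, h.ac.symm, hx.c.symm, h.ad.symm, hx.d.symm, h'.ab⟩
  refine H.A h1 ⟨hy.c, hy.d, hy.a, h'.bc.symm⟩ ⟨hz.c, hz.d, hz.a, h'.bd.symm⟩ h'.cd ?_ ?_ <;>
    rw [← h.dt_cdab]
  exacts [H.i1 h.cdab h1, H.E h.cdab ⟨hy.c, hy.d, hy.a, hy.b⟩ ⟨hz.c, hz.d, hz.a, hz.b⟩ h'.cd]

theorem PI.iiia (H : PI R) (h : D4 a b c d) (h' : D4 a y v w) (hv : SAn.Out a b c d v)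
    (hw : SAn.Out a b c d w) : R (dt a b c d) (dt a y v w) := by
  rcases PA.cases a b c d y with k | rfl | rfl | rfl | hy
  · exact (h'.ab k.symm).elim
  · exact H.E h hv hw h'.cd
  · exact H.T h hv hw h'.cd
  · exact dt_abdc a b c y ▸ H.T h.abdc ⟨hv.a, hv.b, hv.d, hv.c⟩ ⟨hw.a, hw.b, hw.d, hw.c⟩ h'.cd
  · exact H.ii h h' hy hv hw

theorem PI.iiib (H : PI R) (h : D4 a b c d) (h' : D4 x y v w) (hv : SAn.Out a b c d v)
    (hw : SAn.Out a b c d w) (hx : ¬ SAn.Out a b c d x) : R (dt a b c d) (dt x y v w) := by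
  rcases PA.cases a b c d x with rfl | rfl | rfl | rfl | hy
  · exact H.iiia h h' hv hw
  · exact dt_bac a x c d ▸ H.iiia h.bac h' ⟨hv.b, hv.a, hv.c, hv.d⟩ ⟨hw.b, hw.a, hw.c, hw.d⟩
  · exact h.dt_cdab ▸ H.iiia h.cdab h' ⟨hv.c, hv.d, hv.a, hv.b⟩ ⟨hw.c, hw.d, hw.a, hw.b⟩
  · have := H.iiia h.cdab.bac h' ⟨hv.d, hv.c, hv.a, hv.b⟩ ⟨hw.d, hw.c, hw.a, hw.b⟩
    rwa [dt_bac, h.dt_cdab] at this
  · exact (hx hy).elim

theorem PI.iii (H : PI R) (h : D4 a b c d) (h' : D4 x y v w) (hv : SAn.Out a b c d v)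
    (hw : SAn.Out a b c d w) : R (dt a b c d) (dt x y v w) := by
  by_cases hx : SAn.Out a b c d x
  · by_cases hy : SAn.Out a b c d y
    · exact H.D h h' hx hy hv hw
    · exact dt_bac x y v w ▸ H.iiib h h'.bac hv hw hy
  · exact H.iiib h h' hv hw hx

theorem PI.iva (H : PI R) (h : D4 a b c d) (h' : D4 x y z w) (hx : ¬ SAn.Out a b c d x)
    (hz : ¬ SAn.Out a b c d z) : R (dt a b c d) (dt x y z w) := by
  have h8 := H.h8
  obtain ⟨v, hv⟩ := P0.ex_list [a, b, c, d, y, w] (by simp; omega)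
  obtain ⟨r, hr⟩ := P0.ex_list [v, a, b, c, d, y, w] (by simp; omega)
  simp only [List.mem_cons, not_or] at hv hr
  have v0 : SAn.Out a b c d v := ⟨hv.1, hv.2.1, hv.2.2.1, hv.2.2.2.1⟩
  have r0 : SAn.Out a b c d r := ⟨hr.2.1, hr.2.2.1, hr.2.2.2.1, hr.2.2.2.2.1⟩
  have n : ∀ {s s' : α}, ¬ SAn.Out a b c d s → SAn.Out a b c d s' → s ≠ s' :=
    fun h1 h2 k => h1 (k ▸ h2)
  have vy : y ≠ v := Ne.symm hv.2.2.2.2.1
  have vw : w ≠ v := Ne.symm hv.2.2.2.2.2.1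
  have ry : y ≠ r := Ne.symm hr.2.2.2.2.2.1
  have rw' : w ≠ r := Ne.symm hr.2.2.2.2.2.2.1
  have d1 : D4 x y v r := ⟨h'.ab, n hx v0, n hx r0, vy, ry, Ne.symm hr.1⟩
  have d2 : D4 z w v r := ⟨h'.cd, n hz v0, n hz r0, vw, rw', Ne.symm hr.1⟩
  exact H.A d1.cdab ⟨n hz v0, n hz r0, h'.ac.symm, h'.bc.symm⟩ ⟨vw, rw', h'.ad.symm, h'.bd.symm⟩ h'.cd
    (d1.dt_cdab ▸ H.iii h d1 v0 r0) (d2.dt_cdab ▸ H.iii h d2 v0 r0)

theorem PI.ivb (H : PI R) (h : D4 a b c d) (h' : D4 x y z w) (hx : ¬ SAn.Out a b c d x) :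
    R (dt a b c d) (dt x y z w) := by
  by_cases hz : SAn.Out a b c d z
  · by_cases hw : SAn.Out a b c d w
    · exact H.iii h h' hz hw
    · exact dt_abdc x y z w ▸ H.iva h h'.abdc hx hw
  · exact H.iva h h' hx hz

theorem PI.iv (H : PI R) (h : D4 a b c d) (h' : D4 x y z w) : R (dt a b c d) (dt x y z w) := by
  by_cases hx : SAn.Out a b c d x
  · by_cases hy : SAn.Out a b c d y
    · exact h'.dt_cdab ▸ H.iii h h'.cdab hx hy
    · exact dt_bac x y z w ▸ H.ivb h h'.bac hy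
  · exact H.ivb h h' hx

end APn

/-- the induction principle for pairs of double transpositions -/
theorem pair_ind (h8 : 8 ≤ Fintype.card α) {R : Perm α → Perm α → Prop}
    (hs : ∀ p q, R p q → R q p) (h0 : ∀ p, Dt p → R p p)
    (hV : ∀ e : Fin 8 ↪ α, R (dE e 0 1 2 3) (dE e 0 2 1 3))
    (hD : ∀ e : Fin 8 ↪ α, R (dE e 0 1 2 3) (dE e 4 5 6 7))
    (hE : ∀ e : Fin 8 ↪ α, R (dE e 0 1 2 3) (dE e 0 1 4 5))
    (hT : ∀ e : Fin 8 ↪ α, R (dE e 0 1 2 3) (dE e 0 2 4 5))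
    (hO : ∀ e : Fin 8 ↪ α, R (dE e 0 1 3 4) (dE e 1 2 3 4))
    (hA : ∀ p, ∀ e : Fin 8 ↪ α, R p (dE e 0 1 2 3) → R p (dE e 0 1 4 5) → R p (dE e 2 3 4 5))
    (hp : Dt p) (hq : Dt q) : R p q := by
  have _ := hs
  have _ := hV
  obtain ⟨a, b, c, d, h, rfl⟩ := hp
  obtain ⟨x, y, z, w, h', rfl⟩ := hq
  refine PI.iv ⟨h8, h0, fun h h' hx hy hz hw => hD (PB.e8 h h' hx hy hz hw), fun h hx hy hxy => ?_,
    fun h hx hy hxy => ?_, fun {a b c d x} h hx => ?_, fun h hx hy hxy => ?_⟩ h h'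
  · obtain ⟨e, rfl, rfl, rfl, rfl, rfl, rfl⟩ := ext6 h8 h hx hy hxy
    exact hE e
  · obtain ⟨e, rfl, rfl, rfl, rfl, rfl, rfl⟩ := ext6 h8 h hx hy hxy
    exact hT e
  · obtain ⟨y, hy, y1, -⟩ := exists_out3 (by omega) a b x c d d
    obtain ⟨e, rfl, rfl, rfl, rfl, rfl, rfl⟩ := ext6 h8
      (⟨h.ab, hx.a.symm, h.ac, hx.b.symm, h.bc, hx.c⟩ : D4 a b x c)
      ⟨h.ad.symm, h.bd.symm, hx.d.symm, h.cd.symm⟩ hy y1.symm
    exact hO e
  · obtain ⟨e, rfl, rfl, rfl, rfl, rfl, rfl⟩ := ext6 h8 h hx hy hxy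
    exact hA _ e

end Cfsg.Agent.SAc
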