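import Mathlib
import Cfsg.Agent.SAc.Bas
import Cfsg.Agent.SAc.PmB
import Cfsg.Agent.S0205
import Cfsg.Agent.Ch.QuatSylow
import Cfsg.Agent.Inv.Basic
import Cfsg.Agent.GT.Quasisimple

/-! The derived group of `C(t)`, parity, the odd part. See `stubs/Cfsg/Agent/SAc/PLAN.md`. -/

set_option autoImplicit false
set_option linter.unusedSectionVars false

namespace Cfsg.Agent.SAc

open Cfsg Cfsg.Agent.GT Cfsg.Agent.Loc.Mss Cfsg.Agent.Sym Cfsg.Agent.Loc.SO Cfsg.Agent.SAn Subgroup Equiv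
open Cfsg.Agent.StdB (C1 mem_C1)
open scoped commutatorElement

variable {α β γ : Type} [Fintype α] [DecidableEq α] [Fintype β] [DecidableEq β] [Fintype γ]
  [DecidableEq γ] {G : Type*} [Group G] [Finite G] {ι κ l : alternatingGroup α →* G}
  {ψ : Perm β →* G} {X P M L : Subgroup G} {t s u g o : G} {p q σ τ π : Perm α} {k j : ℕ}

namespace Der

theorem four (h : Cf ι t) : 4 ≤ Fintype.card α := le_trans (by norm_num) h.eight

theorem ord_conj (g o : G) : orderOf (g * o * g⁻¹) = orderOf o := (MulAut.conj g).orderOf_eq o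

theorem od_conj (h : Cf ι t) (hg : g * t = t * g) (ho : Od ι t o) : Od ι t (g * o * g⁻¹) := by
  obtain ⟨σ, hσ⟩ := h.reg g hg
  refine ⟨((show Commute g t from hg).mul_left ho.1).mul_left (Commute.inv_left hg), ?_,
    ord_conj g o ▸ ho.2.2⟩
  simpa using hσ.conj ho.2.1

theorem exists_O' (h : Cf ι t) : ∃ O : Subgroup G, (∀ o, o ∈ O ↔ Od ι t o) ∧ Odd (Nat.card O) ∧
    ∀ g, g * t = t * g → Act ι g 1 → ∃ o ∈ O, g = o ∨ g = o * t := by
  have p2 := Bas.pg_zpowers h.iv.1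
  have le : zpowers t ≤ 𝐂[ι.range] ⊓ C1 t :=
    zpowers_le.2 (mem_inf.2 ⟨act_one_iff.1 h.cen, mem_C1.2 rfl⟩)
  have key : ∀ P : Subgroup G, IsPGroup 2 P → P ≤ 𝐂[ι.range] ⊓ C1 t → ∀ g ∈ P, g = 1 ∨ g = t :=
    fun P hP h2 g hg => h.ker g (mem_C1.1 (mem_inf.1 (h2 hg)).2)
      (act_one_iff.2 (mem_inf.1 (h2 hg)).1) (pg_iff.1 hP g hg)
  obtain ⟨T, h1, hT⟩ := Syl.exists_ge p2 le
  have e : T = zpowers t := le_antisymm (fun g hg => by
    rcases key T hT.pg hT.le g hg with rfl | rfl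
    exacts [one_mem _, mem_zpowers _]) h1
  obtain ⟨O, -, o1, o2, o3⟩ :=
    Ch.Quat.exists_odd_complement _ _ le p2 inferInstance (e ▸ hT.nd)
  refine ⟨O, fun o => ?_, o1, fun g hg ha => ?_⟩
  · rw [o2, mem_inf, mem_C1, ← act_one_iff, Od]; tauto
  · obtain ⟨o, ho, v, hv, rfl⟩ := o3 g (mem_inf.2 ⟨act_one_iff.1 ha, mem_C1.2 hg⟩)
    rcases key _ p2 le v hv with rfl | rfl
    exacts [⟨o, ho, Or.inl (mul_one o)⟩, ⟨o, ho, Or.inr rfl⟩]

end Der

theorem Cf.exists_O (h : Cf ι t) : ∃ O : Subgroup G, (∀ o, o ∈ O ↔ Od ι t o) ∧ Odd (Nat.card O) ∧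
    C1 t ≤ 𝐍[O] := by
  obtain ⟨O, o1, o2, -⟩ := Der.exists_O' h
  exact ⟨O, o1, o2, fun g hg => Tr.mem_normalizer_of_conj_mem fun o ho =>
    (o1 _).2 (Der.od_conj h (mem_C1.1 hg) ((o1 _).1 ho))⟩

theorem Cf.ker' (h : Cf ι t) (hc : g * t = t * g) (ha : Act ι g 1) :
    ∃ o, Od ι t o ∧ (g = o ∨ g = o * t) := by
  obtain ⟨O, o1, -, o3⟩ := Der.exists_O' h
  obtain ⟨o, ho, e⟩ := o3 g hc ha
  exact ⟨o, (o1 o).1 ho, e⟩

namespace Der

theorem od_comm (ho : Od ι t o) (hg : g ∈ ι.range) : Commute g o :=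
  mem_cent.1 (act_one_iff.1 ho.2.1) g hg

/-- The subgroup `O A` of `C(t)`. -/
theorem exists_N (h : Cf ι t) : ∃ N : Subgroup G,
    (∀ g, g ∈ N ↔ ∃ o, Od ι t o ∧ ∃ a ∈ ι.range, g = o * a) ∧ N ≤ C1 t ∧
      (∀ g, g * t = t * g → ∀ n ∈ N, g * n * g⁻¹ ∈ N) ∧ t ∉ N ∧
      ∀ g σ, g * t = t * g → Act ι g σ → σ ∈ alternatingGroup α → ∃ n ∈ N, g = n ∨ g = n * t := by
  obtain ⟨O, o1, -, o3⟩ := exists_O' h
  have hA : ∀ a ∈ ι.range, a * t = t * a := fun a ha => by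
    obtain ⟨p, -, rfl⟩ := mem_range_iff.1 ha
    exact h.cw.comm_ev p
  let N : Subgroup G :=
    { carrier := {g | ∃ o, Od ι t o ∧ ∃ a ∈ ι.range, g = o * a}
      one_mem' := ⟨1, (o1 1).1 (one_mem _), 1, one_mem _, (mul_one 1).symm⟩
      mul_mem' := by
        rintro _ _ ⟨o, ho, a, ha, rfl⟩ ⟨o', ho', a', ha', rfl⟩
        exact ⟨o * o', (o1 _).1 (mul_mem ((o1 _).2 ho) ((o1 _).2 ho')), a * a', mul_mem ha ha',
          (od_comm ho' ha).mul_mul_mul_comm o a'⟩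
      inv_mem' := by
        rintro _ ⟨o, ho, a, ha, rfl⟩
        exact ⟨o⁻¹, (o1 _).1 (inv_mem ((o1 _).2 ho)), a⁻¹, inv_mem ha, by
          rw [← (od_comm ho ha).eq, mul_inv_rev]⟩ }
  refine ⟨N, fun _ => Iff.rfl, ?_, ?_, ?_, fun g σ hg ha hσ => ?_⟩
  · rintro _ ⟨o, ho, a, ha, rfl⟩
    exact mul_mem (mem_C1.2 ho.1) (mem_C1.2 (hA a ha))
  · rintro g hg _ ⟨o, ho, a, ha, rfl⟩
    obtain ⟨σ, hσ⟩ := h.reg g hg
    exact ⟨_, od_conj h hg ho, g * a * g⁻¹, (mem_normalizer_iff.1 hσ.norm a).1 ha, by group⟩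
  · rintro ⟨o, ho, a, ha, e⟩
    obtain ⟨p, hp, rfl⟩ := mem_range_iff.1 ha
    have h1 := ho.2.1.mul (act_ev (ι := ι) hp)
    rw [← e, one_mul] at h1
    rw [h.cw.uniq h1 h.cen, ev_one, mul_one] at e
    have h2 := ho.2.2
    rw [← e, Bas.iv_ord h.iv] at h2
    exact absurd h2 (by decide)
  · have h1 := ha.mul (act_ev (ι := ι) hσ).inv
    rw [mul_inv_cancel] at h1
    obtain ⟨o, ho, e⟩ := o3 _
      ((show Commute g t from hg).mul_left (Commute.inv_left (h.cw.comm_ev σ))) h1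
    refine ⟨o * ev ι σ, ⟨o, (o1 o).1 ho, _, ev_mem σ, rfl⟩, e.imp (fun e => ?_) fun e => ?_⟩
    · rw [← e, inv_mul_cancel_right]
    · rw [mul_assoc, h.cw.comm_ev σ, ← mul_assoc, ← e, inv_mul_cancel_right]

end Der

theorem Cf.der' (h : Cf ι t) (hg : g ∈ ⁅C1 t, C1 t⁆) : ∃ o, Od ι t o ∧ ∃ a ∈ ι.range, g = o * a := by
  obtain ⟨N, n1, -, n3, -, n5⟩ := Der.exists_N h
  have ev1 : ∀ x y σ, x * t = t * x → y * t = t * y → Act ι x σ → σ ∈ alternatingGroup α →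
      ⁅x, y⁆ ∈ N := fun x y σ hx hy ha hσ => by
    obtain ⟨n, hn, e⟩ := n5 x σ hx ha hσ
    have h1 : ⁅n, y⁆ ∈ N := by
      have := mul_mem hn (n3 y hy _ (inv_mem hn))
      rwa [show n * (y * n⁻¹ * y⁻¹) = ⁅n, y⁆ by rw [commutatorElement_def]; group] at this
    rcases e with rfl | rfl
    · exact h1
    · have e : ⁅n * t, y⁆ = n * (t * y) * t⁻¹ * n⁻¹ * y⁻¹ := by rw [commutatorElement_def]; group
      rw [e, ← hy]
      rwa [show n * (y * t) * t⁻¹ * n⁻¹ * y⁻¹ = ⁅n, y⁆ by rw [commutatorElement_def]; group]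
  refine (n1 g).1 ((commutator_le.2 fun x hx y hy => ?_ : _ ≤ N) hg)
  rw [mem_C1] at hx hy
  obtain ⟨σ, hσ⟩ := h.reg x hx
  obtain ⟨τ, hτ⟩ := h.reg y hy
  by_cases h1 : σ ∈ alternatingGroup α
  · exact ev1 x y σ hx hy hσ h1
  by_cases h2 : τ ∈ alternatingGroup α
  · rw [← commutatorElement_inv]
    exact inv_mem (ev1 y x τ hy hx hτ h2)
  have h3 : σ⁻¹ * τ ∈ alternatingGroup α := by
    rw [Perm.mem_alternatingGroup] at h1 h2 ⊢
    rw [Perm.sign_mul, Perm.sign_inv, (Int.units_eq_one_or _).resolve_left h1,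
      (Int.units_eq_one_or _).resolve_left h2]
    decide
  have h4 := n3 x hx _ (inv_mem (ev1 (x⁻¹ * y) x _
    ((Commute.inv_left hx).mul_left hy) hx (hσ.inv.mul hτ) h3))
  rwa [show x * ⁅x⁻¹ * y, x⁆⁻¹ * x⁻¹ = ⁅x, y⁆ by simp only [commutatorElement_def]; group] at h4

theorem Cf.der (h : Cf ι t) (hg : g ∈ ⁅C1 t, C1 t⁆) (h2 : E2 g) : g ∈ ι.range := by
  obtain ⟨o, ho, a, ha, rfl⟩ := h.der' hg
  obtain ⟨k, hk⟩ := h2
  rw [(Der.od_comm ho ha).symm.mul_pow] at hk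
  obtain ⟨p, hp, e⟩ := mem_range_iff.1 (pow_mem ha (2 ^ k))
  have h1 := (ho.2.1.pow (2 ^ k)).mul (act_ev (ι := ι) hp)
  rw [e, hk, one_pow, one_mul] at h1
  rw [← e, h.cw.uniq h1 Act.one, ev_one, mul_one] at hk
  have h3 : orderOf o = 1 := Nat.Coprime.eq_one_of_dvd ((Nat.coprime_two_right.2 ho.2.2).pow_right k)
    (orderOf_dvd_of_pow_eq_one hk)
  rw [orderOf_eq_one_iff.1 h3, one_mul]
  exact ha

theorem Cf.perf_le (h : Cf ι t) (hM : M ≤ C1 t) (hp : ⁅M, M⁆ = M) : M ≤ ι.range := by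
  obtain ⟨O, o1, o2, -⟩ := h.exists_O
  have hA : ι.range ≤ C1 t := fun a ha => by
    obtain ⟨p, -, rfl⟩ := mem_range_iff.1 ha
    exact mem_C1.2 (h.cw.comm_ev p)
  have hO : O ≤ C1 t := fun o ho => mem_C1.2 ((o1 o).1 ho).1
  have : (ι.range.subgroupOf (C1 t)).Normal := ⟨fun a ha g => by
    obtain ⟨σ, hσ⟩ := h.reg g (mem_C1.1 g.2)
    exact (mem_normalizer_iff.1 hσ.norm a).1 ha⟩
  let φ := QuotientGroup.mk' (ι.range.subgroupOf (C1 t))
  have hφ : ∀ x : C1 t, φ x = 1 ↔ (x : G) ∈ ι.range := fun x => QuotientGroup.eq_one_iff x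
  have p1 : ⁅M.subgroupOf (C1 t), M.subgroupOf (C1 t)⁆ = M.subgroupOf (C1 t) :=
    map_injective (C1 t).subtype_injective (by
      rw [map_commutator, subgroupOf_map_subtype, inf_eq_left.2 hM, hp])
  have p2 : ⁅(M.subgroupOf (C1 t)).map φ, (M.subgroupOf (C1 t)).map φ⁆ =
      (M.subgroupOf (C1 t)).map φ := by rw [← map_commutator, p1]
  have le : (M.subgroupOf (C1 t)).map φ ≤ (O.subgroupOf (C1 t)).map φ := by
    rintro _ ⟨m, hm, rfl⟩
    have h1 : (m : G) ∈ ⁅M, M⁆ := by rw [hp]; exact hm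
    obtain ⟨o, ho, a, ha, e⟩ := h.der' (commutator_mono hM hM h1)
    refine ⟨⟨o, mem_C1.2 ho.1⟩, (o1 o).2 ho, ?_⟩
    rw [show m = ⟨o, mem_C1.2 ho.1⟩ * ⟨a, hA ha⟩ from Subtype.ext e, map_mul φ,
      (hφ ⟨a, hA ha⟩).2 ha, mul_one]
  have sol : Group.IsSolvable ((O.subgroupOf (C1 t)).map φ) := by
    refine S0205.result (Odd.of_dvd_nat o2 ((card_map_dvd _ _).trans ?_))
    rw [Nat.card_congr (subgroupOfEquivOfLe hO).toEquiv]
  have e := perfect_eq_bot_of_le_solvable p2 le sol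
  intro m hm
  refine (hφ ⟨m, hM hm⟩).1 (mem_bot.1 ?_)
  rw [← e]
  exact mem_map_of_mem φ hm

theorem Cf.alt_le (h : Cf ι t) (h4 : 5 ≤ Fintype.card γ) (f : alternatingGroup γ →* G)
    (hc : ∀ b, f b * t = t * f b) : f.range ≤ ι.range := by
  refine h.perf_le (by rintro _ ⟨b, rfl⟩; exact mem_C1.2 (hc b)) ?_
  have e := commutator_alternatingGroup_eq_top (α := γ) (by simpa using h4)
  rw [MonoidHom.range_eq_map, ← map_commutator, ← commutator_def, e]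

/-- Elements of odd order of `C(t)` and their commutators. -/
theorem Cf.odd_mem (h : Cf ι t) (hc : g * t = t * g) (ho : Odd (orderOf g)) :
    ∃ o, Od ι t o ∧ ∃ a ∈ ι.range, g = o * a := by
  obtain ⟨N, n1, n2, -, n4, n5⟩ := Der.exists_N h
  obtain ⟨σ, hσ⟩ := h.reg g hc
  have h1 := hσ.pow_eq_one h.inj (Der.four h) (pow_orderOf_eq_one g)
  have h2 : σ ∈ alternatingGroup α := by
    rw [Perm.mem_alternatingGroup]
    refine (Int.units_eq_one_or _).resolve_right fun e => ?_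
    have h3 := congrArg Perm.sign h1
    rw [map_pow, e, ho.neg_one_pow, map_one] at h3
    exact absurd h3 (by decide)
  obtain ⟨n, hn, e⟩ := n5 g σ hc hσ h2
  refine (n1 g).1 (e.elim (fun e => e ▸ hn) fun e => (n4 ?_).elim)
  have h3 := pow_orderOf_eq_one g
  obtain ⟨m, hm⟩ := ho
  have h4 : t ^ orderOf g = t := by rw [hm, pow_succ, pow_mul, pow_two, h.iv.1, one_pow, one_mul]
  generalize orderOf g = r at h3 h4
  rw [e, (show Commute n t from mem_C1.1 (n2 hn)).mul_pow, h4] at h3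
  rw [eq_inv_of_mul_eq_one_right h3]
  exact inv_mem (pow_mem hn r)

theorem Cf.not_der (h : Cf ι t) (hs : IsConj t s) : s ∉ ⁅C1 s, C1 s⁆ := fun hd => by
  obtain ⟨κ, h'⟩ := h.emb hs
  exact h'.cw.not_mem (h'.der hd ⟨1, by rw [pow_one, pow_two, h'.iv.1]⟩)

namespace Der

theorem ev_der {H : Subgroup (Perm α)} (hH : H ≤ alternatingGroup α) (hM : ∀ q ∈ H, ev ι q ∈ M)
    (hp : p ∈ ⁅H, H⁆) : ev ι p ∈ ⁅M, M⁆ := by
  refine (mem_pre.1 ((commutator_le.2 fun q hq r hr => ?_ : _ ≤ pre ι ⁅M, M⁆) hp)).2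
  have h1 := mul_mem (mul_mem (hH hq) (hH hr)) (inv_mem (hH hq))
  refine mem_pre.2 ⟨mul_mem h1 (inv_mem (hH hr)), ?_⟩
  rw [commutatorElement_def, ev_mul h1 (inv_mem (hH hr)), ev_conj (hH hq) (hH hr), ev_inv (hH hr)]
  exact commutator_mem_commutator (hM q hq) (hM r hr)

theorem ev_der' (h : Cf ι t) (hp : p ∈ alternatingGroup α) (h2 : p * p = 1)
    (hs : ∀ g, g * t = t * g → g * ev ι p = ev ι p * g → g * s = s * g) :
    ev ι p ∈ ⁅C1 s, C1 s⁆ :=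
  ev_der inf_le_right (fun q hq => mem_C1.2 (hs _ (h.cw.comm_ev q) (by
    rw [← ev_mul (mem_inf.1 hq).2 hp, ← ev_mul hp (mem_inf.1 hq).2, mem_C1.1 (mem_inf.1 hq).1])))
    (der_of_even (le_trans (by norm_num) h.eight) hp h2)

theorem sq_conj (h : Cf ι t) (hs : IsConj t s) : s * s = 1 := by
  obtain ⟨g, rfl⟩ := isConj_iff.1 hs
  exact (Bas.iv_conj h.iv g).1

end Der

theorem Cf.conj_not_mem (h : Cf ι t) (hs : IsConj t s) : s ∉ ι.range := fun hm => by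
  obtain ⟨p, hp, rfl⟩ := mem_range_iff.1 hm
  refine h.not_der hs (Der.ev_der' h hp ?_ fun g _ hg => hg)
  exact ev_eq_one h.inj (mul_mem hp hp) (by rw [ev_mul hp hp, Der.sq_conj h hs])

theorem Cf.eq_of_even (h : Cf ι t) (hs : IsConj t s) (hc : s * t = t * s) (ha : Act ι s σ)
    (hσ : σ ∈ alternatingGroup α) : s = t * ev ι σ :=
  (h.cw.of_even hc (Der.sq_conj h hs) ha hσ).resolve_left fun e =>
    h.conj_not_mem hs (e ▸ ev_mem σ)

theorem Cf.sg_of_even (h : Cf ι t) (hs : IsConj t s) (hc : s * t = t * s) (hne : s ≠ t)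
    (ha : Act ι s σ) (hσ : σ ∈ alternatingGroup α) (hk : Tp σ k) : Sg ι t k := by
  have e := h.eq_of_even hs hc ha hσ
  exact ⟨σ, hσ, fun h1 => hne (by rw [e, h1, ev_one, mul_one]), hk, e ▸ hs⟩

theorem Cf.ev0 (h : Cf ι t) (hn : ∀ k, ¬ Sg ι t k) : Ev0 ι t := fun u σ hu hc ha hσ => by
  by_contra hne
  have h1 := ha.pow_eq_one h.inj (Der.four h) (j := 2) (by rw [pow_two, Der.sq_conj h hu])
  obtain ⟨k, hk⟩ := tp_exists (pow_two σ ▸ h1)
  exact hn k (h.sg_of_even hu hc hne ha hσ hk)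

namespace Der

theorem even_pair (h : Cf ι t) (hp : p ∈ alternatingGroup α) (h' : Cf κ (t * ev ι p))
    (ha : Act κ t τ) : τ ∈ alternatingGroup α ∧ ev κ τ = ev ι p := by
  have h1 : ev ι p * ev ι p = 1 := by
    have := h'.iv.1
    rwa [(show Commute (ev ι p) t from h.cw.comm_ev p).mul_mul_mul_comm, h.iv.1, one_mul] at this
  have h2 : p * p = 1 := ev_eq_one h.inj (mul_mem hp hp) (by rw [ev_mul hp hp, h1])
  obtain ⟨q, hq, e⟩ := mem_range_iff.1 (h'.der (ev_der' h hp h2 fun g h3 h4 =>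
    (show Commute g t from h3).mul_right h4) ⟨1, by rw [pow_one, pow_two, h1]⟩)
  have h3 := h'.cen.mul (act_ev (ι := κ) hq)
  rw [e, mul_assoc, h1, mul_one, one_mul] at h3
  rw [h'.cw.uniq ha h3]
  exact ⟨hq, e⟩

theorem exists_hom (h : Cw ι t) (hc : P ≤ C1 t) :
    ∃ f : P →* Perm α, (∀ g : P, Act ι g (f g)) ∧ f.range = img ι P := by
  obtain ⟨f, hf⟩ := h.exists_hom
  refine ⟨f.comp (inclusion hc), fun g => hf (inclusion hc g), le_antisymm ?_ ?_⟩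
  · rintro _ ⟨g, rfl⟩
    exact ⟨g, g.2, hf (inclusion hc g)⟩
  · rintro σ ⟨g, hg, ha⟩
    exact ⟨⟨g, hg⟩, h.uniq (hf (inclusion hc ⟨g, hg⟩)) ha⟩

end Der

/-- Parity is symmetric. -/
theorem Cf.par_symm (h : Cf ι t) (h' : Cf κ s) (hs : IsConj t s) (hc : s * t = t * s)
    (h1 : Act ι s σ) (h2 : Act κ t τ) : σ ∈ alternatingGroup α ↔ τ ∈ alternatingGroup α :=
  ⟨fun hσ => (Der.even_pair h hσ (h.eq_of_even hs hc h1 hσ ▸ h') h2).1,
    fun hτ => (Der.even_pair h' hτ (h'.eq_of_even hs.symm hc.symm h2 hτ ▸ h) h1).1⟩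

/-- For an even pair the product lies in both components. -/
theorem Cf.even_pair (h : Cf ι t) (hp : p ∈ alternatingGroup α) (h' : Cf κ (t * ev ι p))
    (hs : IsConj t (t * ev ι p)) (ha : Act κ t τ) :
    τ ∈ alternatingGroup α ∧ ev κ τ = ev ι p :=
  have _ := hs
  Der.even_pair h hp h' ha

/-- Two involutions of `C(t)` with the same action. -/
theorem Cf.same_act (h : Cf ι t) (hu : u * t = t * u) (hs : s * t = t * s) (u2 : u * u = 1)
    (s2 : s * s = 1) (h1 : Act ι u σ) (h2 : Act ι s σ) :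
    ∃ o, Od ι t o ∧ (s = o * u * o⁻¹ ∨ s = o * (t * u) * o⁻¹) := by
  obtain ⟨O, o1, -, o3⟩ := Der.exists_O' h
  have h3 := h1.mul h2
  rw [← pow_two σ, h1.pow_eq_one h.inj (Der.four h) (by rw [pow_two, u2])] at h3
  obtain ⟨o, ho, e⟩ := o3 _ ((show Commute u t from hu).mul_left hs) h3
  have key : ∀ v, v * v = 1 → v * s = o → ∃ d, Od ι t d ∧ s = d * v * d⁻¹ := fun v v2 e => by
    obtain ⟨d, hd, e'⟩ := Inv.exists_conj_of_odd v2 s2 (e ▸ ((o1 o).1 ho).2.2)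
    exact ⟨d, (o1 d).1 (zpowers_le.2 (e ▸ ho) hd), e'.symm⟩
  rcases e with e | e
  · exact (key u u2 e).imp fun d hd => ⟨hd.1, Or.inl hd.2⟩
  · refine (key (t * u) ?_ ?_).imp fun d hd => ⟨hd.1, Or.inr hd.2⟩
    · rw [(show Commute u t from hu).mul_mul_mul_comm, h.iv.1, u2, mul_one]
    · rw [mul_assoc, e, ((o1 o).1 ho).1, ← mul_assoc, h.iv.1, one_mul]

/-- The odd parts agree for an even pair. -/
theorem Cf.od_even (h : Cf ι t) (hp : p ∈ alternatingGroup α) (h1 : p ≠ 1) (h' : Cf κ (t * ev ι p))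
    (hs : IsConj t (t * ev ι p)) (ha : Act κ t τ) (hk : Tp τ k) (h3 : Fintype.card α ≠ 2 * k + 3)
    (ho : Od ι t o) : Od κ (t * ev ι p) o := by
  obtain ⟨O, o1, o2, o3⟩ := h.exists_O
  obtain ⟨hτ, e⟩ := h.even_pair hp h' hs ha
  have hO : O ≤ C1 (t * ev ι p) := fun x hx => mem_C1.2
    ((show Commute x t from ((o1 x).1 hx).1).mul_right (Der.od_comm ((o1 x).1 hx) (ev_mem p)).symm)
  obtain ⟨f, f1, f2⟩ := Der.exists_hom h'.cw hO
  have k2 : 2 ≤ k := by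
    obtain ⟨m, rfl⟩ := hk.even_iff.1 hτ
    rcases Nat.eq_zero_or_pos m with rfl | hm
    · rw [tp_zero.1 hk, ev_one] at e
      exact (h1 (ev_eq_one h.inj hp e.symm)).elim
    · omega
  have hb : img κ O = ⊥ := by
    refine odd_norm hk k2 h3 (Odd.of_dvd_nat o2 ?_) ?_ fun q hq => ?_
    · rw [← f2]; exact card_range_dvd f
    · rintro σ ⟨x, hx, hσ⟩
      exact mem_C1.2 (hσ.comm h'.inj (Der.four h) ha ((o1 x).1 hx).1)
    · refine Tr.mem_normalizer_of_conj_mem ?_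
      rintro σ ⟨x, hx, hσ⟩
      have h4 : ev κ q ∈ C1 t := mem_C1.2
        ((ha.comm_iff h'.inj (mem_inf.1 hq).2).2 (mem_C1.1 (mem_inf.1 hq).1).symm).symm
      exact ⟨_, (mem_normalizer_iff.1 (o3 h4) x).1 hx, (act_ev (mem_inf.1 hq).2).conj hσ⟩
  have h4 := (o1 o).2 ho
  have h5 : f ⟨o, h4⟩ = 1 := by
    rw [← mem_bot, ← hb, ← f2]; exact ⟨_, rfl⟩
  exact ⟨mem_C1.1 (hO h4), h5 ▸ f1 ⟨o, h4⟩, ho.2.2⟩

/-- The order of a 2-subgroup of `C(t)`. -/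
theorem Cf.card_two (h : Cf ι t) (hP : IsPGroup 2 P) (hc : P ≤ C1 t) (ht : t ∈ P) :
    Nat.card P = 2 * Nat.card (img ι P) := by
  obtain ⟨f, f1, f2⟩ := Der.exists_hom h.cw hc
  have e : f.ker = zpowers ⟨t, ht⟩ := by
    refine le_antisymm (fun g hg => ?_) (zpowers_le.2 (h.cw.uniq (f1 ⟨t, ht⟩) h.cen))
    rcases h.ker g (mem_C1.1 (hc g.2)) (MonoidHom.mem_ker.1 hg ▸ f1 g) (pg_iff.1 hP g g.2) with e | e
    · rw [show g = 1 from Subtype.ext e]; exact one_mem _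
    · rw [show g = ⟨t, ht⟩ from Subtype.ext e]; exact mem_zpowers _
  rw [← card_mul_index f.ker, index_ker, f2, e, Nat.card_zpowers, ← orderOf_coe, Bas.iv_ord h.iv]

end Cfsg.Agent.SAc
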