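import Mathlib
import Cfsg.Agent.SAc.APn
import Cfsg.Agent.SAc.Der

/-! Basic rules for `Y`, (U) and H2. See `stubs/Cfsg/Agent/SAc/PLAN3.md`. -/

set_option autoImplicit false
set_option linter.unusedSectionVars false

namespace Cfsg.Agent.SAc

open Cfsg Cfsg.Agent.GT Cfsg.Agent.Loc.Mss Cfsg.Agent.Sym Cfsg.Agent.Loc.SO Cfsg.Agent.SAn Subgroup Equiv
open Cfsg.Agent.StdB (C1 mem_C1)
open scoped commutatorElement

variable {α β γ : Type} [Fintype α] [DecidableEq α] [Fintype β] [DecidableEq β] [Fintype γ]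
  [DecidableEq γ] {G : Type*} [Group G] [Finite G] {ι κ l : alternatingGroup α →* G}
  {ψ : Perm β →* G} {X P M L : Subgroup G} {t s u g o : G} {p q σ τ π : Perm α} {k j : ℕ}

variable {Y Z : Perm α → G} {a b c d x y : α} {e : Fin 8 ↪ α}

theorem Yt.comm (h : Yt ι t Y) (hp : Dt p) (hq : q ∈ alternatingGroup α) (hc : q * p = p * q) :
    Commute (ev ι q) (Y p) := by
  have := h.eqv q hq p hp
  rw [hc, mul_inv_cancel_right] at this
  exact mul_inv_eq_iff_eq_mul.1 this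

namespace AU

theorem ev_sq (hp : Dt p) : ev ι p * ev ι p = 1 := by rw [← ev_mul hp.mem hp.mem, hp.iv.1, ev_one]

theorem ev_comm (hp : p ∈ alternatingGroup α) (hq : q ∈ alternatingGroup α) (hc : p * q = q * p) :
    ev ι p * ev ι q = ev ι q * ev ι p := by rw [← ev_mul hp hq, hc, ev_mul hq hp]

theorem ph1 (h : Yt ι t Y) (hp : Dt p) : (Y p)⁻¹ * t * Y p = t * ev ι p := by
  have c := (h.comm hp hp.mem rfl).eq
  calc (Y p)⁻¹ * t * Y p = (Y p)⁻¹ * (t * ev ι p) * (ev ι p * Y p) := by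
        rw [mul_assoc _ (t * ev ι p), mul_assoc t, ← mul_assoc (ev ι p), ev_sq hp, one_mul, mul_assoc]
    _ = (Y p)⁻¹ * (Y p * t * (Y p)⁻¹) * (Y p * ev ι p) := by rw [c, h.ph p hp]
    _ = t * ev ι p := by group

theorem ph2 (h : Yt ι t Y) (hp : Dt p) : t * Y p * t = Y p * ev ι p := by
  calc t * Y p * t = t * (Y p * t * (Y p)⁻¹) * Y p := by group
    _ = t * t * (ev ι p * Y p) := by rw [h.ph p hp]; group
    _ = Y p * ev ι p := by rw [h.tt, one_mul, (h.comm hp hp.mem rfl).eq]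

theorem pow4 (z : G) : z ^ 4 = z * z * (z * z) := by
  rw [show 4 = 2 + 2 from rfl, pow_add, pow_two]

theorem odd_four (ho : Odd (orderOf o)) (h4 : o ^ 4 = 1) : o = 1 := by
  rw [← orderOf_eq_one_iff]
  exact Nat.eq_one_of_dvd_coprimes ((Odd.coprime_two_right ho).pow_right 2) dvd_rfl
    (orderOf_dvd_of_pow_eq_one h4)

theorem prod3 {x y z A V W m d : G} (h1 : A * y = y * A) (h2 : m * V = V * m)
    (h3 : A * d * V * z = z * (A * d * V)) (h4 : m * W = W * m) (h5 : m * y = y * d * m)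
    (h6 : m * m * z = z * (m * m)) :
    x * A * m * (y * V * m) * (z * W * m) = x * y * z * (A * d * V * W) * m ^ 3 := by
  calc x * A * m * (y * V * m) * (z * W * m) = x * A * (m * y) * V * m * z * W * m := by group
    _ = x * (A * y) * d * (m * V) * m * z * W * m := by rw [h5]; group
    _ = x * y * (A * d * V) * (m * m * z) * W * m := by rw [h1, h2]; group
    _ = x * y * (A * d * V * z) * m * (m * W) * m := by rw [h6]; group
    _ = x * y * z * (A * d * V) * (m * W) * m * m := by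
      rw [h3]
      conv_lhs => rw [h4]
      simp only [mul_assoc]
    _ = x * y * z * (A * d * V * W) * m ^ 3 := by rw [h4, pow_three]; simp only [mul_assoc]

theorem core {x B a A m : G} (φ : G →* G) (fB : φ B = B) (fm : φ m = m)
    (avw : a * φ a * φ (φ a) = 1) (aa : a * a = 1) (vw : φ a ≠ φ (φ a)) (av : a * φ a = φ a * a)
    (ax : a * x = x * a) (ay : a * φ x = φ x * a) (az : a * φ (φ x) = φ (φ x) * a)
    (ma : m * a = a * m) (xyz : x * φ x * φ (φ x) = 1) (x4 : x ^ 4 = 1)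
    (hA : A = 1 ∨ A = a) (hk : B * x * B⁻¹ = x * A * m)
    (hU : m * x * m⁻¹ = x ∨ m * x * m⁻¹ = x * a) : m = 1 := by
  have k1 : B * φ x * B⁻¹ = φ x * φ A * m := by simpa [fB, fm] using congrArg φ hk
  have k2 : B * φ (φ x) * B⁻¹ = φ (φ x) * φ (φ A) * m := by simpa [fB, fm] using congrArg φ k1
  have vz : φ a * φ (φ x) = φ (φ x) * φ a := by simpa using congrArg φ ay
  have mv : m * φ a = φ a * m := by simpa [fm] using congrArg φ ma
  have mw : m * φ (φ a) = φ (φ a) * m := by simpa [fm] using congrArg φ mv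
  have vv : φ a * φ a = 1 := by simpa using congrArg φ aa
  have ww : φ (φ a) * φ (φ a) = 1 := by simpa using congrArg φ vv
  have one : x * A * m * (φ x * φ A * m) * (φ (φ x) * φ (φ A) * m) = 1 := by
    rw [← hk, ← k1, ← k2]
    calc B * x * B⁻¹ * (B * φ x * B⁻¹) * (B * φ (φ x) * B⁻¹) = B * (x * φ x * φ (φ x)) * B⁻¹ := by
          group
      _ = 1 := by rw [xyz]; group
  have cA : Commute A (φ x) ∧ Commute A (φ (φ x)) ∧ Commute (φ A) (φ (φ x)) ∧ Commute m (φ A) ∧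
      Commute m (φ (φ A)) ∧ A * φ A * φ (φ A) = 1 ∧ Commute A (φ a) ∧ Commute m A ∧ Commute x A ∧
      A * A = 1 ∧ Commute (φ a) (φ A) := by
    rcases hA with rfl | rfl
    · simp
    · exact ⟨ay, az, vz, mv, mw, avw, av, ma, ax.symm, aa, Commute.refl _⟩
  obtain ⟨c1, c2, c3, c4, c5, c6, c7, c8, c9, c10, -⟩ := cA
  rcases hU with u | u
  · have u0 : m * x = x * m := mul_inv_eq_iff_eq_mul.1 u
    have u1 : m * φ x = φ x * m := by simpa [fm] using congrArg φ u0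
    have u2' : m * φ (φ x) = φ (φ x) * m := by simpa [fm] using congrArg φ u1
    have u2 : Commute m (φ (φ x)) := u2'
    rw [prod3 (d := 1) c1 c4 (by rw [mul_one]; exact (c2.mul_left c3).eq) c5 (by rw [mul_one, u1])
      (u2.mul_left u2).eq, xyz, mul_one, c6, one_mul, one_mul] at one
    have f4 : (x * A * m) ^ 4 = 1 := by rw [← hk, conj_pow, x4]; group
    rw [((show Commute x m from u0.symm).mul_left c8.symm).mul_pow, c9.mul_pow, x4,
      pow4 A, c10, one_mul, one_mul, one_mul, pow_succ, one,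
      one_mul] at f4
    exact f4
  · have u0 : m * x = x * a * m := mul_inv_eq_iff_eq_mul.1 u
    have u1 : m * φ x = φ x * φ a * m := by simpa [fm] using congrArg φ u0
    have u2 : m * φ (φ x) = φ (φ x) * φ (φ a) * m := by simpa [fm] using congrArg φ u1
    have u3 : m * m * φ (φ x) = φ (φ x) * (m * m) := by
      calc m * m * φ (φ x) = m * (φ (φ x) * φ (φ a) * m) := by rw [mul_assoc, u2]
        _ = m * φ (φ x) * φ (φ a) * m := by simp only [mul_assoc]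
        _ = φ (φ x) * φ (φ a) * (m * φ (φ a)) * m := by rw [u2]; simp only [mul_assoc]
        _ = φ (φ x) * (φ (φ a) * φ (φ a)) * (m * m) := by rw [mw]; group
        _ = _ := by rw [ww, mul_one]
    rw [prod3 c1 c4 ((c2.mul_left vz).mul_left c3).eq c5 u1 u3, xyz, one_mul, c7.eq,
      mul_assoc (φ a), mul_assoc (φ a), c6, mul_one] at one
    have two := congrArg φ one
    rw [map_mul, map_pow, fm, map_one, ← one] at two
    exact (vw (mul_right_cancel two).symm).elim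

end AU

open AU

theorem Yt.four (h : Yt ι t Y) (hp : Dt p) : Y p ^ 4 = 1 ∧ (Y p * ev ι p) ^ 4 = 1 ∧ (t * Y p) ^ 4 = 1 ∧
    (t * Y p) * (t * Y p) = ev ι p * (Y p * Y p) := by
  have c := h.comm hp hp.mem rfl
  have e4 : ∀ z : G, z ^ 4 = z * z * (z * z) := pow4
  have p4 : ev ι p ^ 4 = 1 := by rw [e4, ev_sq hp, one_mul]
  have y4 : Y p ^ 4 = 1 := by
    rw [e4]
    rcases h.sq with k | k <;> rw [k p hp]
    · rw [one_mul]
    · exact ev_sq hp
  have ty : (t * Y p) * (t * Y p) = ev ι p * (Y p * Y p) := by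
    rw [← mul_assoc, ph2 h hp, ← c.eq, mul_assoc]
  refine ⟨y4, by rw [c.symm.mul_pow, y4, p4, one_mul], ?_, ty⟩
  rw [e4, ty, ← pow_two, (c.mul_right c).mul_pow, pow_two, ev_sq hp, one_mul, pow_two, ← e4, y4]

theorem Yt.ph' (h : Yt ι t Y) (hp : Dt p) : (Y p)⁻¹ * t * Y p = t * ev ι p ∧ t * Y p * t = Y p * ev ι p ∧
    ¬ Commute t (Y p) := ⟨ph1 h hp, ph2 h hp, fun c => by
  have := h.ph p hp
  rw [← c.eq, mul_inv_cancel_right, left_eq_mul] at this
  exact hp.iv.2 (ev_eq_one h.inj hp.mem this)⟩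

/-- `[Y q, Y p]` centralizes `t` when `p` and `q` commute -/
theorem Yt.cm_t (h : Yt ι t Y) (hp : Dt p) (hq : Dt q) (hc : p * q = q * p) :
    (Y p)⁻¹ * Y q * Y p * (Y q)⁻¹ * t = t * ((Y p)⁻¹ * Y q * Y p * (Y q)⁻¹) := by
  have pp := (h.comm hp hp.mem rfl).eq
  have qq := (h.comm hq hq.mem rfl).eq
  have pq := (h.comm hq hp.mem hc).eq
  have qp := (h.comm hp hq.mem hc.symm).eq
  have e1 : (Y q)⁻¹ * t = t * ev ι q * (Y q)⁻¹ := by rw [← ph1 h hq]; group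
  have e2 : Y p * t = t * ev ι p * Y p := by rw [← h.ph p hp]; group
  have e3 : Y q * t = t * ev ι q * Y q := by rw [← h.ph q hq]; group
  have e4 : (Y p)⁻¹ * t = t * ev ι p * (Y p)⁻¹ := by rw [← ph1 h hp]; group
  have e5 : (Y p)⁻¹ * ev ι q = ev ι q * (Y p)⁻¹ := ((show Commute _ _ from qp).inv_right).eq.symm
  have e6 : (Y p)⁻¹ * ev ι p = ev ι p * (Y p)⁻¹ := ((show Commute _ _ from pp).inv_right).eq.symm
  calc (Y p)⁻¹ * Y q * Y p * (Y q)⁻¹ * t = (Y p)⁻¹ * Y q * (Y p * t) * ev ι q * (Y q)⁻¹ := by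
        rw [mul_assoc _ _ t, e1]; group
    _ = (Y p)⁻¹ * (Y q * t) * ev ι p * (Y p * ev ι q) * (Y q)⁻¹ := by rw [e2]; group
    _ = (Y p)⁻¹ * t * ev ι q * (Y q * ev ι p) * ev ι q * Y p * (Y q)⁻¹ := by rw [e3, ← qp]; group
    _ = (Y p)⁻¹ * t * (ev ι q * ev ι p) * (Y q * ev ι q) * Y p * (Y q)⁻¹ := by rw [← pq]; group
    _ = (Y p)⁻¹ * t * ev ι p * (ev ι q * ev ι q) * Y q * Y p * (Y q)⁻¹ := by
        rw [← qq, ← ev_comm hp.mem hq.mem hc]; group
    _ = t * ev ι p * ((Y p)⁻¹ * ev ι p) * Y q * Y p * (Y q)⁻¹ := by rw [ev_sq hq, e4]; group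
    _ = t * (ev ι p * ev ι p) * ((Y p)⁻¹ * Y q * Y p * (Y q)⁻¹) := by rw [e6]; group
    _ = _ := by rw [ev_sq hp, mul_one]

/-- an element of `C(t)` acting evenly and commuting with a `Y p` centralized by the permutation -/
theorem YG.eq_ev (h : YG ι t Y) (hc : g * t = t * g) (h2 : E2 g) (ha : Act ι g σ)
    (hσ : σ ∈ alternatingGroup α) (hp : Dt p) (h1 : σ * p = p * σ) (h3 : Commute g (Y p)) : g = ev ι σ := by
  refine (h.cf.of_even hc h2 ha hσ).resolve_right fun k => (h.yt.ph' hp).2.2 ?_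
  have := h3.mul_left (h.yt.comm hp hσ h1).inv_left
  rwa [k, mul_inv_cancel_right] at this

/-- (U) -/
theorem YG.uq (h : YG ι t Y) (hc : g * t = t * g) (ha : Act ι g σ) (hp : Dt p) :
    g * Y p * g⁻¹ = Y (σ * p * σ⁻¹) ∨ g * Y p * g⁻¹ = Y (σ * p * σ⁻¹) * ev ι (σ * p * σ⁻¹) := by
  have hp' := hp.conj σ
  have eP := ha p hp.mem
  have cq : ∀ q ∈ alternatingGroup α, q * (σ * p * σ⁻¹) = σ * p * σ⁻¹ * q →
      Commute (ev ι q) (g * Y p * g⁻¹) := fun q hq hqc => by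
    have m1 : σ⁻¹ * q * σ⁻¹⁻¹ ∈ alternatingGroup α := conj_mem_alt hq _
    have c1 := h.yt.comm hp m1 (by
      calc σ⁻¹ * q * σ⁻¹⁻¹ * p = σ⁻¹ * (q * (σ * p * σ⁻¹)) * σ := by group
        _ = p * (σ⁻¹ * q * σ⁻¹⁻¹) := by rw [hqc]; group)
    have c2 := ha _ m1
    rw [show σ * (σ⁻¹ * q * σ⁻¹⁻¹) * σ⁻¹ = q by group] at c2
    rw [← c2]
    exact SAn.Bas.conj_comm c1.eq g
  have sq : g * Y p * g⁻¹ * (g * Y p * g⁻¹) = Y (σ * p * σ⁻¹) * Y (σ * p * σ⁻¹) := by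
    rw [show g * Y p * g⁻¹ * (g * Y p * g⁻¹) = g * (Y p * Y p) * g⁻¹ by group]
    rcases h.yt.sq with k | k <;> rw [k p hp, k _ hp']
    · group
    · exact eP
  have y4 : (g * Y p * g⁻¹) ^ 4 = 1 := by rw [conj_pow, (h.yt.four hp).1]; group
  have yt : g * Y p * g⁻¹ * t * (g * Y p * g⁻¹)⁻¹ = t * ev ι (σ * p * σ⁻¹) := by
    have c : g⁻¹ * t = t * g⁻¹ := (show Commute g t from hc).inv_left.eq
    calc g * Y p * g⁻¹ * t * (g * Y p * g⁻¹)⁻¹ = g * Y p * (g⁻¹ * t) * g * (Y p)⁻¹ * g⁻¹ := by group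
      _ = g * (Y p * t * (Y p)⁻¹) * g⁻¹ := by rw [c]; group
      _ = g * t * g⁻¹ * (g * ev ι p * g⁻¹) := by rw [h.yt.ph p hp]; group
      _ = _ := by rw [hc, mul_inv_cancel_right, eP]
  generalize σ * p * σ⁻¹ = r at *
  generalize g * Y p * g⁻¹ = y at *
  have cr := h.yt.comm hp' hp'.mem rfl
  have kt : y * (Y r)⁻¹ * t = t * (y * (Y r)⁻¹) := by
    calc y * (Y r)⁻¹ * t = y * ((Y r)⁻¹ * t * Y r) * (Y r)⁻¹ := by group
      _ = y * t * y⁻¹ * (y * ev ι r) * (Y r)⁻¹ := by rw [ph1 h.yt hp']; group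
      _ = t * (ev ι r * ev ι r) * (y * (Y r)⁻¹) := by rw [yt, ← (cq r hp'.mem rfl).eq]; group
      _ = _ := by rw [ev_sq hp', mul_one]
  obtain ⟨τ, hτ⟩ := h.cf.reg _ kt
  have hτ' : τ = 1 ∨ τ = r := cent_self h.cf.eight hp' fun q hq hqc =>
    (hτ.comm_iff h.cf.inj hq).1 ((cq q hq hqc).mul_right (h.yt.comm hp' hq hqc).inv_right).eq.symm
  have mτ : τ ∈ alternatingGroup α := by
    rcases hτ' with rfl | rfl
    · exact one_mem _
    · exact hp'.mem
  obtain ⟨k0, e0, k1, k2, -⟩ := h.cf.cw.even_aux kt hτ mτ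
  obtain ⟨o, ho, e1⟩ := h.cf.ker' k1 k2
  have ey : y = k0 * (ev ι τ * Y r) := by rw [← mul_assoc, ← e0]; group
  obtain ⟨f1, f2, f3, f4⟩ := h.yt.four hp'
  have oc : Commute o (ev ι τ * Y r) := (Der.od_comm ho (ev_mem τ)).symm.mul_right (h.od o ho r hp')
  have cτ : Commute (ev ι τ) (Y r) ∧ ev ι τ * ev ι τ = 1 := by
    rcases hτ' with rfl | rfl
    · simp
    · exact ⟨cr, ev_sq hp'⟩
  rcases e1 with rfl | rfl
  · have w4 : (ev ι τ * Y r) ^ 4 = 1 := by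
      rw [cτ.1.mul_pow, f1, mul_one, pow4,
        cτ.2, one_mul]
    rw [ey, oc.mul_pow, w4, mul_one] at y4
    rw [odd_four ho.2.2 y4, one_mul] at ey
    rcases hτ' with rfl | rfl
    · exact Or.inl (by simpa using ey)
    · exact Or.inr (ey.trans cr.eq)
  · exfalso
    have ct : Commute (ev ι τ) (t * Y r) := (show Commute _ _ from h.yt.tc τ).mul_right cτ.1
    have e2 : t * (ev ι τ * Y r) = ev ι τ * (t * Y r) := by
      rw [← mul_assoc, ← h.yt.tc, mul_assoc]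
    rw [mul_assoc, e2] at ey
    have oc' : Commute o (ev ι τ * (t * Y r)) := (Der.od_comm ho (ev_mem τ)).symm.mul_right
      ((show Commute _ _ from ho.1).mul_right (h.od o ho r hp'))
    have w4 : (ev ι τ * (t * Y r)) ^ 4 = 1 := by
      rw [ct.mul_pow, f3, mul_one, pow4,
        cτ.2, one_mul]
    rw [ey, oc'.mul_pow, w4, mul_one] at y4
    rw [odd_four ho.2.2 y4, one_mul] at ey
    rw [ey, ← pow_two, ct.mul_pow, pow_two, cτ.2, one_mul, pow_two, f4, mul_eq_right] at sq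
    exact hp'.iv.2 (ev_eq_one h.cf.inj hp'.mem sq)

namespace AU

theorem cyc_eq (e : Fin 8 ↪ α) (i j k : Fin 8) :
    cyc3 (e i) (e j) (e k) = Perm.viaEmbeddingHom e (cyc3 i j k) := by
  rw [cyc3, cyc3, map_mul, ← sE_eq, ← sE_eq, sE, sE]

theorem half (h : YG ι t Y) (e : Fin 8 ↪ α) :
    (Y (dE e 0 1 2 3))⁻¹ * Y (dE e 4 5 6 7) * Y (dE e 0 1 2 3) * (Y (dE e 4 5 6 7))⁻¹ = 1 ∨
    (Y (dE e 0 1 2 3))⁻¹ * Y (dE e 4 5 6 7) * Y (dE e 0 1 2 3) * (Y (dE e 4 5 6 7))⁻¹ =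
      ev ι (dE e 0 1 2 3) := by
  have d4 : D4 (e 0) (e 1) (e 2) (e 3) := d4_emb e (by constructor <;> decide)
  have da : Dt (dE e 0 1 2 3) := dE_dt e (by constructor <;> decide)
  have dv : Dt (dE e 0 2 1 3) := dE_dt e (by constructor <;> decide)
  have dw : Dt (dE e 0 3 1 2) := dE_dt e (by constructor <;> decide)
  have db : Dt (dE e 4 5 6 7) := dE_dt e (by constructor <;> decide)
  have dj : Dt (dE e 0 1 4 5) := dE_dt e (by constructor <;> decide)
  have cm : ∀ μ ν : Perm (Fin 8), μ * ν = ν * μ → Perm.viaEmbeddingHom e μ * Perm.viaEmbeddingHom e ν =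
      Perm.viaEmbeddingHom e ν * Perm.viaEmbeddingHom e μ := fun μ ν k => by
    rw [← map_mul, k, map_mul]
  have ab : dE e 0 1 2 3 * dE e 4 5 6 7 = dE e 4 5 6 7 * dE e 0 1 2 3 := by
    simp only [dE_eq]; exact cm _ _ (by decide)
  have vb : dE e 0 2 1 3 * dE e 4 5 6 7 = dE e 4 5 6 7 * dE e 0 2 1 3 := by
    simp only [dE_eq]; exact cm _ _ (by decide)
  have ja : dE e 0 1 4 5 * dE e 0 1 2 3 = dE e 0 1 2 3 * dE e 0 1 4 5 := by
    simp only [dE_eq]; exact cm _ _ (by decide)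
  have jb : dE e 0 1 4 5 * dE e 4 5 6 7 = dE e 4 5 6 7 * dE e 0 1 4 5 := by
    simp only [dE_eq]; exact cm _ _ (by decide)
  have av : dE e 0 1 2 3 * dE e 0 2 1 3 = dE e 0 2 1 3 * dE e 0 1 2 3 := d4.dt_comm
  have aw : dE e 0 1 2 3 * dE e 0 3 1 2 = dE e 0 3 1 2 * dE e 0 1 2 3 := by
    simp only [dE_eq]; exact cm _ _ (by decide)
  have mc : cyc3 (e 1) (e 2) (e 3) ∈ alternatingGroup α := by
    rw [cyc_eq, via_mem, Perm.mem_alternatingGroup]; decide
  have cb : cyc3 (e 1) (e 2) (e 3) * dE e 4 5 6 7 = dE e 4 5 6 7 * cyc3 (e 1) (e 2) (e 3) := by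
    simp only [dE_eq, cyc_eq]; exact cm _ _ (by decide)
  have ca : cyc3 (e 1) (e 2) (e 3) * dE e 0 1 2 3 * (cyc3 (e 1) (e 2) (e 3))⁻¹ = dE e 0 2 1 3 := by
    simp only [dE_eq, cyc_eq, ← map_inv, ← map_mul]; exact congrArg _ (by decide)
  have cv : cyc3 (e 1) (e 2) (e 3) * dE e 0 2 1 3 * (cyc3 (e 1) (e 2) (e 3))⁻¹ = dE e 0 3 1 2 := by
    simp only [dE_eq, cyc_eq, ← map_inv, ← map_mul]; exact congrArg _ (by decide)
  have on : cyc3 (e 1) (e 2) (e 3) ∈ altOn ({e 0, e 1, e 2, e 3} : Finset α) :=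
    mem_altOn.2 ⟨mc, fun x hx => by
      simp only [Finset.mem_insert, Finset.mem_singleton, not_or] at hx
      simp [cyc3, swap_apply_of_ne_of_ne, hx.2.1, hx.2.2.1, hx.2.2.2]⟩
  have kt := h.yt.cm_t da db ab
  obtain ⟨σ, hσ⟩ := h.cf.reg _ kt
  have kc : ∀ q, Dt q → q * dE e 0 1 2 3 = dE e 0 1 2 3 * q → q * dE e 4 5 6 7 = dE e 4 5 6 7 * q →
      σ * q = q * σ := fun q hq h1 h2 => by
    have c1 := h.yt.comm da hq.mem h1
    have c2 := h.yt.comm db hq.mem h2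
    exact (hσ.comm_iff h.cf.inj hq.mem).1
      (((c1.inv_right.mul_right c2).mul_right c1).mul_right c2.inv_right).eq.symm
  have o4 : SAn.Out (e 0) (e 1) (e 2) (e 3) (e 4) := by
    constructor <;> exact fun k => absurd (e.injective k) (by decide)
  have o5 : SAn.Out (e 0) (e 1) (e 2) (e 3) (e 5) := by
    constructor <;> exact fun k => absurd (e.injective k) (by decide)
  have fx := cent_V d4 o4 o5 (fun k => absurd (e.injective k) (by decide)) (kc _ da rfl ab)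
    (kc _ dv av.symm vb) (kc _ dj ja jb)
  generalize hk : (Y (dE e 0 1 2 3))⁻¹ * Y (dE e 4 5 6 7) * Y (dE e 0 1 2 3) *
    (Y (dE e 4 5 6 7))⁻¹ = k at *
  obtain ⟨A, m, τ, hA, e1, mt, am, ft⟩ : ∃ (A m : G) (τ : Perm α), (A = 1 ∨ A = ev ι (dE e 0 1 2 3)) ∧
      k = A * m ∧ m * t = t * m ∧ Act ι m τ ∧ Fx (e 0) (e 1) (e 2) (e 3) τ := by
    rcases fx with f | f
    · exact ⟨1, k, σ, Or.inl rfl, (one_mul k).symm, kt, hσ, f⟩
    · exact ⟨_, ev ι (dE e 0 1 2 3) * k, _, Or.inr rfl, by rw [← mul_assoc, ev_sq da, one_mul],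
        ((show Commute _ _ from h.yt.tc _).mul_left kt).eq, (act_ev da.mem).mul hσ, f⟩
  have ta : τ * dE e 0 1 2 3 = dE e 0 1 2 3 * τ :=
    d4.comm_of_fx ft (d4.V4_le (subset_closure (Or.inl rfl)))
  have hU := h.uq mt am da
  rw [ta, mul_inv_cancel_right] at hU
  let φ : G →* G := (MulAut.conj (ev ι (cyc3 (e 1) (e 2) (e 3)))).toMonoidHom
  have φe : ∀ q ∈ alternatingGroup α, φ (ev ι q) =
      ev ι (cyc3 (e 1) (e 2) (e 3) * q * (cyc3 (e 1) (e 2) (e 3))⁻¹) := fun q hq =>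
    (ev_conj mc hq).symm
  have φY : ∀ q, Dt q → φ (Y q) = Y (cyc3 (e 1) (e 2) (e 3) * q * (cyc3 (e 1) (e 2) (e 3))⁻¹) :=
    fun q hq => h.yt.eqv _ mc q hq
  have a1 : φ (ev ι (dE e 0 1 2 3)) = ev ι (dE e 0 2 1 3) := by rw [φe _ da.mem, ca]
  have a2 : φ (ev ι (dE e 0 2 1 3)) = ev ι (dE e 0 3 1 2) := by rw [φe _ dv.mem, cv]
  have y1 : φ (Y (dE e 0 1 2 3)) = Y (dE e 0 2 1 3) := by rw [φY _ da, ca]
  have y2 : φ (Y (dE e 0 2 1 3)) = Y (dE e 0 3 1 2) := by rw [φY _ dv, cv]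
  have m1 : m = 1 := core (x := Y (dE e 0 1 2 3)) (B := Y (dE e 4 5 6 7)) (a := ev ι (dE e 0 1 2 3)) φ
    (by rw [φY _ db, cb, mul_inv_cancel_right])
    (mul_inv_eq_iff_eq_mul.2 ((am.comm_iff h.cf.inj mc).2 (d4.comm_of_fx ft on)).symm)
    (by
      rw [a1, a2, ← ev_mul da.mem dv.mem]
      exact (congrArg (fun z => ev ι z * _) d4.dt_mul).trans (ev_sq dw))
    (ev_sq da)
    (by
      rw [a1, a2]
      intro k
      have := ev_inj h.cf.inj dv.mem dw.mem k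
      simp only [dE_eq] at this
      exact absurd (Perm.viaEmbeddingHom_injective e this) (by decide))
    (by rw [a1]; exact ev_comm da.mem dv.mem av) (h.yt.comm da da.mem rfl).eq
    (by rw [y1]; exact (h.yt.comm dv da.mem av).eq)
    (by rw [y1, y2]; exact (h.yt.comm dw da.mem aw).eq)
    ((am.comm_iff h.cf.inj da.mem).2 ta) (by rw [y1, y2]; exact h.yt.va _ _ _ _ d4)
    (h.yt.four da).1 hA (by rw [mul_assoc _ A, ← e1, ← hk]; group) hU
  rw [m1, mul_one] at e1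
  rwa [e1]

end AU

/-- H2 -/
theorem YG.dc (h : YG ι t Y) : DC Y := fun e => by
  have da : Dt (dE e 0 1 2 3) := dE_dt e (by constructor <;> decide)
  have db : Dt (dE e 4 5 6 7) := dE_dt e (by constructor <;> decide)
  have ab : dE e 0 1 2 3 * dE e 4 5 6 7 = dE e 4 5 6 7 * dE e 0 1 2 3 := by
    simp only [dE_eq, ← map_mul]; exact congrArg _ (by decide)
  have h1 := half h e
  have h2 := half h ((swap 0 4 * swap 1 5 * swap 2 6 * swap 3 7 : Perm (Fin 8)).toEmbedding.trans e)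
  rw [dE_trans, dE_trans] at h2
  change (Y (dE e 4 5 6 7))⁻¹ * Y (dE e 0 1 2 3) * Y (dE e 4 5 6 7) * (Y (dE e 0 1 2 3))⁻¹ = 1 ∨
    (Y (dE e 4 5 6 7))⁻¹ * Y (dE e 0 1 2 3) * Y (dE e 4 5 6 7) * (Y (dE e 0 1 2 3))⁻¹ =
      ev ι (dE e 4 5 6 7) at h2
  have ne : ev ι (dE e 0 1 2 3) * ev ι (dE e 4 5 6 7) ≠ 1 := fun k => by
    rw [← ev_mul da.mem db.mem] at k
    have := ev_eq_one h.cf.inj (mul_mem da.mem db.mem) k
    simp only [dE_eq, ← map_mul] at this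
    exact absurd (Perm.viaEmbeddingHom_injective e (this.trans (map_one _).symm)) (by decide)
  have c1 := (h.yt.comm da da.mem rfl).eq
  have c2 := (h.yt.comm db db.mem rfl).eq
  generalize Y (dE e 0 1 2 3) = x at *
  generalize Y (dE e 4 5 6 7) = y at *
  rcases h1 with k1 | k1
  · calc x * y = x * (x⁻¹ * y * x * y⁻¹) * y := by rw [k1, mul_one]
      _ = y * x := by group
  rcases h2 with k2 | k2
  · calc x * y = y * (y⁻¹ * x * y * x⁻¹) * x := by group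
      _ = y * x := by rw [k2, mul_one]
  refine (ne ?_).elim
  have e1 : y * x = ev ι (dE e 0 1 2 3) * (x * y) := by rw [← mul_assoc, c1, ← k1]; group
  have e2 : x * y = ev ι (dE e 4 5 6 7) * (y * x) := by rw [← mul_assoc, c2, ← k2]; group
  rw [e2, ← mul_assoc] at e1
  exact mul_eq_right.1 e1.symm

end Cfsg.Agent.SAc
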