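import Mathlib
import Cfsg.Agent.SAc.AU
import Cfsg.Agent.S0892

/-! The doubling (H9). See `stubs/Cfsg/Agent/SAc/PLAN3.md`. -/

set_option autoImplicit false
set_option linter.unusedSectionVars false

namespace Cfsg.Agent.SAc

open Cfsg Cfsg.Agent.GT Cfsg.Agent.Loc.Mss Cfsg.Agent.Sym Cfsg.Agent.Loc.SO Cfsg.Agent.SAn Subgroup Equiv
open Cfsg.Agent.StdB (C1 mem_C1)
open scoped commutatorElement

variable {α β γ : Type} [Fintype α] [DecidableEq α] [Fintype β] [DecidableEq β] [Fintype γ]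
  [DecidableEq γ] {G : Type*} [Group G] [Finite G] {ι κ l : alternatingGroup α →* G}
  {ψ : Perm β →* G} {X P M L : Subgroup G} {t s u g o : G} {p q σ τ π : Perm α} {k j : ℕ}

variable {Y Z : Perm α → G} {a b c d x y : α} {e : Fin 8 ↪ α}

namespace AD

/-- The group generated by the `Z p`. -/
def LZ (Z : Perm α → G) : Subgroup G := closure {g | ∃ p, Dt p ∧ g = Z p}

theorem mem_LZ (hp : Dt p) : Z p ∈ LZ Z := subset_closure ⟨p, hp, rfl⟩

theorem tZ (hz : Zt ι t Z) (hp : Dt p) : t * Z p * t⁻¹ = Z p * ev ι p := by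
  rw [inv_eq_of_mul_eq_one_right hz.yt.tt]; exact (hz.yt.ph' hp).2.1

theorem cm (hz : Zt ι t Z) (hg : ∀ p q, Dt p → Dt q → Good ι Z p q) {v w : G} (hv : v ∈ LZ Z) (hw : w ∈ LZ Z) :
    v * (t * w * t⁻¹) = t * w * t⁻¹ * v := by
  have h1 : LZ Z ≤ (C1 v).comap (MulAut.conj t).toMonoidHom := (closure_le _).2 fun _ ⟨q, hq, e⟩ => by
    have h2 : LZ Z ≤ C1 (Z q * ev ι q) := (closure_le _).2 fun _ ⟨p, hp, e⟩ => e ▸ mem_C1.2 (hg p q hp hq)
    change t * _ * t⁻¹ ∈ C1 v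
    rw [e, tZ hz hq]
    exact mem_C1.2 (mem_C1.1 (h2 hv)).symm
  exact (mem_C1.1 (h1 hw)).symm

/-- The diagonal map. -/
def δ (hz : Zt ι t Z) (hg : ∀ p q, Dt p → Dt q → Good ι Z p q) : LZ Z →* G :=
  MonoidHom.mk' (fun v => v * (t * v * t⁻¹)) fun v w => by
    calc _ = (v : G) * (w * (t * v * t⁻¹)) * (t * w * t⁻¹) := by push_cast; group
      _ = _ := by rw [cm hz hg w.2 v.2]; group

theorem δ_Z (hz : Zt ι t Z) (hg : ∀ p q, Dt p → Dt q → Good ι Z p q) (hp : Dt p) :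
    δ hz hg ⟨Z p, mem_LZ hp⟩ = ev ι p := by
  change Z p * (t * Z p * t⁻¹) = _
  rw [tZ hz hp, ← mul_assoc, hz.sq p hp, one_mul]

theorem ind {H : Subgroup (LZ Z)} (h : ∀ p (hp : Dt p), ⟨Z p, mem_LZ hp⟩ ∈ H) (v : LZ Z) : v ∈ H := by
  have h1 : LZ Z ≤ H.map (LZ Z).subtype := (closure_le _).2 fun _ ⟨p, hp, e⟩ => ⟨_, h p hp, e.symm⟩
  exact (mem_map_iff_mem (LZ Z).subtype_injective).1 (h1 v.2)

theorem range_δ (hz : Zt ι t Z) (hg : ∀ p q, Dt p → Dt q → Good ι Z p q) : (δ hz hg).range = ι.range := by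
  refine le_antisymm (fun _ ⟨v, e⟩ => e ▸ ind (H := ι.range.comap (δ hz hg))
    (fun p hp => by rw [mem_comap, δ_Z hz hg hp]; exact ev_mem p) v) fun _ ⟨r, e⟩ => ?_
  have h1 : alternatingGroup α ≤ ((δ hz hg).range.comap ι).map (alternatingGroup α).subtype := by
    refine (closure_dt (by have := hz.yt.eight; omega)).ge.trans ((closure_le _).2 fun p hp => ?_)
    exact ⟨⟨p, Dt.mem hp⟩, ⟨_, (δ_Z hz hg hp).trans (ev_of_mem _)⟩, rfl⟩
  exact e ▸ (mem_map_iff_mem (alternatingGroup α).subtype_injective).1 (h1 r.2)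

theorem sq_mem (hz : Zt ι t Z) (v : LZ Z) : v * v ∈ commutator (LZ Z) := by
  have h1 := ind (H := ((powMonoidHom 2).comp Abelianization.of).ker) (fun p hp => by
    rw [MonoidHom.mem_ker, MonoidHom.comp_apply, powMonoidHom_apply, ← map_pow, pow_two,
      show (⟨Z p, mem_LZ hp⟩ * ⟨Z p, mem_LZ hp⟩ : LZ Z) = 1 from Subtype.ext (hz.sq p hp), map_one]) v
  rwa [MonoidHom.mem_ker, MonoidHom.comp_apply, powMonoidHom_apply, ← map_pow, pow_two, ← MonoidHom.mem_ker,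
    Abelianization.ker_of] at h1

theorem inv_eq (hz : Zt ι t Z) (hg : ∀ p q, Dt p → Dt q → Good ι Z p q) {v : LZ Z} (hv : δ hz hg v = 1) :
    t * v * t⁻¹ = (v : G)⁻¹ := eq_inv_of_mul_eq_one_right hv

theorem cen (hz : Zt ι t Z) (hg : ∀ p q, Dt p → Dt q → Good ι Z p q) {v : LZ Z} (hv : δ hz hg v = 1) {w : G}
    (hw : w ∈ LZ Z) : Commute w v := by
  have h1 := cm hz hg hw v.2
  rw [inv_eq hz hg hv] at h1
  exact Commute.inv_right_iff.1 h1

theorem eq_one (h : YG ι t Z) (hz : Zt ι t Z) (hg : ∀ p q, Dt p → Dt q → Good ι Z p q) {v : LZ Z}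
    (hv : δ hz hg v = 1) (h2 : v * v = 1) : v = 1 := by
  have h3 : (v : G) * v = 1 := congrArg Subtype.val h2
  have h4 := inv_eq hz hg hv
  rw [inv_eq_of_mul_eq_one_right h3] at h4
  refine Subtype.ext ((h.cf.cw.ker2 v (mul_inv_eq_iff_eq_mul.1 h4).symm (act_one_iff.2 ?_) h3).resolve_right fun e => ?_)
  · rw [← range_δ hz hg]
    exact mem_cent.2 fun _ ⟨w, e⟩ => e ▸ (cen hz hg hv w.2).mul_left (cm hz hg v.2 w.2).symm
  · obtain ⟨a, b, c, d, h5⟩ := exists_D4 (α := α) (by have := hz.yt.eight; omega)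
    exact (hz.yt.ph' ⟨a, b, c, d, h5, rfl⟩).2.2 (e ▸ (cen hz hg hv (mem_LZ ⟨a, b, c, d, h5, rfl⟩)).symm)

theorem mem_comm (h : YG ι t Z) (hz : Zt ι t Z) (hg : ∀ p q, Dt p → Dt q → Good ι Z p q) {v : LZ Z}
    (hv : δ hz hg v = 1) : v ∈ commutator (LZ Z) := by
  obtain ⟨_, ⟨m, rfl⟩, h1⟩ := Bas.exists_odd_pow v
  have h2 : v ^ (2 * m + 1) = 1 := by
    by_contra h2
    obtain ⟨j, h3⟩ := Bas.exists_iv h1 h2
    exact h3.2 (eq_one h hz hg (by rw [map_pow, map_pow, hv, one_pow, one_pow]) h3.1)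
  rw [pow_succ, pow_mul, pow_two] at h2
  rw [eq_inv_of_mul_eq_one_right h2]
  exact inv_mem (pow_mem (sq_mem hz v) m)

end AD

open AD in
theorem YG.dbl (h : YG ι t Z) (hz : Zt ι t Z) (hg : ∀ p q, Dt p → Dt q → Good ι Z p q) :
    ∃ l, Dbl ι t l := by
  let φ : LZ Z →* alternatingGroup α := (MonoidHom.ofInjective hz.yt.inj).symm.toMonoidHom.comp
    ((δ hz hg).codRestrict ι.range fun v => range_δ hz hg ▸ ⟨v, rfl⟩)
  have h1 : ∀ v, ι (φ v) = δ hz hg v := fun v => MonoidHom.apply_ofInjective_symm hz.yt.inj _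
  have h2 : Function.Surjective φ := fun r => by
    obtain ⟨v, e⟩ : ι r ∈ (δ hz hg).range := range_δ hz hg ▸ ⟨r, rfl⟩
    exact ⟨v, hz.yt.inj ((h1 v).trans e)⟩
  have h3 : ∀ v ∈ φ.ker, δ hz hg v = 1 := fun v hv => by rw [← h1, MonoidHom.mem_ker.1 hv, map_one]
  have h8 := hz.yt.eight
  have h4 := S0892.result (Fintype.card α) (by omega) (by omega) (by omega) φ.ker
    (fun v hv => mem_center_iff.2 fun w => Subtype.ext (cen hz hg (h3 v hv) w.2))
    (fun v hv => mem_comm h hz hg (h3 v hv))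
    ((QuotientGroup.quotientKerEquivOfSurjective φ h2).trans (Fintype.equivFin α).altCongrHom)
  have h5 : Function.Injective φ := (injective_iff_map_eq_one φ).2 fun v hv => eq_one h hz hg (h3 v hv) (by
    have h6 : Nat.card φ.ker ∣ 2 := by
      have := Nat.card_pos (α := φ.ker)
      interval_cases Nat.card φ.ker <;> decide
    rw [← pow_two]
    exact orderOf_dvd_iff_pow_eq_one.1 ((orderOf_dvd_natCard φ.ker hv).trans h6))
  let e := MulEquiv.ofBijective φ ⟨h5, h2⟩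
  refine ⟨(LZ Z).subtype.comp e.symm.toMonoidHom, fun p q => cm hz hg (e.symm p).2 (e.symm q).2, fun p => ?_⟩
  exact (congrArg ι (e.apply_symm_apply p).symm).trans (h1 (e.symm p))

end Cfsg.Agent.SAc
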