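import Mathlib
import Cfsg.Agent.SAc.AU

/-! Formal identities on eight points (H4, H6). See `stubs/Cfsg/Agent/SAc/PLAN3.md`. -/

set_option autoImplicit false
set_option linter.unusedSectionVars false

namespace Cfsg.Agent.SAc

open Cfsg Cfsg.Agent.GT Cfsg.Agent.Loc.Mss Cfsg.Agent.Sym Cfsg.Agent.Loc.SO Cfsg.Agent.SAn Subgroup Equiv
open Cfsg.Agent.StdB (C1 mem_C1)
open scoped commutatorElement

variable {α β γ : Type} [Fintype α] [DecidableEq α] [Fintype β] [DecidableEq β] [Fintype γ]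
  [DecidableEq γ] {G : Type*} [Group G] [Finite G] {ι κ l : alternatingGroup α →* G}
  {ψ : Perm β →* G} {X P M L : Subgroup G} {t s u g o : G} {p q σ τ π : Perm α} {k j : ℕ}

variable {Y Z : Perm α → G} {a b c d x y : α} {e : Fin 8 ↪ α}

namespace AF

/-- four distinct indices -/
abbrev Q4 (i j k l : Fin 8) : Prop := i ≠ j ∧ i ≠ k ∧ i ≠ l ∧ j ≠ k ∧ j ≠ l ∧ k ≠ l

theorem d4 {i j k l : Fin 8} (h : Q4 i j k l) : D4 i j k l :=
  ⟨h.1, h.2.1, h.2.2.1, h.2.2.2.1, h.2.2.2.2.1, h.2.2.2.2.2⟩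

theorem dtE (e : Fin 8 ↪ α) (i j k l : Fin 8) (h : Q4 i j k l := by decide) : Dt (dE e i j k l) :=
  dE_dt e (d4 h)

theorem s1 (e : Fin 8 ↪ α) (i j k l : Fin 8) (_ : j < i) : dE e i j k l = dE e j i k l :=
  dt_bac _ _ _ _

theorem s2 (e : Fin 8 ↪ α) (i j k l : Fin 8) (_ : l < k) : dE e i j k l = dE e i j l k :=
  dt_abdc _ _ _ _

theorem s3 (e : Fin 8 ↪ α) (i j k l : Fin 8) (h : k < i ∧ Q4 k l i j) : dE e i j k l = dE e k l i j :=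
  (d4_emb e (d4 h.2)).dt_cdab

/-- the permuted frame -/
def fr (e : Fin 8 ↪ α) (f : Fin 8 → Fin 8) (hf : Function.Injective f) : Fin 8 ↪ α :=
  ⟨fun i => e (f i), e.injective.comp hf⟩

theorem dc (h : DC Y) (e : Fin 8 ↪ α) (a b c d x y z w : Fin 8)
    (hf : Function.Injective ![a, b, c, d, x, y, z, w] := by decide) :
    Commute (Y (dE e a b c d)) (Y (dE e x y z w)) := h (fr e _ hf)

theorem gw (h : GW Y) (e : Fin 8 ↪ α) (a b c d x y z w : Fin 8)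
    (hf : Function.Injective ![a, b, c, d, x, y, z, w] := by decide) :
    Y (dE e a b c d) * Y (dE e x y z w) = Y (dE e a b x y) * Y (dE e c d z w) := h (fr e _ hf)

theorem ea (h : EA0 Y) (e : Fin 8 ↪ α) (a b c d x y z w : Fin 8)
    (hf : Function.Injective ![a, b, c, d, x, y, z, w] := by decide) :
    Y (dE e a b c d) * Y (dE e a b x y) * Y (dE e c d x y) = 1 := h (fr e _ hf)

theorem line (h : Yt ι t Y) (h1 : DC Y) (e : Fin 8 ↪ α) :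
    Commute (Y (dE e 0 1 2 3) * Y (dE e 4 5 6 7)) (Y (dE e 0 2 1 3) * Y (dE e 4 6 5 7)) ∧
    Y (dE e 0 1 2 3) * Y (dE e 4 5 6 7) * (Y (dE e 0 2 1 3) * Y (dE e 4 6 5 7)) *
      (Y (dE e 0 3 1 2) * Y (dE e 4 7 5 6)) = 1 := by
  have a1 : Commute (Y (dE e 0 1 2 3)) (Y (dE e 0 2 1 3)) := h.vc _ _ _ _ (d4_emb e (d4 (by decide)))
  have a2 : Commute (Y (dE e 4 5 6 7)) (Y (dE e 4 6 5 7)) := h.vc _ _ _ _ (d4_emb e (d4 (by decide)))
  have b1 : Y (dE e 0 1 2 3) * Y (dE e 0 2 1 3) * Y (dE e 0 3 1 2) = 1 :=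
    h.va _ _ _ _ (d4_emb e (d4 (by decide)))
  have b2 : Y (dE e 4 5 6 7) * Y (dE e 4 6 5 7) * Y (dE e 4 7 5 6) = 1 :=
    h.va _ _ _ _ (d4_emb e (d4 (by decide)))
  have c1 := dc h1 e 0 1 2 3 4 6 5 7
  have c2 := dc h1 e 4 5 6 7 0 2 1 3
  have c3 := dc h1 e 4 5 6 7 0 3 1 2
  have c4 := dc h1 e 4 6 5 7 0 3 1 2
  refine ⟨(a1.mul_right c1).mul_left (c2.mul_right a2), ?_⟩
  rw [c2.mul_mul_mul_comm, (c3.mul_left c4).mul_mul_mul_comm, b1, b2, one_mul]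

theorem line' (h : Yt ι t Y) (h1 : DC Y) (e : Fin 8 ↪ α) (a b c d x y z w : Fin 8)
    (hf : Function.Injective ![a, b, c, d, x, y, z, w] := by decide) :
    Commute (Y (dE e a b c d) * Y (dE e x y z w)) (Y (dE e a c b d) * Y (dE e x z y w)) ∧
    Y (dE e a b c d) * Y (dE e x y z w) * (Y (dE e a c b d) * Y (dE e x z y w)) *
      (Y (dE e a d b c) * Y (dE e x w y z)) = 1 := line h h1 (fr e _ hf)

theorem via_ne (h : Function.Injective ι) (e : Fin 8 ↪ α) {a b c d x y z w a' b' c' d' x' y' z' w' : Fin 8}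
    (h1 : Q4 a b c d) (h2 : Q4 x y z w) (h3 : Q4 a' b' c' d') (h4 : Q4 x' y' z' w')
    (hn : dt a b c d * dt x y z w ≠ dt a' b' c' d' * dt x' y' z' w') :
    ev ι (dE e a b c d) * ev ι (dE e x y z w) ≠ ev ι (dE e a' b' c' d') * ev ι (dE e x' y' z' w') := by
  have m1 := (dtE e _ _ _ _ h1).mem
  have m2 := (dtE e _ _ _ _ h2).mem
  have m3 := (dtE e _ _ _ _ h3).mem
  have m4 := (dtE e _ _ _ _ h4).mem
  intro he
  rw [← ev_mul m1 m2, ← ev_mul m3 m4] at he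
  have := ev_inj h (mul_mem m1 m2) (mul_mem m3 m4) he
  simp only [dE_eq, ← map_mul] at this
  exact hn (Perm.viaEmbeddingHom_injective e this)

theorem dE_comm (e : Fin 8 ↪ α) {a b c d x y z w : Fin 8}
    (h : dt a b c d * dt x y z w = dt x y z w * dt a b c d) :
    dE e a b c d * dE e x y z w = dE e x y z w * dE e a b c d := by
  simp only [dE_eq, ← map_mul, h]

/-- the product of two elements of a four-group -/
theorem v3 (h : Zt ι t Z) (e : Fin 8 ↪ α) (a b c d : Fin 8) (hq : Q4 a b c d := by decide) :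
    Z (dE e a b c d) * Z (dE e a c b d) = Z (dE e a d b c) := by
  have h1 : Z (dE e a b c d) * Z (dE e a c b d) * Z (dE e a d b c) = 1 :=
    h.yt.va _ _ _ _ (d4_emb e (d4 hq))
  exact mul_right_cancel (h1.trans (h.sq _ (dE_dt e (d4 hq).abdc.acb)).symm)

end AF

open AF

/-- H4 -/
theorem Yt.sq1 (h : Yt ι t Y) (h1 : DC Y) (h2 : GW Y) : ∀ p, Dt p → Y p * Y p = 1 := by
  refine h.sq.resolve_right fun hs => ?_
  obtain ⟨e⟩ : Nonempty (Fin 8 ↪ α) := Function.Embedding.nonempty_of_card_le (by simpa using h.eight)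
  have l1 := (line' h h1 e 0 1 4 5 2 3 6 7).2
  have l2 := (line' h h1 e 0 1 6 7 2 3 4 5).2
  have l3 := (line' h h1 e 0 2 4 6 1 3 5 7).2
  have l4 := (line' h h1 e 0 2 5 7 1 3 4 6).2
  have l5 := (line' h h1 e 0 5 6 3 1 4 7 2).1
  have g1 := gw h2 e 0 1 6 7 4 5 2 3
  have g2 := gw h2 e 0 2 5 7 4 6 1 3
  have g4 := gw h2 e 0 4 2 6 1 5 3 7
  have g5 := gw h2 e 0 5 2 7 1 4 3 6
  have g5' := gw h2 e 0 5 3 6 1 4 2 7
  have g6 := gw h2 e 0 6 2 4 1 7 3 5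
  have g6' := gw h2 e 0 6 3 5 1 7 2 4
  have g7 := gw h2 e 0 7 2 5 1 6 3 4
  have c1 := dc h1 e 0 1 4 5 2 3 6 7
  have c2 := dc h1 e 0 2 4 6 1 3 5 7
  simp (disch := decide) only [s2, s3] at l5 g1 g2 g5' g6'
  rw [g1] at l2
  rw [g4, g6] at l3
  rw [g2, g5, g7] at l4
  rw [g5', g6'] at l5
  refine via_ne h.inj e (a := 0) (b := 1) (c := 4) (d := 5) (x := 2) (y := 3) (z := 6) (w := 7)
    (a' := 0) (b' := 2) (c' := 4) (d' := 6) (x' := 1) (y' := 3) (z' := 5) (w' := 7)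
    (by decide) (by decide) (by decide) (by decide) (by decide) ?_
  rw [← hs _ (dtE e 0 1 4 5), ← hs _ (dtE e 2 3 6 7), ← hs _ (dtE e 0 2 4 6), ← hs _ (dtE e 1 3 5 7),
    c1.mul_mul_mul_comm, c2.mul_mul_mul_comm]
  generalize Y (dE e 0 1 4 5) * Y (dE e 2 3 6 7) = γ1 at *
  generalize Y (dE e 0 2 4 6) * Y (dE e 1 3 5 7) = γ2 at *
  generalize Y (dE e 0 4 1 5) * Y (dE e 2 6 3 7) = γ4 at *
  generalize Y (dE e 0 5 1 4) * Y (dE e 2 7 3 6) = γ5 at *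
  generalize Y (dE e 0 6 1 7) * Y (dE e 2 4 3 5) = γ6 at *
  generalize Y (dE e 0 7 1 6) * Y (dE e 2 5 3 4) = γ7 at *
  rw [mul_assoc, mul_eq_one_iff_inv_eq] at l1 l2 l3 l4
  apply inv_injective
  rw [mul_inv_rev, mul_inv_rev]
  calc γ1⁻¹ * γ1⁻¹ = γ4 * (γ5 * γ6) * γ7 := by
        conv_lhs => rw [l1]; enter [2]; rw [← l1, l2]
        simp only [mul_assoc]
    _ = γ2⁻¹ * γ2⁻¹ := by
        conv_rhs => rw [l3]; enter [2]; rw [← l3, l4]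
        rw [l5.eq]
        simp only [mul_assoc]

/-- the identity on eight points -/
theorem Zt.eight_id (h : Zt ι t Z) (e : Fin 8 ↪ α) :
    Z (dE e 0 2 4 5) * Z (dE e 0 2 1 3) * (Z (dE e 0 1 2 3) * Z (dE e 4 6 5 7)) =
      Z (dE e 0 1 2 3) * Z (dE e 4 6 5 7) * Z (dE e 0 2 6 7) := by
  have g1 := AF.gw h.gw e 0 1 4 6 2 3 5 7
  have g2 := AF.gw h.gw e 0 6 1 4 2 7 3 5
  have g3 := AF.gw h.gw e 2 6 1 4 0 7 3 5
  have g4 := AF.gw h.gw e 2 4 1 6 0 5 3 7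
  have g5 := AF.gw h.gw e 0 4 1 6 2 5 3 7
  have g6 := AF.gw h.gw e 1 2 4 6 0 3 5 7
  have v1 := v3 h e 0 4 1 6
  have v2 := v3 h e 2 5 3 7
  have v4 := v3 h e 2 4 1 6
  have v5 := v3 h e 0 5 3 7
  have v6 := v3 h e 0 6 2 7
  have v7 := v3 h e 0 4 2 5
  have v8 := v3 h e 0 2 1 3
  have c1 := AF.dc h.dc e 2 5 3 7 0 1 4 6
  have c2 := AF.dc h.dc e 0 5 3 7 1 2 4 6
  have c3 := AF.dc h.dc e 0 2 6 7 1 4 3 5
  have c4 := AF.dc h.dc e 0 2 4 5 1 6 3 7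
  simp (disch := decide) only [s1, s2, s3] at g3 g4 g6 v1 v2 v4 v5 v6 v7 v8
  have e1 : Z (dE e 0 4 1 6) * Z (dE e 2 5 3 7) * (Z (dE e 0 1 2 3) * Z (dE e 4 6 5 7)) =
      Z (dE e 0 6 2 7) * Z (dE e 1 4 3 5) := by
    rw [← g1, c1.mul_mul_mul_comm, v1, v2, g2]
  have e2 : Z (dE e 1 6 2 4) * Z (dE e 0 5 3 7) * (Z (dE e 1 2 4 6) * Z (dE e 0 3 5 7)) =
      Z (dE e 0 6 2 7) * Z (dE e 1 4 3 5) * Z (dE e 0 2 6 7) := by
    rw [c2.mul_mul_mul_comm, v4, v5, g3, ← v6, mul_assoc, c3.eq, mul_assoc]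
  rw [g4, ← v7, mul_assoc (Z (dE e 0 4 2 5)), c4.eq, ← mul_assoc (Z (dE e 0 4 2 5)), ← g5, g6, ← v8, ← e1] at e2
  apply mul_left_cancel (a := Z (dE e 0 4 1 6) * Z (dE e 2 5 3 7))
  simpa only [mul_assoc] using e2

/-- H6 -/
theorem Zt.h6 (h : Zt ι t Z) (h0 : EA0 Z)
    (h1 : ∀ e : Fin 8 ↪ α, (Z (dE e 0 1 2 3) * Z (dE e 0 2 4 5)) ^ 2 = Z (dE e 0 2 1 3) * ev ι (dE e 0 2 1 3)) :
    False := by
  have key : ∀ e : Fin 8 ↪ α, Z (dE e 0 1 2 3) * Z (dE e 0 2 4 5) * Z (dE e 0 1 2 3) =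
      Z (dE e 1 3 4 5) * ev ι (dE e 0 2 1 3) := fun e => by
    have a1 := h1 e
    have a2 := ea h0 e 0 2 1 3 4 5 6 7
    have a3 := h.sq _ (dtE e 0 2 4 5)
    have a4 := h.sq _ (dtE e 1 3 4 5)
    have a5 := h.yt.comm (dtE e 0 2 4 5) (dtE e 0 2 1 3).mem (dE_comm e (by decide))
    rw [← mul_right_cancel (a2.trans a4.symm), mul_assoc (Z (dE e 0 2 1 3)), ← a5.eq, ← mul_assoc, ← a1, pow_two]
    simp only [mul_assoc, a3, mul_one]
  obtain ⟨e⟩ : Nonempty (Fin 8 ↪ α) := Function.Embedding.nonempty_of_card_le (by simpa using h.yt.eight)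
  have k1 := key e
  have k2 : Z (dE e 6 4 7 5) * Z (dE e 6 7 0 2) * Z (dE e 6 4 7 5) =
      Z (dE e 4 5 0 2) * ev ι (dE e 6 7 4 5) := key (fr e ![6, 4, 7, 5, 0, 2, 1, 3] (by decide))
  have a1 := h.eight_id e
  have a2 := ea h0 e 0 2 4 5 1 3 6 7
  have a3 := h.sq _ (dtE e 0 1 2 3)
  have a4 := h.sq _ (dtE e 1 3 4 5)
  have a5 := h.sq _ (dtE e 4 6 5 7)
  have a6 := h.yt.comm (dtE e 0 1 2 3) (dtE e 4 5 6 7).mem (dE_comm e (by decide))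
  simp (disch := decide) only [s1, s2, s3] at k2 a2
  rw [mul_right_cancel (a2.trans a4.symm)] at a1
  have a7 : Z (dE e 1 3 4 5) = Z (dE e 1 3 4 5) * (ev ι (dE e 0 2 1 3) * ev ι (dE e 4 5 6 7)) :=
    calc Z (dE e 1 3 4 5) = Z (dE e 1 3 4 5) * (Z (dE e 0 1 2 3) * Z (dE e 4 6 5 7)) *
          (Z (dE e 4 6 5 7) * Z (dE e 0 1 2 3)) := by
          rw [mul_assoc, mul_assoc, ← mul_assoc (Z (dE e 4 6 5 7)), a5, one_mul, a3, mul_one]
      _ = Z (dE e 0 1 2 3) * (Z (dE e 4 6 5 7) * Z (dE e 0 2 6 7) * Z (dE e 4 6 5 7)) * Z (dE e 0 1 2 3) := by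
          rw [a1]; simp only [mul_assoc]
      _ = _ := by
          rw [k2, ← mul_assoc, mul_assoc _ (ev ι _), a6.eq, ← mul_assoc, k1, mul_assoc]
  refine via_ne h.yt.inj e (a := 0) (b := 2) (c := 1) (d := 3) (x := 4) (y := 5) (z := 6) (w := 7)
    (a' := 0) (b' := 1) (c' := 2) (d' := 3) (x' := 0) (y' := 1) (z' := 2) (w' := 3)
    (by decide) (by decide) (by decide) (by decide) (by decide) ?_
  rw [← ev_mul (dtE e 0 1 2 3).mem (dtE e 0 1 2 3).mem, (dtE e 0 1 2 3).iv.1, ev_one]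
  exact (left_eq_mul.1 a7)

theorem Good.symm (hg : Good ι Z p q) (h : Zt ι t Z) (hp : Dt p) (hq : Dt q) : Good ι Z q p := by
  have ht : t⁻¹ = t := inv_eq_of_mul_eq_one_right h.yt.tt
  have := Commute.conj hg t
  rw [← (h.yt.ph' hq).2.1, ht, (h.yt.ph' hp).2.1,
    show t * (t * Z q * t) * t = t * t * Z q * (t * t) by simp only [mul_assoc], h.yt.tt, one_mul, mul_one] at this
  exact this.symm

theorem Good.r1 (hg : Good ι Z p q) (h : Zt ι t Z) (hp : Dt p) (hq : Dt q) :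
    Z p * Z q * Z p = Z (p * q * p⁻¹) := by
  have h1 := (hg.symm h hp hq).eq
  rw [← h.yt.eqv p hp.mem q hq, eq_mul_inv_iff_mul_eq, mul_assoc, mul_assoc, h1, ← mul_assoc, ← mul_assoc,
    h.sq p hp, one_mul]

theorem Zt.good_of_comm (h : Zt ι t Z) (hp : Dt p) (hq : Dt q) (hc : p * q = q * p)
    (h1 : Commute (Z p) (Z q)) : Good ι Z p q :=
  h1.mul_right (h.yt.comm hp hq.mem hc.symm).symm

theorem Zt.good_T (h : Zt ι t Z) (e : Fin 8 ↪ α)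
    (h1 : (Z (dE e 0 1 2 3) * Z (dE e 0 2 4 5)) ^ 2 = Z (dE e 0 2 1 3)) :
    Good ι Z (dE e 0 1 2 3) (dE e 0 2 4 5) := by
  have a1 := h.yt.eqv _ (dtE e 0 2 4 5).mem _ (dtE e 0 1 2 3)
  have a2 : dE e 0 2 4 5 * dE e 0 1 2 3 * (dE e 0 2 4 5)⁻¹ = dE e 0 3 1 2 := by
    simp only [dE_eq, ← map_mul, ← map_inv]
    exact congrArg _ (by decide)
  rw [a2, ← v3 h e 0 1 2 3, ← h1, mul_inv_eq_iff_eq_mul] at a1
  have a3 := h.sq _ (dtE e 0 1 2 3)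
  have a4 := h.sq _ (dtE e 0 2 4 5)
  change _ * _ = _ * _
  rw [mul_assoc (Z (dE e 0 2 4 5)), a1, pow_two]
  simp only [← mul_assoc]
  rw [mul_assoc (Z (dE e 0 2 4 5)) (Z (dE e 0 1 2 3)) (Z (dE e 0 1 2 3)), a3, mul_one, a4, one_mul]

theorem Zt.good_add (h : Zt ι t Z) (h0 : EA0 Z) (e : Fin 8 ↪ α) (h1 : Good ι Z p (dE e 0 1 2 3))
    (h2 : Good ι Z p (dE e 0 1 4 5)) : Good ι Z p (dE e 2 3 4 5) := by
  unfold Good at *
  rw [← (h.yt.ph' (dtE e 0 1 2 3)).2.1] at h1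
  rw [← (h.yt.ph' (dtE e 0 1 4 5)).2.1] at h2
  have ht : t⁻¹ = t := inv_eq_of_mul_eq_one_right h.yt.tt
  rw [← (h.yt.ph' (dtE e 2 3 4 5)).2.1, ← mul_eq_one_iff_inv_eq.1 (h0 e)]
  have := (h1.mul_right h2).inv_right
  rwa [show t * Z (dE e 0 1 2 3) * t * (t * Z (dE e 0 1 4 5) * t) =
    t * (Z (dE e 0 1 2 3) * (t * t) * Z (dE e 0 1 4 5)) * t by simp only [mul_assoc], h.yt.tt, mul_one,
    mul_inv_rev, mul_inv_rev, ht, ← mul_assoc] at this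

end Cfsg.Agent.SAc
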