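import Mathlib
import Cfsg.Agent.SAc.AT
import Cfsg.Agent.SAc.AF

/-! Pairs with product of order 3 (H7), all pairs (H8). See `stubs/Cfsg/Agent/SAc/PLAN3.md`. -/

set_option autoImplicit false
set_option linter.unusedSectionVars false

namespace Cfsg.Agent.SAc

open Cfsg Cfsg.Agent.GT Cfsg.Agent.Loc.Mss Cfsg.Agent.Sym Cfsg.Agent.Loc.SO Cfsg.Agent.SAn Subgroup Equiv
open Cfsg.Agent.StdB (C1 mem_C1)
open scoped commutatorElement

variable {α β γ : Type} [Fintype α] [DecidableEq α] [Fintype β] [DecidableEq β] [Fintype γ]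
  [DecidableEq γ] {G : Type*} [Group G] [Finite G] {ι κ l : alternatingGroup α →* G}
  {ψ : Perm β →* G} {X P M L : Subgroup G} {t s u g o : G} {p q σ τ π : Perm α} {k j : ℕ}

variable {Y Z : Perm α → G} {a b c d x y : α} {e : Fin 8 ↪ α}

theorem YG.good_T (h : YG ι t Z) (hz : Zt ι t Z) (h0 : EA0 Z) (e : Fin 8 ↪ α) :
    Good ι Z (dE e 0 1 2 3) (dE e 0 2 4 5) := by
  refine (h.h5 hz h0 e).elim (hz.good_T e) fun h1 => (hz.h6 h0 fun e' => ?_).elim
  obtain ⟨π, hπ, h2, -⟩ := trans8 e e'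
  have k : ∀ i j k l : Fin 8, i < 6 → j < 6 → k < 6 → l < 6 →
      dE e' i j k l = π * dE e i j k l * π⁻¹ := fun i j k l hi hj hk hl => by
    rw [dE, dE, dt_conj, h2 i (by omega) (by omega), h2 j (by omega) (by omega),
      h2 k (by omega) (by omega), h2 l (by omega) (by omega)]
  have d1 : Dt (dE e 0 1 2 3) := dE_dt e (by constructor <;> decide)
  have d2 : Dt (dE e 0 2 4 5) := dE_dt e (by constructor <;> decide)
  have d3 : Dt (dE e 0 2 1 3) := dE_dt e (by constructor <;> decide)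
  rw [k 0 1 2 3 (by decide) (by decide) (by decide) (by decide),
    k 0 2 4 5 (by decide) (by decide) (by decide) (by decide),
    k 0 2 1 3 (by decide) (by decide) (by decide) (by decide), ← hz.yt.eqv π hπ _ d1,
    ← hz.yt.eqv π hπ _ d2, ← hz.yt.eqv π hπ _ d3, ev_conj hπ d3.mem, conj_mul, conj_mul, conj_pow, h1]

namespace AO

theorem comm_ev (ha : Act ι g 1) (hp : p ∈ alternatingGroup α) : Commute g (ev ι p) := by
  have := ha p hp
  rw [one_mul, inv_one, mul_one, mul_inv_eq_iff_eq_mul] at this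
  exact this

end AO

/-- an involution centralizing all `Z p` and `A` is trivial -/
theorem YG.triv (h : YG ι t Z) (hz : Zt ι t Z) (h2 : g * g = 1) (ha : Act ι g 1)
    (hc : ∀ p, Dt p → Commute g (Z p)) : g = 1 := by
  obtain ⟨a, b, c, d, h4⟩ := exists_D4 (α := α) (by have := h.cf.eight; omega)
  have hp : Dt (dt a b c d) := ⟨a, b, c, d, h4, rfl⟩
  obtain ⟨-, h5, h6⟩ := hz.yt.ph' hp
  have tt := hz.yt.tt
  have ti : t⁻¹ = t := inv_eq_of_mul_eq_one_right tt
  have gi : g⁻¹ = g := inv_eq_of_mul_eq_one_right h2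
  have c1 : Commute (t * g * t⁻¹) (Z (dt a b c d)) := by
    have c2 : Commute g (t * Z (dt a b c d) * t) := h5 ▸ (hc _ hp).mul_right (AO.comm_ev ha hp.mem)
    have c3 := c2.conj t
    rwa [show t * (t * Z (dt a b c d) * t) * t⁻¹ = t * t * Z (dt a b c d) by group, tt, one_mul] at c3
  have c2 : Commute ((g * t) ^ 2) (Z (dt a b c d)) := by
    have := (hc _ hp).mul_left c1
    rwa [ti, show g * (t * g * t) = (g * t) ^ 2 by rw [pow_two]; group] at this
  rcases Nat.even_or_odd (orderOf (g * t)) with ⟨n, hn⟩ | ⟨n, hn⟩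
  · have hpos := orderOf_pos (g * t)
    have z2 : (g * t) ^ n * (g * t) ^ n = 1 := by rw [← pow_add, ← hn, pow_orderOf_eq_one]
    have z1 : (g * t) ^ n ≠ 1 := pow_ne_one_of_lt_orderOf (by omega) (by omega)
    have zc : (g * t) ^ n * t = t * (g * t) ^ n := by
      have e1 : t * (g * t) * t⁻¹ = (g * t)⁻¹ := by rw [mul_inv_rev, gi, ti, mul_assoc, mul_assoc, tt, mul_one]
      have e2 : t * (g * t) ^ n * t⁻¹ = (g * t) ^ n := by
        rw [← conj_pow, e1, inv_pow, inv_eq_of_mul_eq_one_right z2]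
      exact (mul_inv_eq_iff_eq_mul.1 e2).symm
    have za : Act ι ((g * t) ^ n) 1 := by simpa using (ha.mul h.cf.cen).pow n
    have zt := (h.cf.cw.ker2 _ zc za z2).resolve_left z1
    have gt : g * t = t * g := by
      have e1 : Commute (g * t) ((g * t) ^ n) := Commute.self_pow _ _
      rw [zt] at e1
      have e2 := e1.eq
      rw [mul_assoc, tt, mul_one, ← mul_assoc] at e2
      conv_rhs => rw [e2, ← mul_assoc, ← mul_assoc, tt, one_mul]
    refine (h.cf.cw.ker2 _ gt ha h2).resolve_right fun e => h6 (e ▸ hc _ hp)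
  · refine absurd ?_ h6
    have e1 : g * t = ((g * t) ^ 2) ^ (n + 1) := by
      rw [← pow_mul, show 2 * (n + 1) = orderOf (g * t) + 1 by omega, pow_succ, pow_orderOf_eq_one, one_mul]
    have c3 : Commute (g * t) (Z (dt a b c d)) := by
      rw [e1]
      exact c2.pow_left _
    have := (hc _ hp).mul_left c3
    rwa [← mul_assoc, h2, one_mul] at this

namespace AO

/-- `w`, `q` form a `T`-pair or an `E`-pair. -/
def Pr (w q : Perm (Fin 8)) (i j k l m n : Fin 8) : Prop :=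
  ((i ≠ j ∧ i ≠ k ∧ i ≠ l ∧ j ≠ k ∧ j ≠ l ∧ k ≠ l) ∧ (m ≠ i ∧ m ≠ j ∧ m ≠ k ∧ m ≠ l) ∧
    (n ≠ i ∧ n ≠ j ∧ n ≠ k ∧ n ≠ l) ∧ m ≠ n) ∧ w = dt i j k l ∧ (q = dt i k m n ∨ q = dt i j m n)

instance (w q : Perm (Fin 8)) (i j k l m n : Fin 8) : Decidable (Pr w q i j k l m n) := by
  unfold Pr
  infer_instance

theorem comm_dE (e : Fin 8 ↪ α) {i j k l i' j' k' l' : Fin 8}
    (h : dt i j k l * dt i' j' k' l' = dt i' j' k' l' * dt i j k l) :
    dE e i j k l * dE e i' j' k' l' = dE e i' j' k' l' * dE e i j k l := by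
  rw [dE_eq, dE_eq, ← map_mul, ← map_mul, h]

theorem good_E (hz : Zt ι t Z) (e : Fin 8 ↪ α) : Good ι Z (dE e 0 1 2 3) (dE e 0 1 4 5) :=
  hz.good_of_comm (dE_dt e (by constructor <;> decide)) (dE_dt e (by constructor <;> decide))
    (comm_dE e (by decide)) (hz.ec e)

theorem gd (h : YG ι t Z) (hz : Zt ι t Z) (h0 : EA0 Z) (e : Fin 8 ↪ α) {w q : Perm (Fin 8)}
    (i j k l m n : Fin 8) (hp : Pr w q i j k l m n) :
    Good ι Z (Perm.viaEmbeddingHom e w) (Perm.viaEmbeddingHom e q) := by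
  obtain ⟨⟨⟨a1, a2, a3, a4, a5, a6⟩, ⟨b1, b2, b3, b4⟩, ⟨c1, c2, c3, c4⟩, d1⟩, rfl, hq⟩ := hp
  have n' := fun {i j : Fin 8} (h : i ≠ j) => e.injective.ne h
  obtain ⟨e', e0, e1, e2, e3, e4, e5⟩ := ext6 h.cf.eight (d4_emb e ⟨a1, a2, a3, a4, a5, a6⟩)
    ⟨n' b1, n' b2, n' b3, n' b4⟩ ⟨n' c1, n' c2, n' c3, n' c4⟩ (n' d1)
  rcases hq with rfl | rfl
  · have := h.good_T hz h0 e'
    rw [dE, dE, e0, e1, e2, e3, e4, e5] at this
    rw [← dE_eq, ← dE_eq]
    exact this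
  · have := good_E hz e'
    rw [dE, dE, e0, e1, e2, e3, e4, e5] at this
    rw [← dE_eq, ← dE_eq]
    exact this

theorem cen (hz : Zt ι t Z) {w : Perm α} (hp : Dt p) (hq : Dt q) (hw : Dt w) (g1 : Good ι Z w p)
    (g2 : Good ι Z w q) (g3 : Good ι Z (p * w * p⁻¹) q) (g4 : Good ι Z (q * w * q⁻¹) p) :
    Commute (Z p * (Z q * ev ι q) * Z p * (Z q * ev ι q)) (Z w) ∧
      Commute (Z p * (Z q * ev ι q) * Z p * (Z q * ev ι q)) (ev ι w) := by
  have tt := hz.yt.tt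
  have r1 := (g1.symm hz hw hp).r1 hz hp hw
  have r2 := (g2.symm hz hw hq).r1 hz hq hw
  have s1 : Commute (Z p) (Z w * ev ι w) := g1.symm hz hw hp
  have s4 : Commute (Z p) (Z (q * w * q⁻¹) * ev ι (q * w * q⁻¹)) := g4.symm hz (hw.conj q) hp
  have s2 : Commute (Z w) (Z q * ev ι q) := g2
  have s3 : Commute (Z (p * w * p⁻¹)) (Z q * ev ι q) := g3
  have pp := hz.sq p hp
  have qq := hz.sq q hq
  rw [← (hz.yt.ph' hq).2.1] at s2 s3 ⊢
  rw [← (hz.yt.ph' (hw.conj q)).2.1, ← r2] at s4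
  rw [← r1] at s3
  have hR := (hz.yt.ph' hw).2.1
  have RR : t * Z q * t * (t * Z q * t) = 1 := by
    rw [show t * Z q * t * (t * Z q * t) = t * (Z q * (t * t) * Z q) * t by group, tt, mul_one, qq,
      mul_one, tt]
  have e4 : t * (Z q * Z w * Z q) * t = t * Z q * t * (Z w * ev ι w) * (t * Z q * t) := by
    rw [← hR, show t * Z q * t * (t * Z w * t) * (t * Z q * t) =
      t * (Z q * (t * t) * Z w * (t * t) * Z q) * t by group, tt, mul_one, mul_one]
  rw [e4] at s4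
  generalize t * Z q * t = R at *
  have c1 : Commute (Z p * R * Z p * R) (Z w) := by
    have e1 : Z p * R * Z p * R * Z w = Z p * R * (Z p * Z w * Z p) * Z p * R := by
      rw [mul_assoc _ R, ← s2.eq, show Z p * R * (Z p * Z w * Z p) * Z p * R =
        Z p * R * (Z p * Z w * (Z p * Z p)) * R by group, pp]
      group
    change _ * _ = _ * _
    rw [e1, mul_assoc (Z p) R, ← s3.eq, show Z p * (Z p * Z w * Z p * R) * Z p * R =
      Z p * Z p * (Z w * (Z p * R * Z p * R)) by group, pp, one_mul]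
  have c2 : Commute (Z p * R * Z p * R) (Z w * ev ι w) := by
    generalize Z w * ev ι w = S at *
    have e1 : Z p * R * Z p * R * S = Z p * R * (Z p * (R * S * R)) * R := by
      rw [show Z p * R * (Z p * (R * S * R)) * R = Z p * R * Z p * R * S * (R * R) by group, RR, mul_one]
    change _ * _ = _ * _
    rw [e1, s4.eq, show Z p * R * (R * S * R * Z p) * R = Z p * (R * R) * S * (R * Z p * R) by group, RR,
      mul_one, s1.eq]
    group
  refine ⟨c1, ?_⟩
  have := c1.inv_right.mul_right c2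
  rwa [inv_mul_cancel_left] at this

theorem cenE (hz : Zt ι t Z) (e : Fin 8 ↪ α) {i j k l : Fin 8} (hw : D4 i j k l)
    (g1 : Good ι Z (Perm.viaEmbeddingHom e (dt i j k l)) (Perm.viaEmbeddingHom e (dt 0 1 3 4)))
    (g2 : Good ι Z (Perm.viaEmbeddingHom e (dt i j k l)) (Perm.viaEmbeddingHom e (dt 1 2 3 4)))
    (g3 : Good ι Z (Perm.viaEmbeddingHom e (dt 0 1 3 4 * dt i j k l * (dt 0 1 3 4)⁻¹))
      (Perm.viaEmbeddingHom e (dt 1 2 3 4)))
    (g4 : Good ι Z (Perm.viaEmbeddingHom e (dt 1 2 3 4 * dt i j k l * (dt 1 2 3 4)⁻¹))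
      (Perm.viaEmbeddingHom e (dt 0 1 3 4))) (hp : p = dE e 0 1 3 4) (hq : q = dE e 1 2 3 4) :
    Commute (Z p * (Z q * ev ι q) * Z p * (Z q * ev ι q)) (Z (dE e i j k l)) ∧
      Commute (Z p * (Z q * ev ι q) * Z p * (Z q * ev ι q)) (ev ι (dE e i j k l)) := by
  subst hp hq
  simp only [map_mul, map_inv, ← dE_eq] at g1 g2 g3 g4
  exact cen hz (dE_dt e (by constructor <;> decide)) (dE_dt e (by constructor <;> decide)) (dE_dt e hw)
    g1 g2 g3 g4

theorem frame (e : Fin 8 ↪ α) (h8 : 8 ≤ Fintype.card α) (hx : ∀ i : Fin 8, i < 5 → e i ≠ x)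
    (hy : ∀ i : Fin 8, i < 5 → e i ≠ y) (hxy : x ≠ y) :
    ∃ e' : Fin 8 ↪ α, e' 0 = e 0 ∧ e' 1 = e 1 ∧ e' 2 = e 2 ∧ e' 3 = e 3 ∧ e' 4 = e 4 ∧ e' 5 = x ∧ e' 6 = y := by
  obtain ⟨e', he⟩ := ext8 h8 (m := 7) (by decide) ![e 0, e 1, e 2, e 3, e 4, x, y] (by
    have := hx 0 (by decide); have := hx 1 (by decide); have := hx 2 (by decide)
    have := hx 3 (by decide); have := hx 4 (by decide); have := hy 0 (by decide)
    have := hy 1 (by decide); have := hy 2 (by decide); have := hy 3 (by decide)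
    have := hy 4 (by decide)
    clear hx hy
    intro i j hij
    fin_cases i <;> fin_cases j <;> simp_all)
  exact ⟨e', he 0, he 1, he 2, he 3, he 4, he 5, he 6⟩

end AO

open AO in
theorem YG.good_O (h : YG ι t Z) (hz : Zt ι t Z) (h0 : EA0 Z) (e : Fin 8 ↪ α) :
    Good ι Z (dE e 0 1 3 4) (dE e 1 2 3 4) := by
  have hp : Dt (dE e 0 1 3 4) := dE_dt e (by constructor <;> decide)
  have hq : Dt (dE e 1 2 3 4) := dE_dt e (by constructor <;> decide)
  have h8 := h.cf.eight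
  obtain ⟨p, ep⟩ : ∃ p, p = dE e 0 1 3 4 := ⟨_, rfl⟩
  obtain ⟨q, eq⟩ : ∃ q, q = dE e 1 2 3 4 := ⟨_, rfl⟩
  rw [← ep] at hp
  rw [← eq] at hq
  rw [← ep, ← eq]
  set k := Z p * (Z q * ev ι q) * Z p * (Z q * ev ι q) with hk
  have w1 : ∀ e' : Fin 8 ↪ α, p = dE e' 0 1 3 4 → q = dE e' 1 2 3 4 →
      Commute k (Z (dE e' 0 1 2 5)) ∧ Commute k (ev ι (dE e' 0 1 2 5)) := fun e' =>
    cenE hz e' (by constructor <;> decide) (gd h hz h0 e' 0 1 2 5 3 4 (by decide))
      (gd h hz h0 e' 1 0 2 5 3 4 (by decide)) (gd h hz h0 e' 1 0 2 5 3 4 (by decide))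
      (gd h hz h0 e' 0 2 1 5 3 4 (by decide))
  have w2 : ∀ e' : Fin 8 ↪ α, p = dE e' 0 1 3 4 → q = dE e' 1 2 3 4 →
      Commute k (Z (dE e' 0 2 1 5)) ∧ Commute k (ev ι (dE e' 0 2 1 5)) := fun e' =>
    cenE hz e' (by constructor <;> decide) (gd h hz h0 e' 0 2 1 5 3 4 (by decide))
      (gd h hz h0 e' 1 5 2 0 3 4 (by decide)) (gd h hz h0 e' 1 2 0 5 3 4 (by decide))
      (gd h hz h0 e' 0 1 2 5 3 4 (by decide))
  have w3 : ∀ e' : Fin 8 ↪ α, p = dE e' 0 1 3 4 → q = dE e' 1 2 3 4 →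
      Commute k (Z (dE e' 3 4 5 6)) ∧ Commute k (ev ι (dE e' 3 4 5 6)) := fun e' =>
    cenE hz e' (by constructor <;> decide) (gd h hz h0 e' 3 4 5 6 0 1 (by decide))
      (gd h hz h0 e' 3 4 5 6 1 2 (by decide)) (gd h hz h0 e' 3 4 5 6 1 2 (by decide))
      (gd h hz h0 e' 3 4 5 6 0 1 (by decide))
  have w4 : ∀ e' : Fin 8 ↪ α, p = dE e' 0 1 3 4 → q = dE e' 1 2 3 4 →
      Commute k (Z (dE e' 3 5 4 6)) ∧ Commute k (ev ι (dE e' 3 5 4 6)) := fun e' =>
    cenE hz e' (by constructor <;> decide) (gd h hz h0 e' 3 5 4 6 0 1 (by decide))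
      (gd h hz h0 e' 3 5 4 6 1 2 (by decide)) (gd h hz h0 e' 3 6 4 5 1 2 (by decide))
      (gd h hz h0 e' 3 6 4 5 0 1 (by decide))
  have hV : ∀ a b c d : α, D4 a b c d → Commute k (ev ι (dt a b c d)) → Commute k (ev ι (dt a c b d)) →
      V4 a b c d ≤ pre ι (centralizer {k}) := fun a b c d h4 c1 c2 => by
    rw [V4, closure_le]
    rintro _ (rfl | rfl)
    · exact mem_pre.2 ⟨h4.mem, mem_centralizer_singleton_iff.2 c1.symm.eq⟩
    · exact mem_pre.2 ⟨h4.acb.mem, mem_centralizer_singleton_iff.2 c2.symm.eq⟩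
  have hA : alternatingGroup α ≤ pre ι (centralizer {k}) := by
    refine gen_O e (fun x hx => ?_) fun x y hx hy hxy => ?_
    · obtain ⟨y, hy, hxy⟩ : ∃ y, (∀ i : Fin 8, i < 5 → e i ≠ y) ∧ x ≠ y := by
        by_cases e5 : x = e 5
        · exact ⟨e 6, fun i hi => e.injective.ne (by omega), e5 ▸ e.injective.ne (by decide)⟩
        · exact ⟨e 5, fun i hi => e.injective.ne (by omega), e5⟩
      obtain ⟨e', e0, e1, e2, e3, e4, e5, -⟩ := frame e h8 hx hy hxy
      have a1 : p = dE e' 0 1 3 4 := by rw [ep, dE, dE, e0, e1, e3, e4]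
      have a2 : q = dE e' 1 2 3 4 := by rw [eq, dE, dE, e1, e2, e3, e4]
      rw [← e0, ← e1, ← e2, ← e5]
      exact hV _ _ _ _ (d4_emb e' (by constructor <;> decide)) (w1 e' a1 a2).2 (w2 e' a1 a2).2
    · obtain ⟨e', e0, e1, e2, e3, e4, e5, e6⟩ := frame e h8 hx hy hxy
      have a1 : p = dE e' 0 1 3 4 := by rw [ep, dE, dE, e0, e1, e3, e4]
      have a2 : q = dE e' 1 2 3 4 := by rw [eq, dE, dE, e1, e2, e3, e4]
      rw [← e3, ← e4, ← e5, ← e6]
      exact hV _ _ _ _ (d4_emb e' (by constructor <;> decide)) (w3 e' a1 a2).2 (w4 e' a1 a2).2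
  have hE : ∀ r ∈ alternatingGroup α, Commute k (ev ι r) := fun r hr =>
    (mem_centralizer_singleton_iff.1 (mem_pre.1 (hA hr)).2).symm
  have hZ : ∀ r, Dt r → Commute k (Z r) := fun r hr => by
    have hw : Dt (dE e 0 1 2 5) := dE_dt e (by constructor <;> decide)
    obtain ⟨π, hπ, rfl⟩ := Dt.trans (by omega) hw hr
    rw [← hz.yt.eqv π hπ _ hw]
    exact ((hE π hπ).mul_right (w1 e ep eq).1).mul_right (hE π hπ).inv_right
  have pp := hz.sq p hp
  have RR : Z q * ev ι q * (Z q * ev ι q) = 1 := by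
    rw [← (hz.yt.ph' hq).2.1, show t * Z q * t * (t * Z q * t) = t * (Z q * (t * t) * Z q) * t by group,
      hz.yt.tt, mul_one, hz.sq q hq, mul_one, hz.yt.tt]
  have k1 : k = 1 := by
    refine h.triv hz ?_ (fun r hr => by
      rw [one_mul, inv_one, mul_one, (hE r hr).eq, mul_inv_cancel_right]) hZ
    have c1 := (hZ p hp).eq
    calc k * k = k * Z p * (Z q * ev ι q * Z p * (Z q * ev ι q)) := by rw [hk]; group
      _ = Z p * Z p * (Z q * ev ι q * (Z p * (Z q * ev ι q * (Z q * ev ι q)) * Z p) * (Z q * ev ι q)) := by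
        rw [c1, hk]; group
      _ = 1 := by rw [RR, mul_one, pp, mul_one, RR, one_mul]
  change Z p * (Z q * ev ι q) = Z q * ev ι q * Z p
  generalize Z q * ev ι q = R at *
  calc Z p * R = Z p * R * (Z p * (R * R) * Z p) := by rw [RR, mul_one, pp, mul_one]
    _ = k * (R * Z p) := by rw [hk]; group
    _ = R * Z p := by rw [k1, one_mul]

theorem YG.good (h : YG ι t Z) (hz : Zt ι t Z) (h0 : EA0 Z) (hp : Dt p) (hq : Dt q) : Good ι Z p q := by
  refine pair_ind h.cf.eight (R := fun p q => Dt p → Dt q → Good ι Z p q)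
    (fun p q hr hq hp => (hr hp hq).symm hz hp hq)
    (fun p hp _ _ => hz.good_of_comm hp hp rfl (Commute.refl _))
    (fun e h1 h2 => hz.good_of_comm h1 h2 (AO.comm_dE e (by decide))
      (hz.yt.vc _ _ _ _ (d4_emb e (by constructor <;> decide))))
    (fun e h1 h2 => hz.good_of_comm h1 h2 (AO.comm_dE e (by decide)) (hz.dc e))
    (fun e _ _ => AO.good_E hz e) (fun e _ _ => h.good_T hz h0 e) (fun e _ _ => h.good_O hz h0 e)
    (fun p e h1 h2 hp _ => hz.good_add h0 e (h1 hp (dE_dt e (by constructor <;> decide)))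
      (h2 hp (dE_dt e (by constructor <;> decide)))) hp hq hp hq

end Cfsg.Agent.SAc
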