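import Mathlib
import Cfsg.Agent.SAc.ADefs

/-! The abstract group above `V` (H1a). See `stubs/Cfsg/Agent/SAc/PLAN3.md`. -/

set_option autoImplicit false
set_option linter.unusedSectionVars false

namespace Cfsg.Agent.SAc

open Cfsg Cfsg.Agent.GT Cfsg.Agent.Loc.Mss Cfsg.Agent.Sym Cfsg.Agent.Loc.SO Cfsg.Agent.SAn Subgroup Equiv
open Cfsg.Agent.StdB (C1 mem_C1)
open scoped commutatorElement

namespace AHatH

variable {G : Type*} [Group G] [Finite G] {M : Subgroup G} {t a v c j g k w x : G}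

/-- The product of the three conjugates. -/
def nu (c g : G) : G := g * (c * g * c⁻¹) * (c * c * g * (c * c)⁻¹)

theorem odd_one {o : G} (ho : Odd (orderOf o)) {n : ℕ} (h : o ^ 2 ^ n = 1) : o = 1 :=
  orderOf_eq_one_iff.1 (Nat.Coprime.eq_one_of_dvd ((Nat.coprime_two_right.2 ho).pow_right n)
    (orderOf_dvd_of_pow_eq_one h))

variable (h : Hat M t a v c j)
include h

theorem av : a * v = v * a := (h.cen a h.aM).2

theorem VM : closure ({a, v} : Set G) ≤ M :=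
  (closure_le _).2 (by rintro _ (rfl | rfl); exacts [h.aM, h.vM])

theorem cenV (hw : w ∈ closure ({a, v} : Set G)) (hg : g ∈ M) : g * w = w * g := by
  refine mem_centralizer_singleton_iff.1 ((closure_le (centralizer {g})).2 ?_ hw) |>.symm
  rintro _ (rfl | rfl)
  exacts [mem_centralizer_singleton_iff.2 (h.cen g hg).1.symm, mem_centralizer_singleton_iff.2 (h.cen g hg).2.symm]

theorem aV : a ∈ closure ({a, v} : Set G) := subset_closure (by simp)
theorem vV : v ∈ closure ({a, v} : Set G) := subset_closure (by simp)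

theorem memV (hw : w ∈ closure ({a, v} : Set G)) : w = 1 ∨ w = a ∨ w = v ∨ w = a * v := by
  have a2 : ∀ g, a * (a * g) = g := fun g => by rw [← mul_assoc, h.aa, one_mul]
  have va : ∀ g, v * (a * g) = a * (v * g) := fun g => by rw [← mul_assoc, ← av h, mul_assoc]
  induction hw using closure_induction with
  | mem x hx => rcases hx with rfl | rfl <;> simp
  | one => simp
  | mul x y _ _ hx hy =>
    rcases hx with rfl | rfl | rfl | rfl <;> rcases hy with rfl | rfl | rfl | rfl <;>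
      simp [mul_assoc, a2, va, h.aa, h.vv, ← av h]
  | inv x _ hx =>
    rcases hx with rfl | rfl | rfl | rfl <;>
      simp [inv_eq_of_mul_eq_one_right h.aa, inv_eq_of_mul_eq_one_right h.vv, ← av h]

theorem avav : a * v * (a * v) = 1 := by
  rw [mul_assoc, ← mul_assoc v, ← av h, mul_assoc, h.vv, mul_one, h.aa]

theorem sqV (hw : w ∈ closure ({a, v} : Set G)) : w * w = 1 := by
  rcases memV h hw with rfl | rfl | rfl | rfl
  exacts [mul_one 1, h.aa, h.vv, avav h]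

theorem cav : c * (a * v) * c⁻¹ = a := by
  calc _ = c * a * c⁻¹ * (c * v * c⁻¹) := by group
    _ = _ := by rw [h.ca, h.cv, ← mul_assoc, ← av h, mul_assoc, h.vv, mul_one]

theorem cV (hw : w ∈ closure ({a, v} : Set G)) : c * w * c⁻¹ ∈ closure ({a, v} : Set G) := by
  rcases memV h hw with rfl | rfl | rfl | rfl
  · simp
  · rw [h.ca]; exact vV h
  · rw [h.cv]; exact mul_mem (aV h) (vV h)
  · rw [cav h]; exact aV h

theorem fixc (hw : w ∈ closure ({a, v} : Set G)) (e : c * w * c⁻¹ = w) : w = 1 := by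
  have k : v ≠ a := fun e => by
    have := h.cv
    rw [e, h.ca, e] at this
    exact h.a1 (by simpa using this)
  have k' : v ≠ 1 := fun e => h.a1 (by simpa [e] using h.ca)
  rcases memV h hw with rfl | rfl | rfl | rfl
  · rfl
  · exact (k (h.ca.symm.trans e)).elim
  · exact (h.a1 (by simpa [h.cv] using e)).elim
  · exact (k' (by simpa [cav h] using e)).elim

theorem fixj (hw : w ∈ closure ({a, v} : Set G)) (e : j * w * j⁻¹ = w) : w = 1 ∨ w = a := by
  rcases memV h hw with rfl | rfl | rfl | rfl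
  · exact .inl rfl
  · exact .inr rfl
  · exact (h.a1 (by simpa [h.jv] using e)).elim
  · rw [← mul_assoc, h.ja, mul_assoc, mul_assoc, ← mul_assoc j, h.jv] at e
    exact (h.a1 (by simpa using e)).elim

theorem ph (hg : g ∈ M) : ∃ w ∈ closure ({a, v} : Set G), g * t * g⁻¹ = t * w :=
  ⟨_, h.ph g hg, by rw [cenV h (h.ph g hg) h.tM, mul_assoc _ t t, h.tt, mul_one]⟩

theorem ph_mul {w' : G} (hg : g ∈ M) (e : g * t * g⁻¹ = t * w) (hw : w' ∈ closure ({a, v} : Set G))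
    (e' : k * t * k⁻¹ = t * w') : g * k * t * (g * k)⁻¹ = t * (w * w') := by
  calc _ = g * (k * t * k⁻¹) * g⁻¹ := by group
    _ = g * t * (w' * g⁻¹) := by rw [e']; group
    _ = _ := by rw [← cenV h hw (inv_mem hg), ← mul_assoc, e, mul_assoc]

theorem ph_c (e : g * t * g⁻¹ = t * w) : c * g * c⁻¹ * t * (c * g * c⁻¹)⁻¹ = t * (c * w * c⁻¹) := by
  have e1 : c⁻¹ * t * c = t := by rw [mul_assoc, ← h.ct, inv_mul_cancel_left]
  calc _ = c * (g * (c⁻¹ * t * c) * g⁻¹) * c⁻¹ := by group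
    _ = _ := by rw [e1, e, ← mul_assoc, h.ct]; group

theorem ker (hg : g ∈ M) (e : g * t = t * g) : ∃ m, (∀ y ∈ M, Commute m y) ∧
    (∀ n, m ^ 2 ^ n = 1 → m ∈ closure ({a, v} : Set G)) ∧ (g = m ∨ g = m * t) := by
  obtain ⟨o, -, ho, oc, w, hw, k⟩ := h.ker g hg e
  refine ⟨o * w, fun y hy => Commute.mul_left (oc y hy) (cenV h hw hy).symm, fun n hn => ?_, k⟩
  have c : Commute o w := oc w (VM h hw)
  have e1 : (o * w) ^ 2 = o ^ 2 := by rw [c.mul_pow, pow_two w, sqV h hw, mul_one]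
  rwa [odd_one ho (n := n + 1) (by rw [pow_succ', pow_mul, ← e1, ← pow_mul, mul_comm, pow_mul, hn, one_pow]),
    one_mul]

theorem two (hg : g ∈ M) {n : ℕ} (h2 : g ^ 2 ^ n = 1) (e : g * t = t * g) :
    g ∈ closure ({a, v} : Set G) ∨ g * t ∈ closure ({a, v} : Set G) := by
  obtain ⟨m, mc, mV, rfl | rfl⟩ := ker h hg e
  · exact .inl (mV n h2)
  · have e1 : (m * t) ^ 2 = m ^ 2 := by rw [(mc t h.tM).mul_pow, pow_two t, h.tt, mul_one]
    rw [mul_assoc, h.tt, mul_one]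
    exact .inr (mV (n + 1) (by rw [pow_succ', pow_mul, ← e1, ← pow_mul, mul_comm, pow_mul, h2, one_pow]))

theorem two' (hg : g ∈ M) (h2 : g * g ∈ closure ({a, v} : Set G)) (e : g * t * g⁻¹ = t * 1) :
    g ∈ closure ({a, v} : Set G) ∨ g * t ∈ closure ({a, v} : Set G) :=
  two h hg (n := 2) (by rw [show 2 ^ 2 = 2 * 2 from rfl, pow_mul, pow_two g, pow_two, sqV h h2])
    (by rw [mul_one] at e; exact mul_inv_eq_iff_eq_mul.1 e)

theorem comm (hg : g ∈ M) (h2 : g * g ∈ closure ({a, v} : Set G)) (hk : k ∈ M) :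
    g * k * g⁻¹ * k⁻¹ ∈ closure ({a, v} : Set G) := by
  obtain ⟨u, hu, eu⟩ := ph h hg
  obtain ⟨u', hu', eu'⟩ := ph h hk
  have e0 : g * k * t = t * (u * u') * (g * k) := mul_inv_eq_iff_eq_mul.1 (ph_mul h hg eu hu' eu')
  have e1 : k * g * t = t * (u * u') * (k * g) := by
    rw [cenV h hu' (VM h hu)]; exact mul_inv_eq_iff_eq_mul.1 (ph_mul h hk eu' hu eu)
  have hd : g * k * g⁻¹ * k⁻¹ ∈ M := mul_mem (mul_mem (mul_mem hg hk) (inv_mem hg)) (inv_mem hk)
  have e2 : g * k * g⁻¹ * k⁻¹ * t = t * (g * k * g⁻¹ * k⁻¹) := by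
    have e3 : g * k * g⁻¹ * k⁻¹ * t * (u * u') = t * (u * u' * (g * k * g⁻¹ * k⁻¹)) := by
      calc _ = g * k * ((k * g)⁻¹ * (t * (u * u') * (k * g))) * (k * g)⁻¹ := by group
        _ = _ := by rw [← e1, inv_mul_cancel_left, e0]; group
    rw [← cenV h (mul_mem hu hu') hd, ← mul_assoc t] at e3
    exact mul_right_cancel e3
  have e4 : g * (g * k * g⁻¹ * k⁻¹) * g⁻¹ * (g * k * g⁻¹ * k⁻¹) = 1 := by
    calc _ = g * g * k * (g * g)⁻¹ * k⁻¹ := by group
      _ = 1 := by rw [← cenV h h2 hk]; group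
  obtain ⟨m, mc, mV, e | e⟩ := ker h hd e2
  · rw [e, ← (mc g hg).eq, mul_inv_cancel_right] at e4
    exact e ▸ mV 1 (by rw [pow_one, pow_two, e4])
  · exfalso
    have e6 : m * m * u = 1 := by
      have hM := mul_mem h.tM (VM h hu)
      rw [e, ← mul_assoc g, ← (mc g hg).eq, mul_assoc m g, mul_assoc m, eu, mul_assoc, ← mul_assoc (t * u),
        ← (mc _ hM).eq, cenV h hu h.tM, mul_assoc, mul_assoc, h.tt, mul_one, ← mul_assoc] at e4
      exact e4
    have e7 := mV 2 (by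
      rw [show 2 ^ 2 = 2 * 2 from rfl, pow_mul, pow_two m, eq_inv_of_mul_eq_one_left e6, inv_pow, pow_two,
        sqV h hu, inv_one])
    rw [sqV h e7, one_mul] at e6
    refine h.tV ((mul_mem_cancel_left e7).1 (e ▸ ?_))
    rcases two' h hg h2 (e6 ▸ eu) with q | q
    · rw [← cenV h q hk, mul_inv_cancel_right, mul_inv_cancel]; exact one_mem _
    · have e8 : g * k * g⁻¹ * k⁻¹ = g * t * (t⁻¹ * k * t) * (g * t)⁻¹ * k⁻¹ := by group
      rw [e8, ← cenV h q (mul_mem (mul_mem (inv_mem h.tM) hk) h.tM), mul_inv_cancel_right, mul_assoc, mul_assoc,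
        ← mul_assoc k, eu', inv_mul_cancel_left]
      exact hu'

theorem sq_mul (hg : g ∈ M) (h2 : g * g ∈ closure ({a, v} : Set G)) (hk : k ∈ M)
    (k2 : k * k ∈ closure ({a, v} : Set G)) : g * k * (g * k) ∈ closure ({a, v} : Set G) := by
  have d := comm h hk k2 hg
  have e : g * k * (g * k) = g * (k * g * k⁻¹ * g⁻¹) * g * (k * k) := by group
  rw [e, cenV h d hg, mul_assoc _ g g]
  exact mul_mem (mul_mem d h2) k2

theorem ttV : t * t ∈ closure ({a, v} : Set G) := by rw [h.tt]; exact one_mem _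

theorem sq_c (h2 : g * g ∈ closure ({a, v} : Set G)) :
    c * g * c⁻¹ * (c * g * c⁻¹) ∈ closure ({a, v} : Set G) := by
  have := cV h h2
  convert this using 1
  group

omit h in
theorem nu_eq : nu c g = g * (c * g * c⁻¹) * (c * (c * g * c⁻¹) * c⁻¹) := by
  rw [nu]; group

theorem nuV (hg : g ∈ M) (hw : w ∈ closure ({a, v} : Set G)) :
    ∃ u ∈ closure ({a, v} : Set G), nu c (g * w) = nu c g * u := by
  have w1 := cV h hw
  have w2 := cV h w1
  have g1 := h.cM g hg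
  have g2 := h.cM _ g1
  refine ⟨_, mul_mem (mul_mem hw w1) w2, ?_⟩
  calc _ = g * (w * (c * g * c⁻¹)) * (c * w * c⁻¹) * (c * (c * g * c⁻¹) * c⁻¹) * (c * (c * w * c⁻¹) * c⁻¹) := by
        rw [nu]; group
    _ = g * (c * g * c⁻¹) * (w * (c * w * c⁻¹) * (c * (c * g * c⁻¹) * c⁻¹)) * (c * (c * w * c⁻¹) * c⁻¹) := by
        rw [← cenV h hw g1]; simp only [mul_assoc]
    _ = _ := by rw [← cenV h (mul_mem hw w1) g2, nu_eq]; simp only [mul_assoc]

theorem nuT (hg : g ∈ M) : ∃ u ∈ closure ({a, v} : Set G), nu c (g * t) = nu c g * t * u := by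
  have g1 := h.cM g hg
  have g2 := h.cM _ g1
  obtain ⟨u, hu, e⟩ := ph h (inv_mem g1)
  have e1 : c * t * c⁻¹ = t := by rw [h.ct, mul_inv_cancel_right]
  have e2 : ∀ y : G, c * (y * t) * c⁻¹ = c * y * c⁻¹ * t := fun y => by
    conv_rhs => rw [← e1]
    group
  refine ⟨u, hu, ?_⟩
  rw [nu_eq, nu_eq, e2, e2]
  generalize c * g * c⁻¹ = y at *
  generalize c * y * c⁻¹ = z at *
  calc _ = g * y * (y⁻¹ * t * y⁻¹⁻¹ * t) * z * t := by group
    _ = g * y * (u * z) * t := by rw [e, cenV h hu h.tM, mul_assoc u, h.tt, mul_one, mul_assoc _ u]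
    _ = _ := by rw [← cenV h hu g2, mul_assoc _ t, cenV h hu h.tM]; simp only [mul_assoc]

theorem nu_one (hg : g ∈ M) (h2 : g * g ∈ closure ({a, v} : Set G)) (hn : nu c g ∈ closure ({a, v} : Set G)) :
    nu c g = 1 ∧ Commute g (c * g * c⁻¹) := by
  have g1 := h.cM g hg
  have e0 : c * (c * (c * g * c⁻¹) * c⁻¹) * c⁻¹ = g := by
    calc _ = c ^ 3 * g * (c ^ 3)⁻¹ := by simp only [pow_succ, pow_zero, one_mul]; group
      _ = g := by rw [h.ccc]; group
  have e1 : nu c g = 1 := fixc h hn (by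
    calc _ = c * g * c⁻¹ * (c * (c * g * c⁻¹) * c⁻¹) * (c * (c * (c * g * c⁻¹) * c⁻¹) * c⁻¹) := by
          rw [nu_eq]; group
      _ = g⁻¹ * (nu c g * g) := by rw [e0, nu_eq]; group
      _ = _ := by rw [← cenV h hn hg, inv_mul_cancel_left])
  refine ⟨e1, ?_⟩
  have d := comm h hg h2 g1
  rw [nu_eq] at e1
  have e2 := eq_inv_of_mul_eq_one_right e1
  generalize hy : c * g * c⁻¹ = y at *
  refine commutatorElement_eq_one_iff_commute.1 (fixc h d ?_)
  calc _ = c * g * c⁻¹ * (c * y * c⁻¹) * (c * g * c⁻¹)⁻¹ * (c * y * c⁻¹)⁻¹ := by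
        rw [commutatorElement_def]; group
    _ = (y * g)⁻¹ * (⁅g, y⁆ * (y * g)) := by rw [hy, e2, commutatorElement_def]; group
    _ = _ := by rw [commutatorElement_def, ← cenV h d (mul_mem g1 hg), inv_mul_cancel_left]

theorem exists_a : ∃ x ∈ M, x * t * x⁻¹ = t * a := by
  obtain ⟨x, hx, hn⟩ := h.ex
  obtain ⟨w, hw, e⟩ := ph h hx
  rcases memV h hw with rfl | rfl | rfl | rfl
  · exact (hn (by rw [mul_one] at e; exact mul_inv_eq_iff_eq_mul.1 e)).elim
  · exact ⟨x, hx, e⟩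
  · exact ⟨_, h.cM _ (h.cM x hx), by rw [ph_c h (ph_c h e), h.cv, cav h]⟩
  · exact ⟨_, h.cM x hx, by rw [ph_c h e, cav h]⟩

theorem exists_sq : ∃ x ∈ M, x * t * x⁻¹ = t * a ∧ x * x ∈ closure ({a, v} : Set G) := by
  obtain ⟨x, hx, e⟩ := exists_a h
  obtain ⟨n, m, ⟨i, rfl⟩, hm⟩ := Nat.exists_eq_two_pow_mul_odd (orderOf_pos x).ne'
  have key : ∀ i : ℕ, x ^ (2 * i + 1) * t * (x ^ (2 * i + 1))⁻¹ = t * a := fun i => by
    induction i with
    | zero => simpa using e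
    | succ i ih =>
      have := ph_mul h hx e (mul_mem (aV h) (aV h)) (ph_mul h hx e (aV h) ih)
      rwa [h.aa, mul_one, ← pow_succ', ← pow_succ'] at this
  have h2 : (x ^ (2 * i + 1)) ^ 2 ^ n = 1 := by rw [← pow_mul, mul_comm, ← hm, pow_orderOf_eq_one]
  have hy := pow_mem hx (2 * i + 1)
  have ey := key i
  generalize x ^ (2 * i + 1) = y at *
  refine ⟨y, hy, ey, ?_⟩
  have e2 := ph_mul h hy ey (aV h) ey
  rw [h.aa, mul_one] at e2
  refine (two h (mul_mem hy hy) (n := n) (by rw [← pow_two, ← pow_mul, mul_comm, pow_mul, h2, one_pow])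
    (mul_inv_eq_iff_eq_mul.1 e2)).resolve_right fun q => h.a1 ?_
  have e3 := cenV h q hy
  rw [← mul_assoc, ← mul_assoc, mul_assoc (y * y), mul_assoc (y * y), mul_right_inj] at e3
  rw [e3, mul_inv_cancel_right] at ey
  simpa using ey

theorem exists_nu : ∃ x ∈ M, x * t * x⁻¹ = t * a ∧ x * x ∈ closure ({a, v} : Set G) ∧
    nu c x ∈ closure ({a, v} : Set G) := by
  obtain ⟨x, hx, e, h2⟩ := exists_sq h
  have x1 := h.cM x hx
  have x2 := h.cM _ x1
  have e1 := ph_c h e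
  have e2 := ph_c h e1
  rw [h.ca] at e1 e2
  rw [h.cv] at e2
  have e3 := ph_mul h (mul_mem hx x1) (ph_mul h hx e (vV h) e1) (mul_mem (aV h) (vV h)) e2
  rw [avav h] at e3
  have := two' h (mul_mem (mul_mem hx x1) x2)
    (sq_mul h (mul_mem hx x1) (sq_mul h hx h2 x1 (sq_c h h2)) x2 (sq_c h (sq_c h h2))) e3
  rw [← nu_eq] at this
  rcases this with q | q
  · exact ⟨x, hx, e, h2, q⟩
  · obtain ⟨u, hu, eu⟩ := nuT h hx
    exact ⟨x * t, mul_mem hx h.tM, by rw [← e]; group, sq_mul h hx h2 h.tM (ttV h), eu ▸ mul_mem q hu⟩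

theorem cj (hg : g ∈ M) : c * (j * (c * g * c⁻¹) * j⁻¹) * c⁻¹ = j * g * j⁻¹ := by
  have ji : j⁻¹ = j := inv_eq_of_mul_eq_one_right h.jj
  have e := cenV h h.jc hg
  calc _ = j * (j⁻¹ * c * j * c * g * (j⁻¹ * c * j * c)⁻¹) * j⁻¹ := by group
    _ = j * (j * c * j⁻¹ * c * g * (j * c * j⁻¹ * c)⁻¹) * j⁻¹ := by rw [ji]
    _ = _ := by rw [← e, mul_inv_cancel_right]

theorem nu_j (hg : g ∈ M) (e : nu c g = 1) (cm : Commute g (c * g * c⁻¹)) : nu c (j * g * j⁻¹) = 1 := by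
  have e0 : c * (c * (c * g * c⁻¹) * c⁻¹) * c⁻¹ = g := by
    calc _ = c ^ 3 * g * (c ^ 3)⁻¹ := by simp only [pow_succ, pow_zero, one_mul]; group
      _ = g := by rw [h.ccc]; group
  have e1 := cj h (h.cM _ (h.cM g hg))
  have e2 := cj h (h.cM g hg)
  rw [e0] at e1
  have e3 : c * (c * g * c⁻¹) * c⁻¹ * (c * g * c⁻¹) = c * g * c⁻¹ * (c * (c * g * c⁻¹) * c⁻¹) := by
    calc _ = c * (c * g * c⁻¹ * g) * c⁻¹ := by group
      _ = _ := by rw [← cm.eq]; group
  rw [nu_eq, e1, e2]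
  calc _ = j * (g * (c * (c * g * c⁻¹) * c⁻¹ * (c * g * c⁻¹))) * j⁻¹ := by group
    _ = 1 := by rw [e3, ← mul_assoc g, ← nu_eq, e, mul_one, mul_inv_cancel]

theorem jV (hw : w ∈ closure ({a, v} : Set G)) : j * w * j⁻¹ ∈ closure ({a, v} : Set G) := by
  have e : j * a * j⁻¹ = a := by rw [h.ja, mul_inv_cancel_right]
  rcases memV h hw with rfl | rfl | rfl | rfl
  · simp
  · rw [e]; exact aV h
  · rw [h.jv]; exact mul_mem (aV h) (vV h)
  · rw [← mul_assoc, h.ja, mul_assoc, mul_assoc, ← mul_assoc j, h.jv]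
    exact mul_mem (aV h) (mul_mem (aV h) (vV h))

theorem fin (hx : x ∈ M) (e : x * t * x⁻¹ = t * a) (h2 : x * x ∈ closure ({a, v} : Set G))
    (hn : nu c x ∈ closure ({a, v} : Set G)) (ej : j * x * j⁻¹ = x) : ∃ ζ ∈ M, ζ * t * ζ⁻¹ = t * a ∧ j * ζ = ζ * j ∧
    (ζ * ζ = 1 ∨ ζ * ζ = a) ∧ Commute ζ (c * ζ * c⁻¹) ∧
    ζ * (c * ζ * c⁻¹) * (c * c * ζ * (c * c)⁻¹) = 1 :=
  ⟨x, hx, e, mul_inv_eq_iff_eq_mul.1 ej, fixj h h2 (by
    conv_rhs => rw [← ej]
    group), (nu_one h hx h2 hn).2, (nu_one h hx h2 hn).1⟩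

end AHatH

open AHatH

variable {α β γ : Type} [Fintype α] [DecidableEq α] [Fintype β] [DecidableEq β] [Fintype γ]
  [DecidableEq γ] {G : Type*} [Group G] [Finite G] {ι κ l : alternatingGroup α →* G}
  {ψ : Perm β →* G} {X P M L : Subgroup G} {t s u g o : G} {p q σ τ π : Perm α} {k j : ℕ}

variable {Y Z : Perm α → G} {a b c d x y : α} {e : Fin 8 ↪ α}

theorem Hat.core {a v c j : G} (h : Hat M t a v c j) : ∃ ζ ∈ M, ζ * t * ζ⁻¹ = t * a ∧ j * ζ = ζ * j ∧
    (ζ * ζ = 1 ∨ ζ * ζ = a) ∧ Commute ζ (c * ζ * c⁻¹) ∧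
    ζ * (c * ζ * c⁻¹) * (c * c * ζ * (c * c)⁻¹) = 1 := by
  obtain ⟨x, hx, e, h2, hn⟩ := exists_nu h
  obtain ⟨n1, cm⟩ := nu_one h hx h2 hn
  have x1 := h.jM x hx
  have ja : j * a * j⁻¹ = a := by rw [h.ja, mul_inv_cancel_right]
  have e1 : j * x * j⁻¹ * t * (j * x * j⁻¹)⁻¹ = t * a := by
    have e1 : j⁻¹ * t * j = t := by rw [mul_assoc, ← h.jt, inv_mul_cancel_left]
    calc _ = j * (x * (j⁻¹ * t * j) * x⁻¹) * j⁻¹ := by group
      _ = t * (j * a * j⁻¹) := by rw [e1, e, ← mul_assoc, h.jt]; group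
      _ = _ := by rw [ja]
  have e2 : x⁻¹ * (j * x * j⁻¹) * t * (x⁻¹ * (j * x * j⁻¹))⁻¹ = t * 1 := by
    calc _ = x⁻¹ * (j * x * j⁻¹ * t * (j * x * j⁻¹)⁻¹) * x := by group
      _ = _ := by rw [e1, ← e]; group
  have s1 : x⁻¹ * x⁻¹ ∈ closure ({a, v} : Set G) := by rw [← mul_inv_rev]; exact inv_mem h2
  have s2 : j * x * j⁻¹ * (j * x * j⁻¹) ∈ closure ({a, v} : Set G) := by
    convert jV h h2 using 1
    group
  have hw : x⁻¹ * (j * x * j⁻¹) ∈ closure ({a, v} : Set G) := by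
    refine (two' h (mul_mem (inv_mem hx) x1) (sq_mul h (inv_mem hx) s1 x1 s2) e2).resolve_right fun q => h.tV ?_
    obtain ⟨u, hu, eu⟩ := nuV h (mul_mem hx h.tM) q
    obtain ⟨u', hu', eu'⟩ := nuT h hx
    rw [mul_assoc x, cenV h q h.tM, mul_assoc _ t, h.tt, mul_one, mul_inv_cancel_left, nu_j h hx n1 cm, eu', n1,
      one_mul, mul_assoc] at eu
    rw [eq_inv_of_mul_eq_one_left eu.symm]
    exact inv_mem (mul_mem hu' hu)
  have e3 : j * (x⁻¹ * (j * x * j⁻¹)) * j⁻¹ = x⁻¹ * (j * x * j⁻¹) := by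
    rw [← inv_eq_of_mul_eq_one_right (sqV h hw)]
    nth_rewrite 1 [inv_eq_of_mul_eq_one_right (sqV h hw)]
    calc _ = j * x⁻¹ * j⁻¹ * (j * j * x * (j * j)⁻¹) := by group
      _ = _ := by rw [h.jj]; group
  rcases fixj h hw e3 with k | k
  · exact fin h hx e h2 hn (inv_mul_eq_one.1 k).symm
  · obtain ⟨u, hu, eu⟩ := nuV h hx (vV h)
    refine fin h (mul_mem hx h.vM) ?_ (sq_mul h hx h2 h.vM (mul_mem (vV h) (vV h))) (eu ▸ mul_mem hn hu) ?_
    · rw [mul_assoc x v, ← (h.cen t h.tM).2, ← e]; group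
    · calc _ = j * x * j⁻¹ * (j * v * j⁻¹) := by group
        _ = _ := by rw [inv_mul_eq_iff_eq_mul.1 k, h.jv, mul_assoc, ← mul_assoc a, h.aa, one_mul]

end Cfsg.Agent.SAc
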