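import Mathlib
import Cfsg.Agent.SAc.PmB
import Cfsg.Agent.SAc.Bas
import Cfsg.Agent.SAn.Perm0

/-! An element of order four in the centralizer of a neighbouring component. -/

set_option autoImplicit false
set_option linter.unusedSectionVars false

namespace Cfsg.Agent.SAc

open Cfsg Cfsg.Agent.GT Cfsg.Agent.Loc.Mss Cfsg.Agent.Sym Cfsg.Agent.Loc.SO Cfsg.Agent.SAn Subgroup Equiv
open Cfsg.Agent.StdB (C1 mem_C1)
open scoped commutatorElement

variable {α β γ : Type} [Fintype α] [DecidableEq α] [Fintype β] [DecidableEq β] [Fintype γ]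
  [DecidableEq γ] {G : Type*} [Group G] [Finite G] {ι κ l : alternatingGroup α →* G}
  {ψ : Perm β →* G} {X P M L : Subgroup G} {t s u g o : G} {p q σ τ π : Perm α} {k j : ℕ}

namespace SetA

open P0

variable {a b c d x y z w : α}

theorem Φc (h : D4 a b c d) : Φ h (c4 0 1 2 3) = c4 a b c d := by
  rw [c4, map_mul, Φ_swap, Φ_dt]; rfl

theorem fx_comm (h : D4 a b c d) (hσ : Fx a b c d σ) (μ : Perm (Fin 4)) : σ * Φ h μ = Φ h μ * σ := by
  refine Perm.Disjoint.commute fun v => ?_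
  rcases P0.cases h v with ⟨i, rfl⟩ | k
  · left
    fin_cases i
    exacts [hσ.a, hσ.b, hσ.c, hσ.d]
  · exact .inr (Φ_out h μ k)

theorem fx_res (h : D4 a b c d) {ν : Perm (Fin 4)} (hν : ∀ i, σ (e h i) = e h (ν i)) :
    Fx a b c d ((Φ h ν)⁻¹ * σ) := by
  have o : ∀ i, ((Φ h ν)⁻¹ * σ) (e h i) = e h i := fun i => by
    rw [Perm.mul_apply, hν, ← map_inv, Φ_e]; simp
  exact ⟨o 0, o 1, o 2, o 3⟩

theorem comm_res (h : D4 a b c d) {ν : Perm (Fin 4)} (hν : ∀ i, σ (e h i) = e h (ν i)) (μ : Perm (Fin 4)) :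
    Φ h μ * σ * (Φ h μ)⁻¹ * σ⁻¹ = Φ h (μ * ν * μ⁻¹ * ν⁻¹) := by
  have k := fx_comm h (fx_res h hν) μ⁻¹
  simp only [map_mul, map_inv] at k ⊢
  calc _ = Φ h μ * Φ h ν * ((Φ h ν)⁻¹ * σ * (Φ h μ)⁻¹) * σ⁻¹ := by group
    _ = _ := by rw [k]; group

theorem fx_Φ (h : D4 x y z w) (hx : SAn.Out a b c d x) (hy : SAn.Out a b c d y) (hz : SAn.Out a b c d z)
    (hw : SAn.Out a b c d w) (μ : Perm (Fin 4)) : Fx a b c d (Φ h μ) :=
  ⟨Φ_out h μ ⟨hx.a.symm, hy.a.symm, hz.a.symm, hw.a.symm⟩, Φ_out h μ ⟨hx.b.symm, hy.b.symm, hz.b.symm, hw.b.symm⟩,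
    Φ_out h μ ⟨hx.c.symm, hy.c.symm, hz.c.symm, hw.c.symm⟩, Φ_out h μ ⟨hx.d.symm, hy.d.symm, hz.d.symm, hw.d.symm⟩⟩

theorem fx_out (hσ : Fx a b c d σ) (hx : SAn.Out a b c d x) : SAn.Out a b c d (σ x) :=
  ⟨fun k => hx.a (σ.injective (k.trans hσ.a.symm)), fun k => hx.b (σ.injective (k.trans hσ.b.symm)),
    fun k => hx.c (σ.injective (k.trans hσ.c.symm)), fun k => hx.d (σ.injective (k.trans hσ.d.symm))⟩

theorem ex_mu : ∀ ν ∈ [dt (0 : Fin 4) 1 2 3, swap 0 1], ∃ μ : Perm (Fin 4), Perm.sign μ = 1 ∧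
    μ * ν * μ⁻¹ * ν⁻¹ * (μ * ν * μ⁻¹ * ν⁻¹) = 1 ∧ μ * ν * μ⁻¹ * ν⁻¹ ≠ 1 := by decide +kernel

/-- An involution fixing four points has a commutator of order two with an even permutation fixing them. -/
theorem ex_comm (h8 : 8 ≤ Fintype.card α) (hσ : Fx a b c d σ) (h2 : σ * σ = 1) (h1 : σ ≠ 1) :
    ∃ p ∈ alternatingGroup α, Fx a b c d p ∧ Iv (p * σ * p⁻¹ * σ⁻¹) := by
  have i2 : ∀ v, σ (σ v) = v := fun v => by rw [← Perm.mul_apply, h2]; rfl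
  obtain ⟨x, hx⟩ : ∃ x, σ x ≠ x := by
    by_contra k
    push Not at k
    exact h1 (Perm.ext k)
  have ox : SAn.Out a b c d x := ⟨fun k => hx (k ▸ hσ.a), fun k => hx (k ▸ hσ.b), fun k => hx (k ▸ hσ.c),
    fun k => hx (k ▸ hσ.d)⟩
  have fin : ∀ z w (h : D4 x (σ x) z w), SAn.Out a b c d z → SAn.Out a b c d w →
      ∀ ν ∈ [dt (0 : Fin 4) 1 2 3, swap 0 1], (∀ i, σ (e h i) = e h (ν i)) → ∃ p ∈ alternatingGroup α, Fx a b c d p ∧ Iv (p * σ * p⁻¹ * σ⁻¹) :=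
    fun z w h oz ow ν hν k => by
      obtain ⟨μ, m1, m2, m3⟩ := ex_mu ν hν
      refine ⟨Φ h μ, (Φ_sign h μ).trans m1, fx_Φ h ox (fx_out hσ ox) oz ow μ, ?_⟩
      rw [comm_res h k]
      exact ⟨by rw [← map_mul, m2, map_one], fun k => m3 (Φ_inj h (k.trans (map_one _).symm))⟩
  have mv : ∀ z, SAn.Out a b c d z → z ≠ x → z ≠ σ x → σ z ≠ z →
      ∃ p ∈ alternatingGroup α, Fx a b c d p ∧ Iv (p * σ * p⁻¹ * σ⁻¹) := fun z oz h1 h2 h3 =>
    fin z (σ z) ⟨hx.symm, h1.symm, fun k => h2 (by rw [k, i2]), h2.symm, σ.injective.ne h1.symm, h3.symm⟩ oz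
      (fx_out hσ oz) _ List.mem_cons_self fun i => by
        fin_cases i
        exacts [rfl, i2 x, rfl, i2 z]
  obtain ⟨z, oz, z1, z2⟩ := exists_out3 (by omega) a b c d x (σ x)
  obtain ⟨w, hw⟩ := ex_list [a, b, c, d, x, σ x, z] (by simp; omega)
  simp only [List.mem_cons, List.not_mem_nil, or_false, not_or] at hw
  obtain ⟨w1, w2, w3, w4, w5, w6, w7⟩ := hw
  by_cases k1 : σ z = z
  · by_cases k2 : σ w = w
    · exact fin z w ⟨hx.symm, z1.symm, Ne.symm w5, z2.symm, Ne.symm w6, Ne.symm w7⟩ oz ⟨w1, w2, w3, w4⟩ _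
        (List.mem_cons_of_mem _ List.mem_cons_self) fun i => by
          fin_cases i
          exacts [rfl, i2 x, k1, k2]
    · exact mv w ⟨w1, w2, w3, w4⟩ w5 w6 k2
  · exact mv z oz z1 z2 k1

theorem a4 : ∀ ν : Perm (Fin 4), Perm.sign ν = 1 → ν ≠ 1 → ∃ μ : Perm (Fin 4), Perm.sign μ = 1 ∧
    μ * ν * μ⁻¹ * ν⁻¹ * (μ * ν * μ⁻¹ * ν⁻¹) = 1 ∧ μ * ν * μ⁻¹ * ν⁻¹ ≠ 1 := by decide +kernel

/-- A homomorphism on an alternating group of degree at least four whose kernel has no involution is injective. -/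
theorem inj_of {H : Type*} [Group H] {m : ℕ} (h4 : 4 ≤ m) (f : alternatingGroup (Fin m) →* H)
    (h : ∀ p, f p = 1 → p * p = 1 → p = 1) : Function.Injective f := by
  rcases h4.eq_or_lt with rfl | h5
  · refine (injective_iff_map_eq_one f).2 fun ν k => by_contra fun k1 => ?_
    obtain ⟨μ, m1, m2, m3⟩ := a4 ν.1 ν.2 fun e => k1 (Subtype.ext e)
    exact m3 (congrArg Subtype.val (h (⟨μ, m1⟩ * ν * (⟨μ, m1⟩ : alternatingGroup (Fin 4))⁻¹ * ν⁻¹)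
      (by simp [k]) (Subtype.ext m2)))
  · rcases alternatingGroup.normal_subgroup_eq_bot_or_eq_top (N := f.ker) (by rw [Nat.card_fin]; omega) with k | k
    · exact (MonoidHom.ker_eq_bot_iff f).1 k
    · obtain ⟨a, b, c, d, h'⟩ := exists_D4 (α := Fin m) (by simpa using h4)
      exact absurd (congrArg Subtype.val (h ⟨_, h'.mem⟩ (k.ge (mem_top _)) (Subtype.ext h'.iv.1))) h'.iv.2

/-- The elements acting as a permutation that fixes four points. -/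
def fxS (κ : alternatingGroup α →* G) (a b c d : α) : Subgroup G where
  carrier := {g | ∃ σ, Act κ g σ ∧ Fx a b c d σ}
  one_mem' := ⟨1, Act.one, rfl, rfl, rfl, rfl⟩
  mul_mem' := fun ⟨σ, h, k⟩ ⟨τ, h', k'⟩ => ⟨σ * τ, h.mul h', by rw [Perm.mul_apply, k'.a, k.a],
    by rw [Perm.mul_apply, k'.b, k.b], by rw [Perm.mul_apply, k'.c, k.c], by rw [Perm.mul_apply, k'.d, k.d]⟩
  inv_mem' := fun ⟨σ, h, k⟩ => ⟨σ⁻¹, h.inv, Perm.inv_eq_iff_eq.2 k.a.symm, Perm.inv_eq_iff_eq.2 k.b.symm,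
    Perm.inv_eq_iff_eq.2 k.c.symm, Perm.inv_eq_iff_eq.2 k.d.symm⟩

theorem card_compl (h : D4 a b c d) : ({a, b, c, d} : Finset α)ᶜ.card = Fintype.card α - 4 := by
  rw [Finset.card_compl, ← supp h, ← Perm.sum_cycleType, ctype h]; rfl

end SetA

open SetA P0

theorem c4_sq {a b c d : α} (h : D4 a b c d) : c4 a b c d * c4 a b c d = dt a b c d := by
  rw [← Φc h, ← map_mul, ← Φ1 h]; congr 1; decide +kernel

/-- The permutation lemma. -/
theorem four_cycle {B : Subgroup (Perm α)} (h8 : 8 ≤ Fintype.card α) (h4 : σ ^ 4 = 1)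
    (h2 : σ * σ ≠ 1) (hB : ∀ b ∈ B, b * b = 1 → b = 1 ∨ b = σ * σ)
    (hc : ∀ p ∈ alternatingGroup α, p * (σ * σ) = σ * σ * p → p * σ * p⁻¹ * σ⁻¹ ∈ B) :
    ∃ a b c d, D4 a b c d ∧ σ = c4 a b c d ∧ σ * σ ∈ B := by
  obtain ⟨a, ha⟩ : ∃ a, σ (σ a) ≠ a := by
    by_contra e
    push Not at e
    exact h2 (Perm.ext e)
  have e4 : σ (σ (σ (σ a))) = a := by
    simpa only [pow_succ, pow_zero, one_mul, Perm.mul_apply, Perm.one_apply] using DFunLike.congr_fun h4 a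
  have h1 : σ a ≠ a := fun e => ha (by rw [e, e])
  have h : D4 a (σ (σ a)) (σ a) (σ (σ (σ a))) := ⟨ha.symm, h1.symm, fun e => h1 (by conv_lhs => rw [e, e4]),
    σ.injective.ne h1, σ.injective.ne (σ.injective.ne h1.symm), σ.injective.ne ha.symm⟩
  have hν : ∀ i, σ (e h i) = e h (c4 0 1 2 3 i) := fun i => by
    fin_cases i
    exacts [rfl, rfl, rfl, e4]
  refine ⟨_, _, _, _, h, ?_⟩
  generalize σ (σ (σ a)) = d at h hν
  generalize σ (σ a) = b at h hν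
  generalize σ a = c at h hν
  have hs := fx_res h hν
  have k := fx_comm h hs
  obtain ⟨ρ, rfl⟩ : ∃ ρ, σ = Φ h (c4 0 1 2 3) * ρ := ⟨_, (mul_inv_cancel_left _ _).symm⟩
  rw [inv_mul_cancel_left] at hs k
  have q : Φ h (c4 0 1 2 3) * ρ * (Φ h (c4 0 1 2 3) * ρ) = Φ h (dt 0 1 2 3) * (ρ * ρ) := by
    rw [mul_assoc, ← mul_assoc ρ, k, ← show c4 0 1 2 3 * c4 0 1 2 3 = dt (0 : Fin 4) 1 2 3 by decide +kernel, map_mul]
    group
  have m := hc (Φ h (dt 0 2 1 3)) ((Φ_sign h _).trans (by decide +kernel)) (by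
    rw [q, ← mul_assoc, ← map_mul, show dt 0 2 1 3 * dt 0 1 2 3 = dt (0 : Fin 4) 1 2 3 * dt 0 2 1 3 by decide +kernel,
      map_mul, mul_assoc, mul_assoc, mul_assoc, k, ← mul_assoc ρ, k, mul_assoc])
  rw [comm_res h hν, show dt 0 2 1 3 * c4 0 1 2 3 * (dt 0 2 1 3)⁻¹ * (c4 0 1 2 3)⁻¹ = dt (0 : Fin 4) 1 2 3 by
    decide +kernel, Φ1] at m
  have e1 := (hB _ m h.iv.1).resolve_left h.iv.2
  refine ⟨?_, e1 ▸ m⟩
  rw [← e1] at hB hc
  rw [q, Φ1, left_eq_mul] at e1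
  rw [← Φc h, mul_eq_left]
  by_contra k1
  obtain ⟨p, hp, fp, ip⟩ := ex_comm h8 hs e1 k1
  have f2 : Fx a b c d (p * ρ * p⁻¹ * ρ⁻¹) := by
    have o : ∀ v, p v = v → ρ v = v → (p * ρ * p⁻¹ * ρ⁻¹) v = v := fun v h1 h2 => by
      simp only [Perm.mul_apply]
      rw [Perm.inv_eq_iff_eq.2 h2.symm, Perm.inv_eq_iff_eq.2 h1.symm, h2, h1]
    exact ⟨o _ fp.a hs.a, o _ fp.b hs.b, o _ fp.c hs.c, o _ fp.d hs.d⟩
  have m2 := hc p hp (Φ1 h ▸ fx_comm h fp _)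
  rw [show p * (Φ h (c4 0 1 2 3) * ρ) * p⁻¹ * (Φ h (c4 0 1 2 3) * ρ)⁻¹ =
    p * Φ h (c4 0 1 2 3) * (ρ * p⁻¹ * ρ⁻¹) * (Φ h (c4 0 1 2 3))⁻¹ by group, fx_comm h fp,
    show Φ h (c4 0 1 2 3) * p * (ρ * p⁻¹ * ρ⁻¹) = Φ h (c4 0 1 2 3) * (p * ρ * p⁻¹ * ρ⁻¹) by group,
    ← fx_comm h f2, mul_inv_cancel_right] at m2
  have e2 := (hB _ m2 ip.1).resolve_left ip.2
  have e3 := f2.a
  rw [e2, ← Φ1 h] at e3
  exact h.ab ((Φ_e h _ 0).symm.trans e3).symm

theorem c4_inv {a b c d : α} (h : D4 a b c d) :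
    swap a b * c4 a b c d * swap a b = (c4 a b c d)⁻¹ ∧
      dt a c b d * c4 a b c d * dt a c b d = (c4 a b c d)⁻¹ ∧
      c4 a b c d * swap a b * (c4 a b c d)⁻¹ = swap c d ∧ (c4 a b c d).cycleType = {4} := by
  classical
  rw [← Φc h, ← Φ2 h, ← show _ = swap a b from Φ_swap h 0 1, ← show _ = swap c d from Φ_swap h 2 3]
  simp only [← map_inv, ← map_mul]
  refine ⟨congrArg _ (by decide +kernel), congrArg _ (by decide +kernel), congrArg _ (by decide +kernel), ?_⟩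
  rw [Φ, Perm.viaEmbeddingHom_apply, Perm.viaEmbedding, @Perm.cycleType_extendDomain _ _ _ _ _ _ _ (_)]
  decide +kernel

theorem c4_of_cycleType (h : σ.cycleType = {4}) : ∃ a b c d, D4 a b c d ∧ σ = c4 a b c d := by
  obtain ⟨a, b, c, d, h4⟩ := exists_D4 (α := α) (by
    have := σ.sum_cycleType
    rw [h, Multiset.sum_singleton] at this
    exact this ▸ Finset.card_le_univ _)
  obtain ⟨π, rfl⟩ := isConj_iff.1 (Perm.isConj_iff_cycleType_eq.2 ((c4_inv h4).2.2.2.trans h.symm))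
  refine ⟨_, _, _, _, h4.map π, ?_⟩
  rw [c4, c4, swap_apply_apply, ← dt_conj]; group

theorem cent_c4 {a b c d : α} (h : D4 a b c d) (hc : σ * c4 a b c d = c4 a b c d * σ) :
    ∃ i : ℕ, Fx a b c d ((c4 a b c d ^ i)⁻¹ * σ) := by
  obtain ⟨ν, hν⟩ := exists_res' h (h.map_of_comm (σ := σ) (by
    rw [← c4_sq h, ← mul_assoc, hc, mul_assoc, hc, mul_assoc]))
  rw [← Φc h] at hc ⊢
  obtain ⟨i, rfl⟩ := (by decide +kernel : ∀ ν : Perm (Fin 4), ν * c4 0 1 2 3 = c4 0 1 2 3 * ν →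
    ∃ i : Fin 4, ν = c4 0 1 2 3 ^ i.1) ν (res_comm h hν hc)
  exact ⟨i, map_pow (Φ h) _ _ ▸ fx_res h hν⟩

/-- The alternating group on the remaining points acts as the alternating group on the remaining points. -/
theorem Cw.rest {a b c d a' b' c' d' x : α} (h : Cw ι t) (h' : Cw κ s) (h4 : D4 a b c d)
    (h4' : D4 a' b' c' d') (h1 : ∀ p ∈ altOn ({a, b, c, d} : Finset α)ᶜ, ev ι p ≠ s)
    (h2 : ∀ p ∈ altOn ({a, b, c, d} : Finset α)ᶜ, ev ι p * s = s * ev ι p)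
    (h3 : ∀ p ∈ altOn ({a, b, c, d} : Finset α)ᶜ, ∀ σ, Act κ (ev ι p) σ → Odd (orderOf σ) →
      Fx a' b' c' d' σ)
    (hg : ∀ p ∈ altOn ({a, b, c, d} : Finset α)ᶜ, ev ι p * g = g * ev ι p) (ha : Act κ g τ)
    (hx : SAn.Out a' b' c' d' x) : τ x = x := by
  have h8 := h.eight
  have c1 := card_compl h4
  have c2 := card_compl h4'
  generalize ({a, b, c, d} : Finset α)ᶜ = R at *
  have al : ∀ p : altOn R, p.1 ∈ alternatingGroup α := fun p => (mem_altOn.1 p.2).1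
  obtain ⟨F, hF⟩ := h'.exists_hom
  let f : altOn R →* Perm α := F.comp (MonoidHom.mk' (fun p => ⟨ev ι p.1, mem_C1.2 (h2 _ p.2)⟩)
    fun p q => Subtype.ext (ev_mul (al p) (al q)))
  have hf : ∀ p : altOn R, Act κ (ev ι p.1) (f p) := fun p => hF ⟨_, mem_C1.2 (h2 _ p.2)⟩
  have no : ∀ p, f p = 1 → p * p = 1 → p = 1 := fun p k e =>
    Subtype.ext (ev_eq_one h.inj (al p) ((h'.ker2 _ (h2 _ p.2) (k ▸ hf p) (by
      rw [← ev_mul (al p) (al p), show p.1 * p.1 = 1 from congrArg Subtype.val e, ev_one])).resolve_right (h1 _ p.2)))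
  have inj : Function.Injective f := by
    have := inj_of (by omega) (f.comp (altOnEquiv R).symm.toMonoidHom) fun p k e =>
      (map_eq_one_iff _ (altOnEquiv R).symm.injective).1 (no _ k (by rw [← map_mul, e, map_one]))
    exact fun p q e => (altOnEquiv R).injective (this (by simpa using e))
  have fx : altOn R ≤ pre ι (fxS κ a' b' c' d') := altOn_le fun x hx y hy z hz xy xz yz => by
    have m : cyc3 x y z ∈ altOn R := mem_altOn.2 ⟨cyc3_mem_alternatingGroup xy yz, fun v hv =>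
      cyc3_apply_of_ne (fun e => hv (e ▸ hx)) (fun e => hv (e ▸ hy)) fun e => hv (e ▸ hz)⟩
    refine ⟨(mem_altOn.1 m).1, _, hf ⟨_, m⟩, h3 _ m _ (hf ⟨_, m⟩) (Odd.of_dvd_nat (by decide : Odd 3)
      (orderOf_dvd_of_pow_eq_one ?_))⟩
    rw [← map_pow, show (⟨_, m⟩ : altOn R) ^ 3 = 1 from Subtype.ext (cyc3_pow_three xy xz yz), map_one]
  have le : altOn ({a', b', c', d'} : Finset α)ᶜ ≤ f.range := by
    refine altOn_le_of_card ?_ ?_
    · rintro _ ⟨p, rfl⟩ v hv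
      obtain ⟨σ, k1, k2⟩ := (fx p.2).2
      rw [h'.uniq (hf p) k1]
      simp only [Finset.mem_compl, not_not, Finset.mem_insert, Finset.mem_singleton] at hv
      rcases hv with rfl | rfl | rfl | rfl
      exacts [k2.a, k2.b, k2.c, k2.d]
    · haveI : Nontrivial (Fin R.card) := Fin.nontrivial_iff_two_le.2 (by omega)
      rw [← Nat.card_congr (MonoidHom.ofInjective inj).toEquiv, Nat.card_congr (altOnEquiv R).toEquiv,
        two_mul_nat_card_alternatingGroup, Nat.card_perm, Nat.card_eq_fintype_card, Fintype.card_fin, c1, c2]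
  refine cent_altOn (by omega) (mem_cent.2 fun q hq => ?_) x (Finset.mem_compl.2 (out_iff.1 hx))
  obtain ⟨p, rfl⟩ := le hq
  exact (hf p).comm h'.inj (by omega) ha (hg _ p.2)

/-- `r` of order four centralizes the component of `C(r²)` and commutes with `t`. -/
theorem Cw.four_act {r : G} (h : Cw ι t) (h' : Cw κ s) (hne : s ≠ t) (hr : r * r = s)
    (ha : Act κ r 1) (hc : r * t = t * r) :
    ∃ a b c d, D4 a b c d ∧ Act ι r (c4 a b c d) ∧ s = ev ι (dt a b c d) := by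
  have h8 := h.eight
  obtain ⟨σ, hσ⟩ := h.reg r hc
  have hs : Act ι s (σ * σ) := hr ▸ hσ.mul hσ
  have h2 : σ * σ ≠ 1 := fun e => (h.ker2 s (by rw [← hr, mul_assoc, hc, ← mul_assoc, hc, mul_assoc]) (e ▸ hs)
    h'.iv.1).elim h'.iv.2 hne
  have key : ∀ b ∈ pre ι (𝐂[κ.range] ⊓ C1 s), b * b = 1 → b = 1 ∨ ev ι b = s := fun b hb e =>
    (h'.ker2 _ (mem_C1.1 hb.2.2) (act_one_iff.2 hb.2.1) (by rw [← ev_mul hb.1 hb.1, e, ev_one])).imp_left
      (ev_eq_one h.inj hb.1)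
  obtain ⟨a, b, c, d, h4, e, m⟩ := four_cycle (B := pre ι (𝐂[κ.range] ⊓ C1 s)) h8
    (hσ.pow_eq_one h.inj (by omega) (by
      rw [← h'.iv.1, ← hr]; simp only [pow_succ, pow_zero, one_mul, mul_assoc])) h2
    (fun b hb e => (key b hb e).imp_right fun k : ev ι b = s => h.uniq (act_ev hb.1) (k ▸ hs)) fun p hp k => by
      have c := (hs.comm_iff h.inj hp).2 k.symm
      obtain ⟨π, hπ⟩ := h'.reg _ c.symm
      have m := conj_mem_alt (inv_mem hp) σ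
      rw [show p * σ * p⁻¹ * σ⁻¹ = p * (σ * p⁻¹ * σ⁻¹) by group]
      refine ⟨mul_mem hp m, ?_⟩
      rw [ev_mul hp m, ← hσ _ (inv_mem hp), ev_inv hp]
      have rs : r ∈ C1 s := mem_C1.2 (by rw [← hr, mul_assoc])
      have ps : ev ι p ∈ C1 s := mem_C1.2 c.symm
      exact ⟨act_one_iff.1 (by simpa using hπ.mul (ha.conj hπ.inv)),
        (C1 s).mul_mem ps (mul_mem (mul_mem rs (inv_mem ps)) (inv_mem rs))⟩
  subst e
  rw [c4_sq h4] at m
  exact ⟨a, b, c, d, h4, hσ, ((key _ m h4.iv.1).resolve_left h4.iv.2).symm⟩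

end Cfsg.Agent.SAc
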