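import Mathlib
import Cfsg.Agent.SAc.PmB

/-! The diagonal symmetric group in the centralizer of an involution. See `stubs/Cfsg/Agent/SAc/PLAN.md`. -/

set_option autoImplicit false
set_option linter.unusedSectionVars false

namespace Cfsg.Agent.SAc

open Cfsg Cfsg.Agent.GT Cfsg.Agent.Loc.Mss Cfsg.Agent.Sym Cfsg.Agent.Loc.SO Cfsg.Agent.SAn Subgroup Equiv
open Cfsg.Agent.StdB (C1 mem_C1)
open scoped commutatorElement

variable {α β γ : Type} [Fintype α] [DecidableEq α] [Fintype β] [DecidableEq β] [Fintype γ]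
  [DecidableEq γ] {G : Type*} [Group G] [Finite G] {ι κ l : alternatingGroup α →* G}
  {ψ : Perm β →* G} {X P M L : Subgroup G} {t s u g o : G} {p q σ τ π : Perm α} {k j : ℕ}

namespace Diag

/-- The diagonal action on two copies. -/
def dd (k : ℕ) : Perm (Fin k) →* Perm (Fin k × Bool) :=
  MonoidHom.mk' (fun r => prodCongrLeft fun _ => r) fun _ _ => rfl

theorem dd_apply (r : Perm (Fin k)) (i : Fin k) (b : Bool) : dd k r (i, b) = (r i, b) := rfl

theorem supp_dd (r : Perm (Fin k)) : (dd k r).support = r.support ×ˢ Finset.univ := by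
  ext ⟨i, b⟩
  simp [dd_apply]

section Std

variable {e : Fin k × Bool ↪ α} (h1 : ∀ i b, p (e (i, b)) = e (i, !b))
  (h2 : ∀ x, (∀ z, e z ≠ x) → p x = x)

include h2 in
theorem mv (x : α) (hx : p x ≠ x) : ∃ i b, e (i, b) = x := by
  by_contra hc
  push Not at hc
  exact hx (h2 x fun ⟨i, b⟩ => hc i b)

include h1 in
theorem mv' (i : Fin k) (b : Bool) : p (e (i, b)) ≠ e (i, b) := fun hz => by
  rw [h1] at hz
  simpa using e.injective hz

include h1 h2 in
/-- The action on the transpositions. -/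
theorem pair : ∃ φ : C1 p →* Perm (Fin k), ∀ (σ : C1 p) i b, φ σ i = i →
    (σ : Perm α) (e (i, b)) = e (i, b) ∨ (σ : Perm α) (e (i, b)) = p (e (i, b)) := by
  have h5 : ∀ (σ : C1 p) z, ∃ w, e w = (σ : Perm α) (e z) := fun σ ⟨i, b⟩ => by
    obtain ⟨j, c, h⟩ := mv h2 ((σ : Perm α) (e (i, b))) fun hz =>
      mv' h1 i b ((σ : Perm α).injective ((PmB.app (mem_C1.1 σ.2) _).trans hz))
    exact ⟨_, h⟩
  choose F hF using h5
  have h6 : ∀ (σ : C1 p) i b, (F σ (i, b)).1 = (F σ (i, false)).1 := fun σ i b => by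
    cases b
    · rfl
    · have := hF σ (i, true)
      rw [show e (i, true) = p (e (i, false)) from (h1 i false).symm, PmB.app (mem_C1.1 σ.2), ← hF,
        show F σ (i, false) = ((F σ (i, false)).1, (F σ (i, false)).2) from rfl, h1] at this
      have h7 := congrArg Prod.fst (e.injective this)
      exact h7
  let f : C1 p →* Function.End (Fin k) :=
    { toFun := fun σ i => (F σ (i, false)).1
      map_one' := funext fun i => congrArg Prod.fst (e.injective (hF 1 (i, false)))
      map_mul' := fun a b => funext fun i => by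
        have : F (a * b) (i, false) = F a (F b (i, false)) := e.injective (by rw [hF, hF, hF]; rfl)
        exact (congrArg Prod.fst this).trans (h6 a _ _) }
  refine ⟨f.toHomPerm, fun σ i b hσ => ?_⟩
  have h7 : (F σ (i, b)).1 = i := (h6 σ i b).trans hσ
  rw [← hF, h1, show F σ (i, b) = (i, (F σ (i, b)).2) from Prod.ext h7 rfl]
  generalize (F σ (i, b)).2 = c
  cases b <;> cases c <;> simp

end Std

/-- A non-trivial endomorphism of the alternating group is an automorphism. -/
theorem aut (h5 : 5 ≤ Fintype.card β) (g : alternatingGroup β →* Perm β) :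
    (∀ b, g b = 1) ∨ ∃ θ : MulAut (alternatingGroup β), ∀ b, (θ b : Perm β) = g b := by
  have hs : IsSimpleGroup (alternatingGroup β) :=
    alternatingGroup.isSimpleGroup (by rwa [Nat.card_eq_fintype_card])
  rcases IsSimpleGroup.eq_bot_or_eq_top_of_normal g.ker inferInstance with e | e
  · have h1 := Abelianization.commutator_subset_ker (Perm.sign.comp g)
    rw [commutator_alternatingGroup_eq_top (by rwa [Nat.card_eq_fintype_card])] at h1
    let g' : alternatingGroup β →* alternatingGroup β := g.codRestrict _ fun b => h1 (mem_top b)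
    have hg : Function.Injective g' := fun a b k =>
      (MonoidHom.ker_eq_bot_iff g).1 e (congrArg Subtype.val k)
    exact .inr ⟨MulEquiv.ofBijective g' (Finite.injective_iff_bijective.1 hg), fun _ => rfl⟩
  · exact .inl fun b => (show b ∈ g.ker from e ▸ mem_top b)

theorem three_two {t : Perm β} (ht : t.IsThreeCycle) (u v : β) :
    t u = u ∨ t v = v ∨ t u = v ∨ t v = u ∨ u = v := by
  by_contra hc
  push Not at hc
  obtain ⟨h1, h2, h3, h4, h5⟩ := hc
  obtain ⟨k1, k2, k3, k4⟩ := exists_eq_cyc3_of_mem_support ht (Perm.mem_support.2 h1)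
  by_cases e : v = t (t u)
  · exact h4 (by rw [e]; exact (congrArg (fun r : Perm β => r (t (t u))) k4).trans (cyc3_apply_thd ..))
  · exact h2 ((congrArg (fun r : Perm β => r v) k4).trans (cyc3_apply_of_ne h5.symm h3.symm e))

theorem dt_out {a b c d x : β} (h : SAn.Out a b c d x) : dt a b c d x = x := by
  rw [dt, Perm.mul_apply, swap_apply_of_ne_of_ne h.c h.d, swap_apply_of_ne_of_ne h.a h.b]

/-- Some four-group of double transpositions fixes a point. -/
theorem four (h5 : 5 ≤ k) (g : alternatingGroup (Fin k) →* Perm (Fin k)) :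
    ∃ (b c : alternatingGroup (Fin k)) (i : Fin k), Dt (b : Perm (Fin k)) ∧ Dt (c : Perm (Fin k)) ∧
      Dt (b * c : Perm (Fin k)) ∧ g b i = i ∧ g c i = i := by
  have hk : 5 ≤ Fintype.card (Fin k) := by rwa [Fintype.card_fin]
  obtain ⟨a, b, c, d, h4⟩ := exists_D4 (α := Fin k) (by omega)
  obtain ⟨x, hx⟩ := exists_out hk a b c d
  have key : ∀ i, g ⟨_, h4.mem⟩ i = i → g ⟨_, h4.acb.mem⟩ i = i → _ := fun i k1 k2 =>
    (⟨⟨_, h4.mem⟩, ⟨_, h4.acb.mem⟩, i, ⟨_, _, _, _, h4, rfl⟩, ⟨_, _, _, _, h4.acb, rfl⟩,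
      ⟨_, _, _, _, h4.abdc.acb, h4.dt_mul⟩, k1, k2⟩ : ∃ (b c : alternatingGroup (Fin k)) (i : Fin k),
        Dt (b : Perm (Fin k)) ∧ Dt (c : Perm (Fin k)) ∧ Dt (b * c : Perm (Fin k)) ∧ g b i = i ∧ g c i = i)
  obtain h | ⟨θ, hθ⟩ := aut hk g
  · exact key x (by rw [h]; rfl) (by rw [h]; rfl)
  obtain ⟨σ, hσ⟩ | ⟨rfl, h⟩ : (∃ σ : Perm (Fin k), ∀ g : alternatingGroup (Fin k),
      (θ g : Perm (Fin k)) = σ * g * σ⁻¹) ∨ (k = 6 ∧ ∀ g : alternatingGroup (Fin k),
        (g : Perm (Fin k)).cycleType = {3, 3} → (θ g : Perm (Fin k)).IsThreeCycle) := by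
    by_cases h6 : k = 6
    · exact (isThreeCycle_map_or_of_card_eq_six (by rw [Fintype.card_fin, h6]) θ).imp
        (exists_conj_of_isThreeCycle (by omega) θ) fun h => ⟨h6, h.2⟩
    · exact .inl (exists_conj_of_aut_alternating (by omega) (by rwa [Fintype.card_fin]) θ)
  · refine key (σ x) ?_ ?_
    · rw [← hθ, hσ, Perm.mul_apply, Perm.mul_apply, PmB.inv_app, dt_out hx]
    · rw [← hθ, hσ, Perm.mul_apply, Perm.mul_apply, PmB.inv_app, dt_out ⟨hx.a, hx.c, hx.b, hx.d⟩]
  · let ρ : alternatingGroup (Fin 6) := ⟨cyc3 0 2 4 * cyc3 1 3 5,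
      mul_mem (cyc3_mem_alternatingGroup (by decide) (by decide))
        (cyc3_mem_alternatingGroup (by decide) (by decide))⟩
    let ε : alternatingGroup (Fin 6) := ⟨dt 0 1 2 3, dt_mem (by decide) (by decide)⟩
    have h3 := h ρ (by
      change (cyc3 0 2 4 * cyc3 1 3 5 : Perm (Fin 6)).cycleType = _
      rw [Perm.Disjoint.cycleType_mul (by unfold Perm.Disjoint; decide),
        (isThreeCycle_cyc3 (by decide) (by decide) (by decide)).cycleType,
        (isThreeCycle_cyc3 (by decide) (by decide) (by decide)).cycleType]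
      rfl)
    have e2 : ε * ε = 1 := Subtype.ext (by decide)
    have e1 : ε ≠ 1 := fun e => absurd (congrArg Subtype.val e) (by decide)
    obtain ⟨a, b, c, d, h4, he⟩ := dt_of_iv (by simp) (θ ε).2 ⟨by
      rw [← Subgroup.coe_mul, ← map_mul, e2, map_one]; rfl, fun e =>
        e1 (θ.map_eq_one_iff.1 (Subtype.ext e))⟩
    obtain ⟨u, v, hu, hv, huv⟩ := exists_out2 (α := Fin 6) (by simp) a b c d
    rw [hθ] at h3 he
    have ku := he ▸ dt_out hu
    have kv := he ▸ dt_out hv
    have key' : ∀ u, g ε u = u → g ε (g ρ u) = g ρ u → _ := fun u k1 k2 =>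
      (⟨ε, ρ * ε * ρ⁻¹, g ρ u, ⟨0, 1, 2, 3, by constructor <;> decide, rfl⟩,
        ⟨2, 3, 4, 5, by constructor <;> decide, by decide⟩,
        ⟨0, 1, 4, 5, by constructor <;> decide, by decide⟩, k2, by
          rw [map_mul, map_mul, map_inv, Perm.mul_apply, Perm.mul_apply, PmB.inv_app, k1]⟩ :
        ∃ (b c : alternatingGroup (Fin 6)) (i : Fin 6), Dt (b : Perm (Fin 6)) ∧ Dt (c : Perm (Fin 6)) ∧
          Dt (b * c : Perm (Fin 6)) ∧ g b i = i ∧ g c i = i)
    rcases three_two h3 u v with k | k | k | k | k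
    · exact key' u ku (by rw [k, ku])
    · exact key' v kv (by rw [k, kv])
    · exact key' u ku (by rw [k, kv])
    · exact key' v kv (by rw [k, ku])
    · exact absurd k huv

end Diag

open Diag

theorem exists_diag (h : Tp τ k) : ∃ δ : Perm (Fin k) →* Perm α, Function.Injective δ ∧
    (∀ r, δ r ∈ alternatingGroup α ∧ δ r * τ = τ * δ r ∧ ∀ x, τ x = x → δ r x = x) ∧
    (∀ r, Dt r → Tp (δ r) 4 ∧ Tp (τ * δ r) k) ∧
    (Even k → 4 ≤ k → τ ∈ ⁅(alternatingGroup (Fin k)).map δ, C1 τ ⊓ alternatingGroup α⁆) := by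
  classical
  obtain ⟨e, h1, h2⟩ := h.std
  let δ : Perm (Fin k) →* Perm α := (Perm.viaEmbeddingHom e).comp (dd k)
  have d1 : ∀ r i b, δ r (e (i, b)) = e (r i, b) := fun r i b => Perm.viaEmbedding_apply _ _ _
  have d2 : ∀ r x, τ x = x → δ r x = x := fun r x hx =>
    Perm.viaEmbedding_apply_of_notMem _ _ _ fun ⟨⟨i, b⟩, k⟩ => mv' h1 i b (k ▸ hx)
  have d3 : ∀ r, δ r * τ = τ * δ r := fun r => Perm.ext fun x => by
    rw [Perm.mul_apply, Perm.mul_apply]
    by_cases hx : τ x = x
    · rw [hx, d2 r x hx, hx]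
    · obtain ⟨i, b, rfl⟩ := mv h2 x hx
      rw [h1, d1, d1, h1]
  have d4 : ∀ r, δ r ∈ alternatingGroup α := fun r => by
    rw [Perm.mem_alternatingGroup]
    change Perm.sign (Perm.viaEmbedding (prodCongrLeft fun _ => r) e) = 1
    rw [Perm.viaEmbedding, Perm.sign_extendDomain, Perm.sign_prodCongrLeft]
    simp
  refine ⟨δ, (injective_iff_map_eq_one δ).2 fun r k => Perm.ext fun i => ?_,
    fun r => ⟨d4 r, d3 r, d2 r⟩, fun r hr => ?_, fun he h4 => ?_⟩
  · have := d1 r i false
    rw [k] at this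
    exact (congrArg Prod.fst (e.injective this)).symm
  · have r2 : δ r * δ r = 1 := by rw [← map_mul, hr.iv.1, map_one]
    refine ⟨⟨r2, ?_⟩, by rw [mul_assoc, ← mul_assoc (δ r), d3, mul_assoc, r2, mul_one, h.1], ?_⟩
    · change (Perm.viaEmbedding (dd k r) e).support.card = _
      rw [Perm.viaEmbedding, @Perm.card_support_extend_domain _ _ _ _ _ _ _ (_), supp_dd,
        Finset.card_product, (tp_two.2 hr).2]
      rfl
    · rw [← h.2]
      congr 1
      ext x
      rw [Perm.mem_support, Perm.mem_support, Perm.mul_apply]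
      by_cases hx : τ x = x
      · rw [d2 r x hx]
      · obtain ⟨i, b, rfl⟩ := mv h2 x hx
        rw [d1, h1]
        exact iff_of_true (fun k => by simpa using congrArg Prod.snd (e.injective k)) (h1 i b ▸ hx)
  · refine Pm.gen h.1 (fun x y d => ?_) _ τ (h.even_iff.2 he) le_rfl fun _ => .inr rfl
    obtain ⟨i, b, rfl⟩ := mv h2 x d.ab.symm
    obtain ⟨j, c, rfl⟩ := mv h2 y d.cd.symm
    have ij : i ≠ j := by
      rintro rfl
      have k1 := d.ac
      have k2 := d.bc
      rw [h1] at k2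
      cases b <;> cases c <;> simp at k1 k2
    obtain ⟨m, hm⟩ := P0.ex_list [i, j] (by rw [Fintype.card_fin]; simp; omega)
    obtain ⟨n, hn⟩ := P0.ex_list [i, j, m] (by rw [Fintype.card_fin]; simp; omega)
    simp only [List.mem_cons, List.not_mem_nil, or_false, not_or] at hm hn
    have sw : ∀ i b c, swap (e (i, b)) (τ (e (i, b))) = swap (e (i, c)) (τ (e (i, c))) := fun i b c => by
      rw [h1, h1]
      cases b <;> cases c <;> first | rfl | exact swap_comm _ _
    have k : dt (e (i, b)) (τ (e (i, b))) (e (j, c)) (τ (e (j, c))) =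
        ⁅δ (cyc3 j i m), dt (e (j, c)) (τ (e (j, c))) (e (n, c)) (τ (e (n, c)))⁆ := by
      rw [commutatorElement_def, dt_conj, PmB.app (d3 _), PmB.app (d3 _), d1, d1,
        cyc3_apply_fst ij.symm (Ne.symm hm.2), cyc3_apply_of_ne hn.2.1 hn.1 hn.2.2, dt, dt, dt,
        mul_inv_rev, swap_inv, swap_inv, sw i b c, mul_assoc, swap_mul_self_mul]
    rw [k]
    exact commutator_mem_commutator (mem_map_of_mem δ (cyc3_mem_alternatingGroup ij.symm (Ne.symm hm.1)))
      (mem_inf.2 ⟨mul_mem (mem_C1.2 (Pm.swap_comm' h.1 _)) (mem_C1.2 (Pm.swap_comm' h.1 _)),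
        dt_mem (mv' h1 j c).symm (mv' h1 n c).symm⟩)

/-- Not all double transpositions are fixed-point-free on the support. -/
theorem not_all_free (h : Tp p k) (h5 : 5 ≤ k) (f : alternatingGroup (Fin k) →* Perm α)
    (hc : ∀ b, f b * p = p * f b) (hf : ∀ b : alternatingGroup (Fin k), Dt (b : Perm (Fin k)) →
      ∀ x, p x ≠ x → f b x ≠ x) : False := by
  obtain ⟨e, h1, h2⟩ := h.std
  obtain ⟨φ, hφ⟩ := pair h1 h2
  obtain ⟨b, c, i, hb, hc', hbc, k1, k2⟩ := four h5 (φ.comp (f.codRestrict _ fun b => mem_C1.2 (hc b)))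
  have m := mv' h1 i false
  have e1 : f b (e (i, false)) = p (e (i, false)) := (hφ _ i false k1).resolve_left (hf b hb _ m)
  have e2 : f c (e (i, false)) = p (e (i, false)) := (hφ _ i false k2).resolve_left (hf c hc' _ m)
  exact hf (b * c) hbc _ m (by rw [map_mul, Perm.mul_apply, e2, PmB.app (hc b), e1, Pm.pp h.1])

/-- An alternating group acting on the transpositions of `p` has small centralizer. -/
theorem triv_of_cent (h : Tp p k) (h5 : 5 ≤ k) (f : alternatingGroup (Fin k) →* Perm α)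
    (hc : ∀ b, f b * p = p * f b) (hf : ∃ b x, p x ≠ x ∧ f b x ≠ x) (h1 : σ * p = p * σ)
    (h2 : ∀ b, σ * f b = f b * σ) (ho : Odd (orderOf σ)) : ∀ x, p x ≠ x → σ x = x := by
  obtain ⟨e, e1, e2⟩ := h.std
  obtain ⟨φ, hφ⟩ := pair e1 e2
  have sq : ∀ ρ : C1 p, φ ρ = 1 → ∀ x, p x ≠ x → ((ρ : Perm α) ^ 2) x = x := fun ρ k x hx => by
    obtain ⟨i, b, rfl⟩ := mv e2 x hx
    rw [pow_two, Perm.mul_apply]
    rcases hφ ρ i b (by rw [k]; rfl) with k' | k'
    · rw [k', k']
    · rw [k', PmB.app (mem_C1.1 ρ.2), k', Pm.pp h.1]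
  obtain k0 | ⟨θ, hθ⟩ := aut (by rwa [Fintype.card_fin])
    (φ.comp (f.codRestrict _ fun b => mem_C1.2 (hc b)))
  · obtain ⟨b, x, hx, hb⟩ := hf
    have : closure {g : alternatingGroup (Fin k) | (g : Perm (Fin k)).IsThreeCycle} ≤
        (MulAction.stabilizer (Perm α) x).comap f := (closure_le _).2 fun c hc' => by
      have c3 : c ^ 3 = 1 := Subtype.ext (by
        rw [Subgroup.coe_pow, ← hc'.orderOf]; exact pow_orderOf_eq_one _)
      have := sq _ (k0 (c ^ 2)) x hx
      change (f (c ^ 2) ^ 2) x = x at this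
      rwa [← map_pow, ← pow_mul, pow_succ, c3, one_mul] at this
    rw [alternatingGroup.closure_isThreeCycles_eq_top] at this
    exact absurd (this (mem_top b)) hb
  · intro x hx
    have k := sq ⟨σ, mem_C1.2 h1⟩ (eq_one_of_commute_alternatingGroup (by rw [Fintype.card_fin]; omega)
      fun r hr => by
        obtain ⟨b, hb⟩ := θ.surjective ⟨r, hr⟩
        rw [show r = _ from (congrArg Subtype.val hb).symm.trans (hθ b), MonoidHom.comp_apply,
          ← map_mul, ← map_mul]
        exact congrArg φ (Subtype.ext (h2 b).symm)) x hx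
    obtain ⟨m, hm⟩ := ho
    have := congrArg (fun r : Perm α => r x) (pow_orderOf_eq_one σ)
    simp only [hm, pow_succ', pow_mul, Perm.mul_apply, Perm.one_apply] at this
    rwa [Perm.pow_apply_eq_self_of_apply_eq_self (by simpa [pow_two] using k)] at this

end Cfsg.Agent.SAc
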