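import Mathlib
import Cfsg.Agent.SAc.Small
import Cfsg.Agent.SAc.SetA
import Cfsg.Agent.SAn.PermA

/-! Types two and four are symmetric. See `stubs/Cfsg/Agent/SAc/PLAN.md`. -/

set_option autoImplicit false
set_option linter.unusedSectionVars false

namespace Cfsg.Agent.SAc

open Cfsg Cfsg.Agent.GT Cfsg.Agent.Loc.Mss Cfsg.Agent.Sym Cfsg.Agent.Loc.SO Cfsg.Agent.SAn Subgroup Equiv
open Cfsg.Agent.StdB (C1 mem_C1)
open scoped commutatorElement

variable {α β γ : Type} [Fintype α] [DecidableEq α] [Fintype β] [DecidableEq β] [Fintype γ]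
  [DecidableEq γ] {G : Type*} [Group G] [Finite G] {ι κ l : alternatingGroup α →* G}
  {ψ : Perm β →* G} {X P M L : Subgroup G} {t s u g o : G} {p q σ τ π : Perm α} {k j : ℕ}

namespace Typ

theorem odd_fx {a b c d : α} (h : D4 a b c d) (hc : σ * dt a b c d = dt a b c d * σ)
    (ho : Odd (orderOf σ)) : Fx a b c d σ := by
  obtain ⟨ν, hν⟩ := P0.exists_res' h (h.map_of_comm hc)
  have h1 := P0.res_comm h hν (μ := dt 0 1 2 3) (by rw [P0.Φ1]; exact hc)
  have h2 : ∀ ν : Perm (Fin 4), ν * dt 0 1 2 3 = dt 0 1 2 3 * ν → ν ^ 4 = 1 := by decide +kernel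
  have h3 : ∀ n i, (σ ^ n) (P0.e h i) = P0.e h ((ν ^ n) i) := by
    intro n
    induction n with
    | zero => exact fun _ => rfl
    | succ n ih => intro i; rw [pow_succ, pow_succ, Perm.mul_apply, Perm.mul_apply, hν, ih]
  have h4 : ν ^ orderOf σ = 1 := by
    ext i
    have := h3 (orderOf σ) i
    rw [pow_orderOf_eq_one] at this
    exact congrArg Fin.val ((P0.e h).injective this).symm
  have h5 : ν = 1 := by
    have := pow_gcd_eq_one.2 ⟨h4, h2 ν h1⟩
    rwa [show Nat.gcd (orderOf σ) 4 = 1 from (Nat.coprime_two_right.2 ho).pow_right 2, pow_one] at this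
  rw [h5] at hν
  exact ⟨hν 0, hν 1, hν 2, hν 3⟩

theorem odd_of_three (h : σ ^ 3 = 1) : Odd (orderOf σ) := by
  rcases (Nat.dvd_prime Nat.prime_three).1 (orderOf_dvd_of_pow_eq_one h) with e | e <;> rw [e] <;> decide

theorem even_of_three (h : σ ^ 3 = 1) : σ ∈ alternatingGroup α := by
  rw [Perm.mem_alternatingGroup]
  have := congrArg Perm.sign h
  rw [map_pow, map_one] at this
  rcases Int.units_eq_one_or (Perm.sign σ) with e | e
  · exact e
  · rw [e] at this; exact absurd this (by decide)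

/-- the standard involution -/
def τ0 : Perm (Fin 4 × Bool) := (Equiv.refl _).prodCongr boolNot
/-- the first element of order three -/
def x0 : Perm (Fin 4 × Bool) := cyc3 (1, false) (2, false) (3, false) * cyc3 (1, true) (2, true) (3, true)
/-- the second element of order three -/
def y0 : Perm (Fin 4 × Bool) := cyc3 (0, false) (1, false) (3, true) * cyc3 (0, true) (1, true) (3, false)
/-- the third element of order three -/
def z0 : Perm (Fin 4 × Bool) := cyc3 (0, false) (3, false) (2, true) * cyc3 (0, true) (3, true) (2, false)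

/-- an involution with four transpositions is a product of elements of order three of its centralizer -/
theorem three (h : Tp τ 4) : ∃ x y z : Perm α, τ = x * y * z ∧
    ∀ w, w = x ∨ w = y ∨ w = z → w ^ 3 = 1 ∧ τ * w = w * τ := by
  obtain ⟨e, h1, h2⟩ := h.std
  have hτ : τ = Perm.viaEmbeddingHom e τ0 := by
    ext x
    rw [Perm.viaEmbeddingHom_apply]
    by_cases hx : x ∈ Set.range e
    · obtain ⟨⟨i, b⟩, rfl⟩ := hx
      rw [Perm.viaEmbedding_apply, h1]; rfl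
    · rw [Perm.viaEmbedding_apply_of_notMem _ _ _ hx, h2 x fun z hz => hx ⟨z, hz⟩]
  have k : ∀ w0 : Perm (Fin 4 × Bool), w0 * w0 * w0 = 1 ∧ τ0 * w0 = w0 * τ0 →
      Perm.viaEmbeddingHom e w0 ^ 3 = 1 ∧ τ * Perm.viaEmbeddingHom e w0 = Perm.viaEmbeddingHom e w0 * τ :=
    fun w0 hw => ⟨by rw [← map_pow, pow_three', hw.1, map_one], by rw [hτ, ← map_mul, ← map_mul, hw.2]⟩
  refine ⟨Perm.viaEmbeddingHom e x0, Perm.viaEmbeddingHom e y0, Perm.viaEmbeddingHom e z0, ?_, fun w hw => ?_⟩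
  · rw [← map_mul, ← map_mul, hτ, show x0 * y0 * z0 = τ0 by decide +kernel]
  · rcases hw with rfl | rfl | rfl
    exacts [k x0 (by decide +kernel), k y0 (by decide +kernel), k z0 (by decide +kernel)]

theorem four (h : Cf ι t) : 4 ≤ Fintype.card α := le_trans (by norm_num) h.eight

/-- the action of `t` on the other component is an even involution -/
theorem base (h : Cf ι t) (hp : Tp p k) (hk : Even k) (h0 : k ≠ 0) (h' : Cf κ (t * ev ι p))
    (hs : IsConj t (t * ev ι p)) (ha : Act κ t τ) :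
    p ∈ alternatingGroup α ∧ p ≠ 1 ∧ τ ∈ alternatingGroup α ∧ ev κ τ = ev ι p ∧
      ∃ j, Tp τ j ∧ Even j ∧ 2 ≤ j := by
  have h1 := hp.even_iff.2 hk
  have h2 : p ≠ 1 := fun e => h0 (hp.unique (tp_zero.2 e))
  obtain ⟨h3, h4⟩ := h.even_pair h1 h' hs ha
  obtain ⟨j, hj⟩ := tp_exists (p := τ) (by
    rw [← pow_two]; exact ha.pow_eq_one h'.inj (four h) (by rw [pow_two, h.iv.1]))
  have h5 := hj.even_iff.1 h3
  have h6 : j ≠ 0 := fun e => h2 (ev_eq_one h.inj h1 (by rw [← h4, (tp_zero (p := τ)).1 (e ▸ hj), ev_one]))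
  exact ⟨h1, h2, h3, h4, j, hj, h5, by obtain ⟨m, rfl⟩ := h5; omega⟩

theorem comm_s (h : Cf ι t) (hp : p ∈ alternatingGroup α) (hq : q ∈ alternatingGroup α) (e : q * p = p * q) :
    ev ι q * (t * ev ι p) = t * ev ι p * ev ι q := by
  rw [← mul_assoc, h.cw.comm_ev, mul_assoc, mul_assoc, ← ev_mul hq hp, ← ev_mul hp hq, e]

end Typ

open Typ

theorem Cf.typ2 (h : Cf ι t) (hp : Tp p 2) (h' : Cf κ (t * ev ι p)) (hs : IsConj t (t * ev ι p))
    (ha : Act κ t τ) : Tp τ 2 := by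
  obtain ⟨h1, -, h3, h4, j, hj, hje, hj2⟩ := base h hp even_two two_ne_zero h' hs ha
  have hle := hj.le
  have h8 := h.eight
  by_cases h9 : 9 ≤ Fintype.card α
  · let f0 : alternatingGroup {x // p x = x} →* alternatingGroup α :=
      ((Perm.ofSubtype (p := fun x => p x = x)).comp (alternatingGroup _).subtype).codRestrict _
        fun b => ofSubtype_mem b.2
    have hc := hp.card_fix
    have hf : ∀ b, ι (f0 b) = ev ι (f0 b) := fun b => (ev_coe _).symm
    obtain ⟨f', i1, i2⟩ := h'.cw.faithful (γ := {x // p x = x}) (by omega) (ι.comp f0)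
      (h.inj.comp fun a b e => Subtype.ext (Perm.ofSubtype_injective (congrArg Subtype.val e))) fun b => by
        rw [MonoidHom.comp_apply, hf]
        refine comm_s h h1 (f0 b).2 (Perm.Disjoint.commute fun x => ?_)
        by_cases e : p x = x
        · exact .inr e
        · exact .inl (Perm.ofSubtype_apply_of_not_mem (p := fun x => p x = x) b.1 e)
    have := alt_cent (by omega) f' i1 hj fun b => (i2 b).comm h'.inj (four h) ha (by
      rw [MonoidHom.comp_apply, hf, h.cw.comm_ev])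
    rwa [show j = 2 by omega] at hj
  by_cases e : j = 2
  · rwa [e] at hj
  exfalso
  obtain rfl : j = 4 := by obtain ⟨m, rfl⟩ := hje; omega
  obtain ⟨a, b, c, d, h5, rfl⟩ := tp_two.1 hp
  obtain ⟨x, y, z, e1, e2⟩ := three hj
  have k : ∀ w, w = x ∨ w = y ∨ w = z → w ∈ alternatingGroup α ∧ ∃ σ, Act ι (ev κ w) σ ∧ σ a = a := by
    intro w hw
    obtain ⟨w3, wc⟩ := e2 w hw
    have we := even_of_three w3
    obtain ⟨σ, hσ⟩ := h.reg (ev κ w) ((ha.comm_iff h'.inj we).2 wc).symm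
    refine ⟨we, σ, hσ, (odd_fx h5 ((hσ.comm_iff h.inj h1).1 ?_) (odd_of_three ?_)).a⟩
    · rw [← h4, ← ev_mul we h3, ← ev_mul h3 we, wc]
    · exact hσ.pow_eq_one h.inj (four h) (by rw [← ev_pow we, w3, ev_one])
  obtain ⟨x1, σ1, a1, b1⟩ := k x (.inl rfl)
  obtain ⟨x2, σ2, a2, b2⟩ := k y (.inr (.inl rfl))
  obtain ⟨x3, σ3, a3, b3⟩ := k z (.inr (.inr rfl))
  have h6 := (a1.mul a2).mul a3
  rw [← ev_mul x1 x2, ← ev_mul (mul_mem x1 x2) x3, ← e1, h4] at h6
  have h7 := congrArg (· a) (h.cw.uniq h6 (act_ev h1))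
  simp only [Perm.mul_apply, b1, b2, b3, PA.dt1 h5] at h7
  exact h5.ab h7

theorem Cf.typ4 (h : Cf ι t) (hp : Tp p 4) (h' : Cf κ (t * ev ι p)) (hs : IsConj t (t * ev ι p))
    (ha : Act κ t τ) : Tp τ 4 := by
  obtain ⟨h1, h2, h3, h4, j, hj, hje, hj2⟩ := base h hp (by decide) (by decide) h' hs ha
  have e : t * ev ι p * ev κ τ = t := by rw [h4, mul_assoc, ← ev_mul h1 h1, hp.1, ev_one, mul_one]
  have k2 : j ≠ 2 := by
    rintro rfl
    have := h'.typ2 hj (κ := ι) (τ := p) (by rw [e]; exact h) (by rw [e]; exact hs.symm)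
      (by simpa using h.cen.mul (act_ev h1))
    exact absurd (hp.unique this) (by decide)
  have k5 : ¬ 5 ≤ j := fun h5 => by have := h.type_le h1 hp h2 h' hs ha hj h5; omega
  rwa [show j = 4 by obtain ⟨m, rfl⟩ := hje; omega] at hj

theorem Cf.a12 (h : Cf ι t) (h2 : Sg ι t 2) : A1 ι t ∨ A2 ι t := by
  obtain ⟨p, hp, -, h1, hs⟩ := h2
  obtain ⟨κ, h'⟩ := h.emb hs
  obtain ⟨τ, ha⟩ := h'.reg t (by rw [← h.cw.comm_ev, ← mul_assoc, ← h.cw.comm_ev])
  obtain ⟨a', b', c', d', h4', rfl⟩ := tp_two.1 (h.typ2 h1 h' hs ha)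
  obtain ⟨a, b, c, d, h4, rfl⟩ := tp_two.1 h1
  have hv := h4.acb.mem
  have vs := comm_s h hp hv h4.dt_comm.symm
  have vv : ev ι (dt a c b d) * ev ι (dt a c b d) = 1 := by rw [← ev_mul hv hv, h4.acb.iv.1, ev_one]
  have vt := h.cw.comm_ev (dt a c b d)
  obtain ⟨ν, hν⟩ := h'.reg _ vs
  have n2 : ν * ν = 1 := by rw [← pow_two]; exact hν.pow_eq_one h'.inj (four h) (by rw [pow_two, vv])
  have nc := hν.comm h'.inj (four h) ha vt
  have ns := h.conj_not_mem hs
  have n1 : ν ≠ 1 := by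
    rintro rfl
    rcases h'.cw.ker2 _ vs hν vv with e | e
    · exact h4.acb.iv.2 (ev_eq_one h.inj hv e)
    · exact ns (e ▸ ev_mem _)
  have n3 : ν ≠ dt a' b' c' d' := by
    rintro rfl
    have h5 := ha.mul hν
    rw [h4'.iv.1] at h5
    rcases h'.cw.ker2 _ (by
        rw [mul_assoc, vs, mul_assoc t (ev ι (dt a b c d)), mul_assoc t (ev ι (dt a b c d)),
          ← mul_assoc (ev ι (dt a b c d)), h.cw.comm_ev (dt a b c d), mul_assoc]) h5
      (by rw [mul_assoc, ← mul_assoc (ev ι _), vt, mul_assoc, vv, mul_one, h.iv.1]) with e | e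
    · exact h.cw.not_mem (by rw [eq_inv_of_mul_eq_one_left e]; exact inv_mem (ev_mem _))
    · exact h4.dt_ne (ev_inj h.inj hp hv (mul_left_cancel e).symm)
  have fx : ∀ q ∈ altOn ({a, b, c, d} : Finset α)ᶜ, q ∈ alternatingGroup α ∧ Fx a b c d q := fun q hq =>
    have := mem_altOn.1 hq
    ⟨this.1, this.2 a (by simp), this.2 b (by simp), this.2 c (by simp), this.2 d (by simp)⟩
  have ho : ∀ x ∉ ({a', b', c', d'} : Finset α), ν x = x := fun x hx =>
    h.cw.rest h'.cw h4 h4' (fun q _ e => ns (e ▸ ev_mem _))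
      (fun q hq => comm_s h hp (fx q hq).1 (h4.comm_of_fx (fx q hq).2 (h4.V4_le (PA.mem1 a b c d))))
      (fun q _ σ hσ o => odd_fx h4' (hσ.comm h'.inj (four h) ha (h.cw.comm_ev q)) o)
      (fun q hq => by
        rw [← ev_mul (fx q hq).1 hv, ← ev_mul hv (fx q hq).1,
          h4.comm_of_fx (fx q hq).2 (h4.V4_le (PA.mem2 a b c d))])
      hν (P0.out_iff.2 hx)
  obtain ⟨μ, rfl⟩ := P0.exists_Φ h4' ho
  have key : ∀ μ : Perm (Fin 4), μ * μ = 1 → μ * dt 0 1 2 3 = dt 0 1 2 3 * μ → μ = 1 ∨ μ = dt 0 1 2 3 ∨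
      μ = swap 0 1 ∨ μ = swap 2 3 ∨ μ = dt 0 2 1 3 ∨ μ = dt 0 3 1 2 := by decide +kernel
  rcases key μ (P0.Φ_inj h4' (by rw [map_mul, n2, map_one]))
    (P0.Φ_inj h4' (by rw [map_mul, map_mul, P0.Φ1, nc])) with rfl | rfl | rfl | rfl | rfl | rfl
  · exact absurd (map_one _) n1
  · exact absurd (P0.Φ1 h4') n3
  · rw [P0.Φ_swap] at hν
    exact .inr ⟨a, b, c, d, h4, hs, κ, h', a', b', c', d', h4', ha, hν⟩
  · rw [P0.Φ_swap] at hν
    exact .inr ⟨a, b, c, d, h4, hs, κ, h', c', d', a', b', h4'.cdab, by rwa [h4'.dt_cdab], hν⟩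
  · rw [P0.Φ_dt] at hν
    exact .inl ⟨a, b, c, d, h4, hs, κ, h', a', b', c', d', h4', ha, hν⟩
  · rw [P0.Φ_dt] at hν
    exact .inl ⟨a, b, c, d, h4, hs, κ, h', a', b', d', c', h4'.abdc, by rwa [dt_abdc], hν⟩

/-- A pair of the same type in both directions is interchanged. -/
theorem Cf.exists_swap (h : Cf ι t) (hp : p ∈ alternatingGroup α) (hk : Tp p k)
    (h' : Cf κ (t * ev ι p)) (hs : IsConj t (t * ev ι p)) (ha : Act κ t τ) (hτ : Tp τ k) :
    ∃ f, E2 f ∧ f * t * f⁻¹ = t * ev ι p ∧ f * (t * ev ι p) * f⁻¹ = t := by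
  obtain ⟨g, hg⟩ := isConj_iff.1 hs
  have h1 := h'.toC g⁻¹
  rw [← hg, show g⁻¹ * (g * t * g⁻¹) * g⁻¹⁻¹ = t by group] at h1
  have hc : t * (t * ev ι p) = t * ev ι p * t := by rw [mul_assoc, h.cw.comm_ev]
  have h2 : g⁻¹ * t * g⁻¹⁻¹ * t = t * (g⁻¹ * t * g⁻¹⁻¹) := by
    rw [← hg] at hc
    calc _ = g⁻¹ * (t * (g * t * g⁻¹)) * g := by group
      _ = _ := by rw [hc]; group
  obtain ⟨σ, hσ⟩ := h.reg _ h2
  have h3 := h1.cw.tp h.cw rfl (ha.toC g⁻¹) hσ hτ
  have h4 := h3.even_iff.2 (hk.even_iff.1 hp)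
  have h5 := h.eq_of_even (isConj_iff.2 ⟨g⁻¹, rfl⟩) h2 hσ h4
  obtain ⟨π, hπ, e⟩ := hk.alt_conj h3
  have e1 : g * ev ι π * t * (g * ev ι π)⁻¹ = t * ev ι p := by
    rw [← hg, mul_assoc g, h.cw.comm_ev]; group
  have e2 : g * ev ι π * (t * ev ι p) * (g * ev ι π)⁻¹ = t := by
    calc _ = g * (ev ι π * t * ev ι p * (ev ι π)⁻¹) * g⁻¹ := by group
      _ = g * (t * ev ι σ) * g⁻¹ := by rw [h.cw.comm_ev, ← e, ev_conj hπ hp]; group
      _ = t := by rw [← h5]; group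
  generalize g * ev ι π = f at e1 e2
  generalize t * ev ι p = s at e1 e2
  obtain ⟨m, ⟨i, rfl⟩, hm⟩ := Bas.exists_odd_pow f
  refine ⟨_, hm, ?_⟩
  clear hm
  induction i with
  | zero => simpa using ⟨e1, e2⟩
  | succ i ih =>
    have k : ∀ y, f ^ (2 * (i + 1) + 1) * y * (f ^ (2 * (i + 1) + 1))⁻¹ =
        f ^ (2 * i + 1) * (f * (f * y * f⁻¹) * f⁻¹) * (f ^ (2 * i + 1))⁻¹ := fun y => by group
    rw [k, k, e1, e2, e1]
    exact ih

end Cfsg.Agent.SAc
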