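import Mathlib
import Cfsg.Agent.SAc.ADefs
import Cfsg.Agent.SLm.Defs

/-!
# S3124, case `A1`, the group `L₄(4)`: definitions

See `stubs/Cfsg/Agent/SAc/PLAN4.md`.
-/

set_option autoImplicit false

namespace Cfsg.Agent.SAc

open Cfsg Cfsg.Agent.GT Cfsg.Agent.Loc.Mss Cfsg.Agent.SAn Subgroup Equiv
open Cfsg.Agent.StdB (C1 mem_C1)

universe u

variable {α : Type} [Fintype α] [DecidableEq α] {G : Type u} [Group G]

/-- A splitting of an involution with four transpositions. -/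
structure Sp (E p q : Perm α) : Prop where
  dp : Dt p
  dq : Dt q
  dj : p.Disjoint q
  eq : E = p * q

open Classical in
/-- The element attached to an involution with four transpositions. -/
noncomputable def Gm (Z : Perm α → G) (E : Perm α) : G :=
  if h : ∃ r : Perm α × Perm α, Sp E r.1 r.2 then Z h.choose.1 * Z h.choose.2 else 1

/-- The root elements of `A₈ ≅ L₄(2)`. -/
def rt : Fin 4 → Fin 4 → Perm (Fin 8) :=
  ![![1, dt 0 4 1 6 * dt 2 5 3 7, dt 0 1 2 3 * dt 4 6 5 7, dt 0 2 1 3 * dt 4 5 6 7],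
    ![dt 0 5 1 4 * dt 2 6 3 7, 1, dt 0 2 1 3 * dt 4 7 5 6, dt 0 3 1 2 * dt 4 6 5 7],
    ![dt 0 7 1 2 * dt 3 5 4 6, dt 0 2 1 7 * dt 3 6 4 5, 1, dt 0 5 1 6 * dt 2 4 3 7],
    ![dt 0 2 1 7 * dt 3 4 5 6, dt 0 1 2 7 * dt 3 5 4 6, dt 0 6 1 4 * dt 2 5 3 7, 1]]

/-- The root elements of `L₄(4)`. -/
noncomputable def yr (ι : alternatingGroup (Fin 8) →* G) (Z : Perm (Fin 8) → G) (i j : Fin 4)
    (k : SLm.Kq (1 : ZMod 2)) : G :=
  if i = j then 1 else ev ι (rt i j) ^ k.re.val * Gm Z (rt i j) ^ k.im.val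

/-- `t` is a field automorphism of a subgroup `L₄(4)` or `SL₄(4)` containing `A`. -/
structure L4 (ι : alternatingGroup α →* G) (t : G) (K : Type) [Field K] where
  f : SLm.Fr G 3 K
  σ : RingAut K
  η : K
  σ2 : σ * σ = 1
  hη : η + σ η = 1
  card : Nat.card K = 4
  fd : f.Fd t σ
  C_le : C1 t ≤ 𝐍[f.L]
  A_le : ι.range ≤ f.L
  le : ∀ X : Subgroup G, X.Normal → ι.range ≤ X → f.L ≤ X
  tA : ∀ a ∈ ι.range, a * a = 1 → IsConj t (a * t)

end Cfsg.Agent.SAc
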