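import Mathlib
import Cfsg.Agent.SAc.LDefs
import Cfsg.Agent.SAc.AU

/-! The elements `Gm Z E`. See `stubs/Cfsg/Agent/SAc/PLAN4.md`. -/

set_option autoImplicit false
set_option linter.unusedSectionVars false

namespace Cfsg.Agent.SAc

open Cfsg Cfsg.Agent.GT Cfsg.Agent.Loc.Mss Cfsg.Agent.Sym Cfsg.Agent.Loc.SO Cfsg.Agent.SAn Subgroup Equiv
open Cfsg.Agent.StdB (C1 mem_C1)
open scoped commutatorElement

universe u

variable {α : Type} [Fintype α] [DecidableEq α] {G : Type u} [Group G] [Finite G]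
  {ι : alternatingGroup α →* G} {ι8 : alternatingGroup (Fin 8) →* G} {X : Subgroup G} {t g v : G}
  {Z : Perm α → G} {Z8 : Perm (Fin 8) → G} {E p q r : Perm α}
  {K : Type} [Field K] [CharP K 2] [Finite K]

namespace LG

theorem da {a b c d : α} (h : D4 a b c d) : dt a b c d a = b := by
  rw [dt, Perm.mul_apply, swap_apply_of_ne_of_ne h.ac h.ad, swap_apply_left]

theorem mv {a b c d : α} (h : D4 a b c d) : ∀ x ∈ [a, b, c, d], dt a b c d x ≠ x := by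
  simp only [List.forall_mem_cons]
  refine ⟨?_, ?_, ?_, ?_, by simp⟩
  · rw [da h]; exact h.ab.symm
  · rw [← dt_bac, da h.bac]; exact h.ab
  · rw [← h.dt_cdab, da h.cdab]; exact h.cd.symm
  · rw [← h.dt_cdab, ← dt_bac, da h.cdab.bac]; exact h.cd

theorem via_app (e : Fin 8 ↪ α) (ν : Perm (Fin 8)) (i : Fin 8) : Perm.viaEmbeddingHom e ν (e i) = e (ν i) :=
  Perm.viaEmbedding_apply ν e i

theorem via_out (e : Fin 8 ↪ α) (ν : Perm (Fin 8)) {x : α} (hx : x ∉ Set.range e) :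
    Perm.viaEmbeddingHom e ν x = x := Perm.viaEmbedding_apply_of_notMem ν e x hx

theorem via_disj (e : Fin 8 ↪ α) {ν μ : Perm (Fin 8)} (h : ∀ i, ν i = i ∨ μ i = i) :
    (Perm.viaEmbeddingHom e ν).Disjoint (Perm.viaEmbeddingHom e μ) := fun x => by
  by_cases hx : x ∈ Set.range e
  · obtain ⟨i, rfl⟩ := hx
    rw [via_app, via_app]
    exact (h i).imp (congrArg e) (congrArg e)
  · exact Or.inl (via_out e ν hx)

/-- A reordered frame. -/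
def fr (e : Fin 8 ↪ α) (v : Fin 8 → Fin 8) (hv : Function.Injective v) : Fin 8 ↪ α :=
  (⟨v, hv⟩ : Fin 8 ↪ Fin 8).trans e

theorem dE_fr (e : Fin 8 ↪ α) (v : Fin 8 → Fin 8) (hv : Function.Injective v) (i j k l : Fin 8) :
    dE (fr e v hv) i j k l = dE e (v i) (v j) (v k) (v l) := rfl

theorem dE_congr (e : Fin 8 ↪ α) {i j k l i' j' k' l' : Fin 8} (h : dt i j k l = dt i' j' k' l') :
    dE e i j k l = dE e i' j' k' l' := by rw [dE_eq, dE_eq, h]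

theorem symm (h : Sp E p q) : Sp E q p := ⟨h.dq, h.dp, h.dj.symm, h.eq.trans h.dj.commute.eq⟩

theorem d4a : D4 (0 : Fin 8) 1 2 3 := ⟨by decide, by decide, by decide, by decide, by decide, by decide⟩
theorem d4b : D4 (4 : Fin 8) 5 6 7 := ⟨by decide, by decide, by decide, by decide, by decide, by decide⟩

theorem six : ∀ ε : Perm (Fin 8), ε = dt 0 1 2 3 * dt 4 5 6 7 → ∀ i k : Fin 8, i ≠ k → i ≠ ε k →
    ∀ ν, ν = dt i (ε i) k (ε k) →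
    (ν = dt 0 1 2 3 ∧ ν * ε = dt 4 5 6 7) ∨ (ν = dt 0 1 4 5 ∧ ν * ε = dt 2 3 6 7) ∨
    (ν = dt 0 1 6 7 ∧ ν * ε = dt 2 3 4 5) ∨ (ν * ε = dt 0 1 2 3 ∧ ν = dt 4 5 6 7) ∨
    (ν * ε = dt 0 1 4 5 ∧ ν = dt 2 3 6 7) ∨ (ν * ε = dt 0 1 6 7 ∧ ν = dt 2 3 4 5) := by
  rintro _ rfl i k h1 h2 _ rfl
  revert i k
  decide +kernel

end LG

open LG

theorem sp_dE (e : Fin 8 ↪ α) : Sp (dE e 0 1 2 3 * dE e 4 5 6 7) (dE e 0 1 2 3) (dE e 4 5 6 7) :=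
  ⟨dE_dt e d4a, dE_dt e d4b, by rw [dE_eq, dE_eq]; exact via_disj e (by decide), rfl⟩

theorem Sp.frame (h : Sp E p q) : ∃ e : Fin 8 ↪ α, p = dE e 0 1 2 3 ∧ q = dE e 4 5 6 7 := by
  obtain ⟨⟨a, b, c, d, h1, rfl⟩, ⟨a', b', c', d', h2, rfl⟩, hd, -⟩ := h
  have k : ∀ x ∈ [a, b, c, d], ∀ y ∈ [a', b', c', d'], x ≠ y := by
    rintro x hx y hy rfl
    exact (hd x).elim (mv h1 x hx) (mv h2 x hy)
  have hn : [a, b, c, d, a', b', c', d'].Nodup := by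
    refine (List.nodup_append (l₁ := [a, b, c, d]) (l₂ := [a', b', c', d'])).2 ⟨?_, ?_, k⟩
    · simp [h1.ab, h1.ac, h1.ad, h1.bc, h1.bd, h1.cd]
    · simp [h2.ab, h2.ac, h2.ad, h2.bc, h2.bd, h2.cd]
  exact ⟨⟨[a, b, c, d, a', b', c', d'].get, List.nodup_iff_injective_get.1 hn⟩, rfl, rfl⟩

theorem Sp.conj (h : Sp E p q) (r : Perm α) : Sp (r * E * r⁻¹) (r * p * r⁻¹) (r * q * r⁻¹) :=
  ⟨h.dp.conj r, h.dq.conj r, h.dj.conj r, by rw [h.eq]; group⟩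

theorem Sp.mem (h : Sp E p q) : E ∈ alternatingGroup α ∧ E * E = 1 ∧ E ≠ 1 := by
  obtain ⟨e, rfl, rfl⟩ := h.frame
  refine ⟨h.eq ▸ mul_mem h.dp.mem h.dq.mem, ?_, ?_⟩
  · rw [h.eq, dE_eq, dE_eq, ← map_mul, ← map_mul, ← map_one (Perm.viaEmbeddingHom e)]
    exact congrArg _ (by decide)
  · rw [h.eq, dE_eq, dE_eq, ← map_mul, map_ne_one_iff _ (Perm.viaEmbeddingHom_injective e)]
    decide

theorem sp_of_tp (h : Tp E 4) : ∃ p q, Sp E p q := by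
  obtain ⟨e0, h1, h2⟩ := h.std
  let κ : Fin 8 ↪ Fin 4 × Bool := ⟨![(0, false), (0, true), (1, false), (1, true), (2, false), (2, true),
    (3, false), (3, true)], by decide⟩
  have k1 : ∀ z, ∃ i, κ i = z := by decide
  have k2 : ∀ i, κ ((dt 0 1 2 3 * dt 4 5 6 7 : Perm (Fin 8)) i) = ((κ i).1, !(κ i).2) := by decide
  refine ⟨dE (κ.trans e0) 0 1 2 3, dE (κ.trans e0) 4 5 6 7, ?_⟩
  have : E = dE (κ.trans e0) 0 1 2 3 * dE (κ.trans e0) 4 5 6 7 := by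
    rw [dE_eq, dE_eq, ← map_mul]
    ext x
    by_cases hx : x ∈ Set.range (κ.trans e0)
    · obtain ⟨i, rfl⟩ := hx
      rw [via_app]
      change E (e0 ((κ i).1, (κ i).2)) = e0 (κ _)
      rw [h1, k2]
    · rw [via_out _ _ hx]
      refine h2 x fun z hz => hx ?_
      obtain ⟨i, rfl⟩ := k1 z
      exact ⟨i, hz⟩
  rw [this]
  exact sp_dE _

theorem sp_rt {i j : Fin 4} (h : i ≠ j) : ∃ p q, Sp (rt i j) p q :=
  sp_of_tp ((by decide +kernel : ∀ i j : Fin 4, i ≠ j → rt i j * rt i j = 1 ∧ (rt i j).support.card = 2 * 4) i j h)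

namespace LG

theorem dc (h : Zt ι t Z) (hs : Sp E p q) : Commute (Z p) (Z q) := by
  obtain ⟨e, rfl, rfl⟩ := hs.frame
  exact h.dc e

theorem uniq (h : Zt ι t Z) (hs : Sp E p q) {p' q' : Perm α} (hs' : Sp E p' q') : Z p' * Z q' = Z p * Z q := by
  obtain ⟨e, rfl, rfl⟩ := hs.frame
  have hE := hs.eq
  rw [dE_eq, dE_eq, ← map_mul] at hE
  obtain ⟨ε, hε⟩ : ∃ ε : Perm (Fin 8), ε = dt 0 1 2 3 * dt 4 5 6 7 := ⟨_, rfl⟩
  rw [← hε] at hE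
  have hq : q' = p' * E := by rw [hs'.eq, ← mul_assoc, hs'.dp.iv.1, one_mul]
  have c := (dc h hs').eq
  have k : ∀ x, p' x ≠ x → ∃ i, x = e i ∧ p' x = e (ε i) := fun x hx => by
    have e1 : E x = p' x := by rw [hs'.eq, Perm.mul_apply, (hs'.dj x).resolve_left hx]
    by_cases hr : x ∈ Set.range e
    · obtain ⟨i, rfl⟩ := hr
      exact ⟨i, rfl, by rw [← e1, hE, via_app]⟩
    · rw [hE, via_out _ _ hr] at e1
      exact absurd e1.symm hx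
  obtain ⟨x, y, z, w, h4, hp⟩ := hs'.dp
  obtain ⟨i, rfl, hi⟩ := k x (hp ▸ mv h4 x (by simp))
  obtain ⟨j, rfl, hj⟩ := k z (hp ▸ mv h4 z (by simp))
  rw [hp, da h4] at hi
  rw [hp, ← h4.dt_cdab, da h4.cdab] at hj
  subst hi hj
  rw [← APm.via_dt'] at hp
  rw [hE, hp, ← map_mul] at hq
  have g1 := h.gw e
  have g2 : Z (dE e 0 1 2 3) * Z (dE e 6 7 4 5) = Z (dE e 0 1 6 7) * Z (dE e 2 3 4 5) :=
    h.gw (fr e ![0, 1, 2, 3, 6, 7, 4, 5] (by decide))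
  rw [dE_congr e (by decide : dt (6 : Fin 8) 7 4 5 = dt 4 5 6 7)] at g2
  rcases six ε hε i j (fun o => h4.ac (congrArg e o)) (fun o => h4.ad (congrArg e o)) _ rfl with
    ⟨a, b⟩ | ⟨a, b⟩ | ⟨a, b⟩ | ⟨b, a⟩ | ⟨b, a⟩ | ⟨b, a⟩ <;> rw [b, ← dE_eq] at hq <;> rw [a, ← dE_eq] at hp
  · rw [hp, hq]
  · rw [hp, hq, g1]
  · rw [hp, hq, g2]
  · rw [c, hp, hq]
  · rw [c, hp, hq, g1]
  · rw [c, hp, hq, g2]

theorem va (h : Zt ι t Z) {a b c d : α} (h4 : D4 a b c d) : Z (dt a b c d) * Z (dt a c b d) = Z (dt a d b c) := by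
  have h1 := h.yt.va a b c d h4
  have h2 := h.sq (dt a d b c) ⟨_, _, _, _, h4.abdc.acb, rfl⟩
  rw [eq_inv_of_mul_eq_one_left h1, inv_eq_of_mul_eq_one_right h2]

end LG

theorem Zt.gm_eq (h : Zt ι t Z) (hs : Sp E p q) : Gm Z E = Z p * Z q := by
  have ex : ∃ r : Perm α × Perm α, Sp E r.1 r.2 := ⟨(p, q), hs⟩
  rw [Gm, dif_pos ex]
  exact uniq h hs ex.choose_spec

theorem Zt.gm_eqv (h : Zt ι t Z) (hs : Sp E p q) (hr : r ∈ alternatingGroup α) :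
    ev ι r * Gm Z E * (ev ι r)⁻¹ = Gm Z (r * E * r⁻¹) := by
  rw [h.gm_eq hs, h.gm_eq (hs.conj r), ← h.yt.eqv r hr p hs.dp, ← h.yt.eqv r hr q hs.dq]
  group

theorem Zt.gm_sq (h : Zt ι t Z) (hs : Sp E p q) : Gm Z E * Gm Z E = 1 := by
  rw [h.gm_eq hs, ← pow_two, (LG.dc h hs).mul_pow, pow_two, pow_two, h.sq p hs.dp, h.sq q hs.dq, one_mul]

theorem Zt.gm_ph (h : Zt ι t Z) (hs : Sp E p q) : Gm Z E * t * (Gm Z E)⁻¹ = t * ev ι E ∧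
    t * Gm Z E * t⁻¹ = ev ι E * Gm Z E := by
  have c := (h.yt.comm hs.dp hs.dq.mem hs.dj.commute.eq.symm).eq
  have h1 : Gm Z E * t * (Gm Z E)⁻¹ = t * ev ι E := by
    rw [h.gm_eq hs, hs.eq, ev_mul hs.dp.mem hs.dq.mem]
    calc Z p * Z q * t * (Z p * Z q)⁻¹ = Z p * (Z q * t * (Z q)⁻¹) * (Z p)⁻¹ := by group
      _ = Z p * t * (Z p)⁻¹ * (Z p * ev ι q) * (Z p)⁻¹ := by rw [h.yt.ph q hs.dq]; group
      _ = _ := by rw [h.yt.ph p hs.dp, ← c]; group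
  refine ⟨h1, ?_⟩
  have ti : t⁻¹ = t := inv_eq_of_mul_eq_one_right h.yt.tt
  calc t * Gm Z E * t⁻¹ = t * (Gm Z E * t * (Gm Z E)⁻¹) * Gm Z E := by rw [ti]; group
    _ = _ := by rw [h1, ← mul_assoc, h.yt.tt, one_mul]

theorem Zt.gm_add (h : Zt ι t Z) (e : Fin 8 ↪ α) :
    Commute (Gm Z (dE e 0 1 2 3 * dE e 4 5 6 7)) (Gm Z (dE e 0 2 1 3 * dE e 4 6 5 7)) ∧
    Gm Z (dE e 0 1 2 3 * dE e 4 5 6 7) * Gm Z (dE e 0 2 1 3 * dE e 4 6 5 7) =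
      Gm Z (dE e 0 3 1 2 * dE e 4 7 5 6) := by
  have s2 : Sp (dE e 0 2 1 3 * dE e 4 6 5 7) (dE e 0 2 1 3) (dE e 4 6 5 7) :=
    sp_dE (fr e ![0, 2, 1, 3, 4, 6, 5, 7] (by decide))
  have s3 : Sp (dE e 0 3 1 2 * dE e 4 7 5 6) (dE e 0 3 1 2) (dE e 4 7 5 6) :=
    sp_dE (fr e ![0, 3, 1, 2, 4, 7, 5, 6] (by decide))
  have c1 : Commute (Z (dE e 0 1 2 3)) (Z (dE e 0 2 1 3)) := h.yt.vc _ _ _ _ (d4_emb e d4a)
  have c2 : Commute (Z (dE e 0 1 2 3)) (Z (dE e 4 6 5 7)) := h.dc (fr e ![0, 1, 2, 3, 4, 6, 5, 7] (by decide))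
  have c3 : Commute (Z (dE e 0 2 1 3)) (Z (dE e 4 5 6 7)) := h.dc (fr e ![0, 2, 1, 3, 4, 5, 6, 7] (by decide))
  have c4 : Commute (Z (dE e 4 5 6 7)) (Z (dE e 4 6 5 7)) := h.yt.vc _ _ _ _ (d4_emb e d4b)
  have v1 : Z (dE e 0 1 2 3) * Z (dE e 0 2 1 3) = Z (dE e 0 3 1 2) := va h (d4_emb e d4a)
  have v2 : Z (dE e 4 5 6 7) * Z (dE e 4 6 5 7) = Z (dE e 4 7 5 6) := va h (d4_emb e d4b)
  rw [h.gm_eq (sp_dE e), h.gm_eq s2, h.gm_eq s3]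
  refine ⟨(c1.mul_right c2).mul_left (c3.symm.mul_right c4), ?_⟩
  rw [← v1, ← v2, c3.symm.mul_mul_mul_comm]

theorem Zt.gm_V (h : Zt ι t Z) (e : Fin 8 ↪ α) :
    Commute (Gm Z (dE e 0 1 2 3 * dE e 4 5 6 7)) (Gm Z (dE e 0 2 1 3 * dE e 4 5 6 7)) ∧
    Gm Z (dE e 0 1 2 3 * dE e 4 5 6 7) * Gm Z (dE e 0 2 1 3 * dE e 4 5 6 7) = Z (dE e 0 3 1 2) := by
  have s2 : Sp (dE e 0 2 1 3 * dE e 4 5 6 7) (dE e 0 2 1 3) (dE e 4 5 6 7) :=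
    sp_dE (fr e ![0, 2, 1, 3, 4, 5, 6, 7] (by decide))
  have c1 : Commute (Z (dE e 0 1 2 3)) (Z (dE e 0 2 1 3)) := h.yt.vc _ _ _ _ (d4_emb e d4a)
  have c3 := LG.dc h s2
  have v1 : Z (dE e 0 1 2 3) * Z (dE e 0 2 1 3) = Z (dE e 0 3 1 2) := va h (d4_emb e d4a)
  rw [h.gm_eq (sp_dE e), h.gm_eq s2]
  refine ⟨(c1.mul_right (h.dc e)).mul_left (c3.symm.mul_right (Commute.refl _)), ?_⟩
  rw [← v1, c3.symm.mul_mul_mul_comm, h.sq _ s2.dq, mul_one]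

end Cfsg.Agent.SAc
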