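import Mathlib
import Cfsg.Agent.SAc.LDefs
import Cfsg.Agent.SAc.Der
import Cfsg.Agent.SLm.FE1

/-! `t` fixes a unique point of `G / N(L)` (port of `SLm/FE1`). See `stubs/Cfsg/Agent/SAc/PLAN4.md`. -/

set_option autoImplicit false
set_option linter.unusedSectionVars false

namespace Cfsg.Agent.SAc

open Cfsg Cfsg.Agent.GT Cfsg.Agent.Loc.Mss Cfsg.Agent.Sym Cfsg.Agent.Loc.SO Cfsg.Agent.SAn Subgroup Equiv
open Cfsg.Agent.StdB (C1 mem_C1)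
open scoped commutatorElement

universe u

variable {α : Type} [Fintype α] [DecidableEq α] {G : Type u} [Group G] [Finite G]
  {ι : alternatingGroup α →* G} {ι8 : alternatingGroup (Fin 8) →* G} {X : Subgroup G} {t g v : G}
  {Z : Perm α → G} {Z8 : Perm (Fin 8) → G} {E p q r : Perm α}
  {K : Type} [Field K] [CharP K 2] [Finite K]

namespace LC

theorem ar : ∀ n ∈ Nat.divisors 315, ∀ g ∈ Nat.divisors 105, (3 ∣ n → 3 ∣ g) → (5 ∣ n → 5 ∣ g) → (7 ∣ n → 7 ∣ g) →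
    n ≤ g ^ 2 ∧ (¬ 3 ∣ g → n ≤ g) ∧ (g = 1 → n = 1) := by decide +kernel

theorem e2 {x : G} (h : x * x = 1) : E2 x := ⟨1, by rw [pow_one, pow_two, h]⟩

theorem nrm (h : Cf ι t) : C1 t ≤ 𝐍[ι.range] := fun g hg => by
  obtain ⟨σ, hσ⟩ := h.reg g (mem_C1.1 hg)
  exact hσ.norm

theorem dI_le (h : Cf ι t) {B : Subgroup G} (hB : B ≤ C1 t) : SLm.dI B ≤ ι.range :=
  (closure_le _).2 (by
    rintro _ ⟨w, hw, w2, k, hk, rfl⟩
    have h1 := h.der (commutator_mono hB hB hw) (e2 w2)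
    have := mul_mem h1 (conj_mem_of_norm (nrm h (hB hk)) (inv_mem h1))
    simpa only [SetLike.mem_coe, commutatorElement_def, mul_assoc] using this)

end LC

open LC SLm

theorem not_bigAb (h8 : Fintype.card α = 8) (hι : Function.Injective ι) : ¬ SLm.BigAb ι.range 4 2 := by
  rintro ⟨A, N, e, hA, -, hN, ho, he, hd, hl⟩
  haveI : Nontrivial α := Fintype.one_lt_card_iff_nontrivial.1 (by omega)
  have hc : Nat.card ι.range = 64 * 315 := by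
    rw [← Nat.card_congr (MonoidHom.ofInjective hι).toEquiv, nat_card_alternatingGroup, Nat.card_eq_fintype_card, h8]
    decide
  have hp : ∀ p : ℕ, p.Prime → p ∣ Nat.card A → p ∣ N := fun p pp h => by
    haveI := Fact.mk pp
    obtain ⟨x, hx⟩ := exists_prime_orderOf_dvd_card' p h
    rw [← hx, orderOf_dvd_iff_pow_eq_one]
    exact Subtype.ext (hN x x.2)
  have h1 : Nat.card A ∣ 315 := by
    refine Nat.Coprime.dvd_of_dvd_mul_left ?_ (hc ▸ card_dvd_of_le hA)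
    refine Nat.Coprime.pow_right 6 ((Nat.coprime_comm.1 ((Nat.Prime.coprime_iff_not_dvd Nat.prime_two).2 fun k => ?_)))
    exact (Nat.not_even_iff_odd.2 ho) (even_iff_two_dvd.2 (hp 2 Nat.prime_two k))
  have hg : Nat.gcd N 105 ≤ N := Nat.gcd_le_left _ ho.pos
  obtain ⟨a1, a2, a3⟩ := ar _ (Nat.mem_divisors.2 ⟨h1, by norm_num⟩) _
    (Nat.mem_divisors.2 ⟨Nat.gcd_dvd_right N 105, by norm_num⟩)
    (fun k => Nat.dvd_gcd (hp 3 Nat.prime_three k) (by norm_num))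
    (fun k => Nat.dvd_gcd (hp 5 Nat.prime_five k) (by norm_num))
    (fun k => Nat.dvd_gcd (hp 7 (by norm_num) k) (by norm_num))
  rcases he.eq_or_lt with rfl | h3
  · exact absurd (hl.trans_le (a1.trans (Nat.pow_le_pow_left hg 2))) (lt_irrefl _)
  rcases le_or_gt e 4 with h4 | h4
  · have k3 : N.Coprime 3 := hd 2 (by norm_num) h3
    rw [show 4 / e = 1 by interval_cases e <;> rfl, pow_one] at hl
    refine absurd (hl.trans_le ((a2 fun k => ?_).trans hg)) (lt_irrefl _)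
    exact (Nat.Prime.coprime_iff_not_dvd Nat.prime_three).1 k3.symm (k.trans (Nat.gcd_dvd_left _ _))
  · have k7 : N.Coprime 7 := hd 3 (by norm_num) (by omega)
    have k15 : N.Coprime 15 := hd 4 (by norm_num) h4
    rw [Nat.div_eq_of_lt h4, pow_zero, a3 (k7.mul_right k15)] at hl
    exact lt_irrefl _ hl

theorem L4.θt (d : L4 ι t K) : d.f.θ t = (d.σ, 1) := (SLm.Fr.fd_iff.1 d.fd).θ

theorem L4.tH (d : L4 ι t K) : t ∈ 𝐍[d.f.L] := (SLm.Fr.fd_iff.1 d.fd).mem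

theorem L4.σ_ne (d : L4 ι t K) : d.σ ≠ 1 := fun h => by
  have := d.hη
  rw [h, RingAut.one_apply, CharTwo.add_self_eq_zero] at this
  exact zero_ne_one this

theorem L4.cen_two (d : L4 ι t K) (h : Cf ι t) (hg : g ∈ 𝐂[d.f.L]) {k : ℕ} (h2 : g ^ 2 ^ k = 1) : g = 1 := by
  by_contra g1
  obtain ⟨S, h1, hS⟩ := Syl.exists_ge (StdB.pg_zpowers h.iv.1) (zpowers_le.2 d.tH)
  have hn : S ≤ 𝐍[𝐂[d.f.L]] := hS.le.trans (norm_cent le_rfl)
  have h2' := hS.inf (cent_le_norm _) hn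
  have h3 : S ⊓ 𝐂[d.f.L] ≠ ⊥ := fun e => by
    obtain ⟨l, -, hl⟩ := h2'.conj_le (StdB.pg_zpowers_of_pow h2) (zpowers_le.2 hg)
    rw [e, le_bot_iff, cj_eq_bot, zpowers_eq_bot] at hl
    exact g1 hl
  obtain ⟨z, ⟨hz, hz'⟩, z1, z2⟩ := SLm.Cfg.FE1.exists_inv (h2'.pg.to_le inf_le_left)
    (GT.PG.inf_centralizer_ne_bot_of_isPGroup h2'.pg (StdB.pg_zpowers h.iv.1)
      (h1.trans (norm_inf le_normalizer hn)) h3)
  rcases h.ker z (mem_cent.1 hz' _ (mem_zpowers _)).symm (act_one_iff.2 (cent_anti d.A_le hz.2)) (e2 z2) with e | e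
  · exact z1 e
  · have h4 := SLm.Fr.θ_In (mem_sup_right hz.2)
    rw [e, d.θt] at h4
    exact d.σ_ne (congrArg Prod.fst h4)

theorem L4.noL (d : L4 ι t K) (h : Cf ι t) (hv : v ∈ d.f.L) : ¬ IsConj t v := fun hc => by
  obtain ⟨k, hk, l, -, e⟩ := SLm.Fr.invNF hv (Der.sq_conj h hc)
  obtain ⟨h1, y, hy, h2⟩ := d.fd.der d.hη k hk
  obtain ⟨g, hg⟩ := isConj_iff.1 hc
  generalize d.f.uk k hk = u at *
  have e1 : t = g⁻¹ * l * u * (g⁻¹ * l)⁻¹ := by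
    calc t = g⁻¹ * (g * t * g⁻¹) * g := by group
      _ = _ := by rw [hg, e]; group
  generalize g⁻¹ * l = a at e1
  have key : ∀ x, x * u = u * x → a * x * a⁻¹ ∈ 𝐍[d.f.L] := fun x hx => d.C_le (mem_C1.2 (by
    rw [e1, conj_mul, conj_mul, hx]))
  have h3 : t ∈ ⁅𝐍[d.f.L], 𝐍[d.f.L]⁆ := by
    have := commutator_mem_commutator (key _ h1.symm.eq) (key _ (mem_C1.1 hy.2))
    rwa [← conjugate_commutatorElement, ← h2, ← e1] at this
  have h4 := SLm.Fr.θ_der h3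
  rw [d.θt] at h4
  exact d.σ_ne (congrArg Prod.fst h4)

theorem L4.noG (d : L4 ι t K) (h : Cf ι t) (h8 : Fintype.card α = 8) (hv : v ∈ 𝐍[d.f.L]) (hc : IsConj t v) :
    (d.f.θ v).2 = 1 := by
  by_contra hε
  obtain ⟨b, hb, b2, hB⟩ := SLm.Fr.kg (q := 2) d.card (fun e => by omega) hv (Der.sq_conj h hc) hε
  obtain ⟨g, rfl⟩ := isConj_iff.1 hc
  have ha : b ∈ (cι ι g).range := (h.toC g).der (commutator_mono inf_le_right inf_le_right hb) (e2 b2)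
  have h2 : IsConj t (b * (g * t * g⁻¹)) := by
    rw [range_cι, mem_cj] at ha
    refine (d.tA _ ha ?_).trans (isConj_iff.2 ⟨g, by group⟩)
    rw [show g⁻¹ * b * g * (g⁻¹ * b * g) = g⁻¹ * (b * b) * g by group, b2, mul_one, inv_mul_cancel]
  obtain ⟨g', e⟩ := isConj_iff.1 h2
  rw [← e] at hB
  exact not_bigAb h8 (h.toC g').inj (hB.mono (LC.dI_le (h.toC g') inf_le_right))

theorem L4.exists_S (d : L4 ι t K) (h : Cf ι t) : ∃ S, Syl 2 S 𝐍[d.f.L] ∧ d.f.U ≤ S ∧ t ∈ S ∧ S ≤ 𝐍[d.f.U] ∧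
    ∀ s ∈ S, d.f.θ s = 1 → s ∈ d.f.U := by
  obtain ⟨S, h1, h2⟩ := Syl.exists_ge (L := 𝐍[d.f.L]) (IsPGroup.to_sup_of_normal_left' SLm.Fr.pg_U
    (StdB.pg_zpowers h.iv.1) (zpowers_le.2 d.fd.norm_U))
    (sup_le (d.f.U_le.trans le_normalizer) (zpowers_le.2 d.tH))
  have h0 : d.f.U ≤ S := le_sup_left.trans h1
  have h3 : S ⊓ d.f.L = d.f.U := SLm.Fr.syl.eq_of_le (h2.pg.to_le inf_le_left) (le_inf h0 d.f.U_le) inf_le_right
  have h4 : S ≤ 𝐍[d.f.U] := h3 ▸ norm_inf le_normalizer h2.le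
  refine ⟨S, h2, h0, h1 (mem_sup_right (mem_zpowers _)), h4, fun s hs e => ?_⟩
  obtain ⟨k, hk⟩ := pg_iff.1 h2.pg s hs
  have h5 : s ^ 2 ^ k ∈ 𝐂[d.f.L] := hk ▸ one_mem _
  obtain ⟨u, hu, h6⟩ := SLm.Fr.innU (h4 hs) (SLm.Fr.inn (h2.le hs) e h5) h5
  obtain ⟨m, hm⟩ := pg_iff.1 h2.pg _ (mul_mem hs (h0 hu))
  rw [eq_inv_of_mul_eq_one_left (d.cen_two h h6 hm)]
  exact inv_mem hu

theorem L4.uf (d : L4 ι t K) (h : Cf ι t) (h8 : Fintype.card α = 8) (hg : g * t * g⁻¹ ∈ 𝐍[d.f.L]) :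
    g ∈ 𝐍[d.f.L] := by
  obtain ⟨S, hS, hU, tS, -, h1⟩ := d.exists_S h
  obtain ⟨k, hk, h2⟩ := hS.conj_le (StdB.pg_zpowers (Der.sq_conj h (isConj_iff.2 ⟨g, rfl⟩))) (zpowers_le.2 hg)
  have h3 := h2 (conj_mem_cj (mem_zpowers _))
  have hc : IsConj t (k * (g * t * g⁻¹) * k⁻¹) := isConj_iff.2 ⟨k * g, by group⟩
  generalize hv : k * (g * t * g⁻¹) * k⁻¹ = v at h3 hc
  have h4 := d.noG h h8 (hS.le h3) hc
  have h5 : (d.f.θ v).1 * (d.f.θ v).1 = 1 := by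
    rw [← Prod.fst_mul, ← SLm.Fr.θ_mul (hS.le h3) (hS.le h3), Der.sq_conj h hc, SLm.Fr.θ_In (one_mem _), Prod.fst_one]
  have h6 : (d.f.θ v).1 = d.σ := SLm.Fr.ringAut_inv_unique h5 d.σ2
    (fun e => d.noL h (d.f.U_le (h1 v h3 (Prod.ext e h4))) hc) d.σ_ne
  have h7 : v * t ∈ d.f.U := h1 _ (mul_mem h3 tS) (by
    rw [SLm.Fr.θ_mul (hS.le h3) d.tH, d.θt]
    exact Prod.ext (by rw [Prod.fst_mul, h6]; exact d.σ2) (by rw [Prod.snd_mul, h4]; exact one_mul _))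
  have e : v * t * t = v := by rw [mul_assoc, h.iv.1, mul_one]
  obtain ⟨w, hw, h9⟩ := d.fd.free h.iv.1 d.hη h7 (by rw [e, Der.sq_conj h hc])
  have h10 : w⁻¹ * k * g ∈ 𝐍[d.f.L] := d.C_le (mem_C1.2 (by
    calc w⁻¹ * k * g * t = w⁻¹ * (k * (g * t * g⁻¹) * k⁻¹) * (k * g) := by group
      _ = _ := by rw [hv, ← e, h9]; group))
  exact (mul_mem_cancel_left (mul_mem (inv_mem (le_normalizer (d.f.U_le hw))) hk)).1 h10

end Cfsg.Agent.SAc
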