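import Mathlib
import Cfsg.Agent.SAc.SetA
import Cfsg.Agent.SAc.Odd3

/-! The Sylow 2-subgroup of `C(A)` has order two. See `stubs/Cfsg/Agent/SAc/PLAN.md`. -/

set_option autoImplicit false
set_option linter.unusedSectionVars false

namespace Cfsg.Agent.SAc

open Cfsg Cfsg.Agent.GT Cfsg.Agent.Loc.Mss Cfsg.Agent.Sym Cfsg.Agent.Loc.SO Cfsg.Agent.SAn Subgroup Equiv
open Cfsg.Agent.StdB (C1 mem_C1)
open scoped commutatorElement

variable {α β γ : Type} [Fintype α] [DecidableEq α] [Fintype β] [DecidableEq β] [Fintype γ]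
  [DecidableEq γ] {G : Type*} [Group G] [Finite G] {ι κ l : alternatingGroup α →* G}
  {ψ : Perm β →* G} {X P M L : Subgroup G} {t s u g o : G} {p q σ τ π : Perm α} {k j : ℕ}

namespace SetB

theorem c4_four {a b c d : α} (h : D4 a b c d) : c4 a b c d ^ 4 = 1 := by
  rw [show c4 a b c d ^ 4 = c4 a b c d * c4 a b c d * (c4 a b c d * c4 a b c d) by
    simp only [pow_succ, pow_zero, one_mul, mul_assoc], c4_sq h, h.iv.1]

theorem c4_out {a b c d x : α} (hx : SAn.Out a b c d x) : c4 a b c d x = x := by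
  simp [c4, dt, swap_apply_of_ne_of_ne, hx.a, hx.b, hx.c, hx.d]

theorem fx_of_odd {a b c d : α} (h : D4 a b c d) (hc : σ * c4 a b c d = c4 a b c d * σ)
    (ho : Odd (orderOf σ)) : Fx a b c d σ := by
  obtain ⟨i, hf⟩ := cent_c4 h hc
  have h1 : Commute (c4 a b c d ^ i)⁻¹ σ := ((Commute.symm hc).pow_left i).inv_left
  have h2 : ((c4 a b c d ^ i)⁻¹ * σ) ^ 4 = σ ^ 4 := by
    rw [h1.mul_pow, inv_pow, ← pow_mul, mul_comm i, pow_mul, c4_four h]; simp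
  obtain ⟨m, hm⟩ := exists_pow_eq_self_of_coprime (x := σ) (n := 4)
    (Nat.Coprime.pow_left 2 ho.coprime_two_left)
  have key : ∀ x, ((c4 a b c d ^ i)⁻¹ * σ) x = x → σ x = x := fun x hx => by
    rw [← hm, ← h2, ← pow_mul]
    exact Perm.pow_apply_eq_self_of_apply_eq_self hx _
  exact ⟨key a hf.a, key b hf.b, key c hf.c, key d hf.d⟩

theorem even_of {a b c d : α} (h : D4 a b c d) (hc : σ * c4 a b c d = c4 a b c d * σ) (h2 : σ * σ = 1)
    (ho : ∀ x, SAn.Out a b c d x → σ x = x) : σ ∈ alternatingGroup α := by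
  obtain ⟨i, hf⟩ := cent_c4 h hc
  have e : (c4 a b c d ^ i)⁻¹ * σ = 1 := by
    ext x
    by_cases ha : x = a
    · subst ha; exact hf.a
    by_cases hb : x = b
    · subst hb; exact hf.b
    by_cases hc : x = c
    · subst hc; exact hf.c
    by_cases hd : x = d
    · subst hd; exact hf.d
    have hx : SAn.Out a b c d x := ⟨ha, hb, hc, hd⟩
    rw [Perm.mul_apply, ho x hx, Perm.one_apply, Perm.inv_eq_iff_eq]
    exact (Perm.pow_apply_eq_self_of_apply_eq_self (c4_out hx) i).symm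
  have e' : σ = c4 a b c d ^ i := (inv_mul_eq_one.1 e).symm
  rcases Nat.even_or_odd' i with ⟨m, rfl | rfl⟩
  · rw [e', pow_mul, pow_two, c4_sq h]
    exact pow_mem h.mem m
  · exfalso
    rw [e', ← pow_add, show 2 * m + 1 + (2 * m + 1) = 4 * m + 2 by ring, pow_add, pow_mul, c4_four h, one_pow,
      one_mul, pow_two, c4_sq h] at h2
    exact h.iv.2 h2

theorem fx_of_mem {a b c d : α} (hp : p ∈ altOn ({a, b, c, d} : Finset α)ᶜ) : Fx a b c d p :=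
  have h := (mem_altOn.1 hp).2
  ⟨h a (by simp), h b (by simp), h c (by simp), h d (by simp)⟩

theorem comm_ev_of {r : G} (ha : Act ι r 1) (p : Perm α) : ev ι p * r = r * ev ι p :=
  mem_cent.1 (act_one_iff.1 ha) _ (ev_mem p)

theorem exists_four (h2 : E2 g) (h1 : g * g ≠ 1) : ∃ i : ℕ, Iv (g ^ i * g ^ i) := by
  obtain ⟨k, hk⟩ := h2
  obtain ⟨i, hi⟩ := SAn.Bas.exists_iv (t := g * g) ⟨k, by rw [← pow_two, ← pow_mul, mul_comm, pow_mul, hk, one_pow]⟩ h1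
  exact ⟨i, by rwa [← pow_two, ← pow_mul, mul_comm, pow_mul, pow_two] at hi⟩

end SetB

open SetB

theorem Cw.ev0_of_four {r : G} (h : Cw ι t) (hr : r * r = t) (ha : Act ι r 1) : Ev0 ι t := by
  intro u σ hs hc hu hσ
  by_contra hne
  obtain ⟨g, hg⟩ := isConj_iff.1 hs
  have h' : Cw (cι ι g) u := hg ▸ h.toC g
  have h4 : 4 ≤ Fintype.card α := by have := h.eight; omega
  have rt : r * t = t * r := by rw [← hr, mul_assoc]
  have ru : r * u = u * r := by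
    rcases h.of_even hc h'.iv.1 hu hσ with e | e
    · rw [e, comm_ev_of ha]
    · rw [e, ← mul_assoc, rt, mul_assoc, mul_assoc, comm_ev_of ha]
  obtain ⟨a', b', c', d', D', A', e'⟩ := h'.four_act h (Ne.symm hne) hr ha ru
  have hr' : g * r * g⁻¹ * (g * r * g⁻¹) = u := by rw [← hg, ← hr]; group
  have ha' : Act (cι ι g) (g * r * g⁻¹) 1 := ha.toC g
  generalize g * r * g⁻¹ = r' at hr' ha'
  generalize cι ι g = κ at h' A' e' ha'
  obtain ⟨a, b, c, d, D, A, e⟩ := h.four_act h' hne hr' ha' (by rw [e', comm_ev_of ha'])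
  have vu : ev ι (dt a c b d) * u = u * ev ι (dt a c b d) := by
    rw [e, ← ev_mul D.acb.mem D.mem, ← ev_mul D.mem D.acb.mem, D.dt_comm]
  have v2 : ev ι (dt a c b d) * ev ι (dt a c b d) = 1 := by
    rw [← ev_mul D.acb.mem D.acb.mem, D.acb.iv.1, ev_one]
  obtain ⟨ν, hν⟩ := h'.reg _ vu
  have ν2 : ν * ν = 1 := by
    rw [← pow_two]
    exact hν.pow_eq_one h'.inj h4 (by rw [pow_two, v2])
  have m1 : dt a b c d ∈ altOn ({a, b, c, d} : Finset α) := D.V4_le (D.mem_V4.2 (.inr (.inl rfl)))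
  have m2 : dt a c b d ∈ altOn ({a, b, c, d} : Finset α) := D.V4_le (D.mem_V4.2 (.inr (.inr (.inl rfl))))
  have hν' : ν ∈ alternatingGroup α := by
    refine even_of D' (hν.comm h'.inj h4 A' (comm_ev_of ha _)) ν2 fun x hx => ?_
    refine h.rest h' D D' (fun p hp ep => ?_) (fun p hp => ?_) (fun p hp σ' hσ' ho => ?_) (fun p hp => ?_) hν hx
    · have := ev_inj h.inj (mem_altOn.1 hp).1 D.mem (ep.trans e)
      have h1 := (fx_of_mem hp).a
      rw [this] at h1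
      simp [dt, swap_apply_of_ne_of_ne, D.ac, D.ad] at h1
      exact D.ab h1.symm
    · rw [e, ← ev_mul (mem_altOn.1 hp).1 D.mem, ← ev_mul D.mem (mem_altOn.1 hp).1,
        D.comm_of_fx (fx_of_mem hp) m1]
    · exact fx_of_odd D' (hσ'.comm h'.inj h4 A' (comm_ev_of ha _)) ho
    · rw [← ev_mul (mem_altOn.1 hp).1 D.acb.mem, ← ev_mul D.acb.mem (mem_altOn.1 hp).1,
        D.comm_of_fx (fx_of_mem hp) m2]
  have r'u : r' * u = u * r' := by rw [← hr', mul_assoc]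
  have r'v : r' * ev ι (dt a c b d) = ev ι (dt a c b d) * r' := by
    rcases h'.of_even vu v2 hν hν' with e1 | e1
    · rw [e1, comm_ev_of ha']
    · rw [e1, ← mul_assoc, r'u, mul_assoc, mul_assoc, comm_ev_of ha']
  have c1 := (A.comm_iff h.inj D.acb.mem).1 r'v
  have c2 := (c4_inv D).2.1
  rw [← c1, mul_assoc, D.acb.iv.1, mul_one] at c2
  have c3 := c4_sq D
  rw [c2, ← c2] at c3
  nth_rewrite 1 [c2] at c3
  rw [inv_mul_cancel] at c3
  exact D.iv.2 c3.symm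

theorem Cw.cf_of_cyc (h : Cw ι t) (hs : IsConj t u) (hc : u * t = t * u) (hne : u ≠ t)
    (hR : ∀ R : Subgroup G, IsPGroup 2 R → R ≤ 𝐂[ι.range] → IsCyclic R) : Cf ι t := by
  refine ⟨h.eight, h.inj, h.iv, h.cen, h.reg, fun g gt ga g2 => ?_⟩
  by_contra hn
  obtain ⟨i, hi⟩ := exists_four g2 fun e => hn (h.ker2 g gt ga e)
  have ra : Act ι (g ^ i) 1 := by simpa using ga.pow i
  have rt : g ^ i * t = t * g ^ i := (Commute.pow_left gt i).eq
  generalize g ^ i = r at hi ra rt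
  have hr : r * r = t := (h.ker2 (r * r) (by rw [mul_assoc, rt, ← mul_assoc, rt, mul_assoc])
    (by simpa using ra.mul ra) hi.1).resolve_left hi.2
  have he := h.ev0_of_four hr ra
  obtain ⟨κ, h'⟩ := h.emb hs
  obtain ⟨σ, hσ⟩ := h.reg u hc
  have un : u ∈ 𝐍[𝐂[ι.range] ⊓ C1 t] := by
    refine norm_inf (norm_cent (zpowers_le.2 hσ.norm)) (norm_of_le (zpowers_le.2 (mem_C1.2 hc))) (mem_zpowers u)
  obtain ⟨R, uR, hS⟩ := Syl.exists_ge (L := 𝐂[ι.range] ⊓ C1 t ⊔ zpowers u) (StdB.pg_zpowers h'.iv.1) le_sup_right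
  have hP := hS.inf le_sup_left (hS.le.trans (sup_le le_normalizer (zpowers_le.2 un)))
  have r4 : r ^ 2 ^ 2 = 1 := by rw [show r ^ 2 ^ 2 = r * r * (r * r) by
    simp only [show 2 ^ 2 = 4 from rfl, pow_succ, pow_zero, one_mul, mul_assoc], hi.1]
  obtain ⟨k, hk, hle⟩ := hP.conj_le (StdB.pg_zpowers_of_pow r4) (zpowers_le.2 ⟨act_one_iff.1 ra, mem_C1.2 rt⟩)
  have hρ : k * r * k⁻¹ ∈ R ⊓ (𝐂[ι.range] ⊓ C1 t) := hle (conj_mem_cj (mem_zpowers r))
  have ρ2 : k * r * k⁻¹ * (k * r * k⁻¹) = t := by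
    rw [show k * r * k⁻¹ * (k * r * k⁻¹) = k * (r * r) * k⁻¹ by group, hr, mem_C1.1 hk.2]; group
  generalize k * r * k⁻¹ = ρ at hρ ρ2
  have hρ' : u * ρ * u⁻¹ ∈ R ⊓ (𝐂[ι.range] ⊓ C1 t) :=
    ⟨R.mul_mem (R.mul_mem (uR (mem_zpowers u)) hρ.1) (R.inv_mem (uR (mem_zpowers u))), conj_mem_of_norm un hρ.2⟩
  have ρ2' : u * ρ * u⁻¹ * (u * ρ * u⁻¹) = t := by
    rw [show u * ρ * u⁻¹ * (u * ρ * u⁻¹) = u * (ρ * ρ) * u⁻¹ by group, ρ2, hc]; group
  have cy := hR _ hP.pg (inf_le_right.trans inf_le_left)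
  have cm : u * ρ * u⁻¹ * ρ⁻¹ = ρ⁻¹ * (u * ρ * u⁻¹) :=
    congrArg Subtype.val (cy.isMulCommutative.is_comm.comm ⟨_, hρ'⟩ ⟨_, inv_mem hρ⟩)
  have hm : u * ρ * u⁻¹ * ρ⁻¹ ∈ 𝐂[ι.range] ⊓ C1 t := mul_mem hρ'.2 (inv_mem hρ.2)
  have sq : u * ρ * u⁻¹ * ρ⁻¹ * (u * ρ * u⁻¹ * ρ⁻¹) = 1 := by
    nth_rewrite 1 [cm]
    rw [show ρ⁻¹ * (u * ρ * u⁻¹) * (u * ρ * u⁻¹ * ρ⁻¹) = ρ⁻¹ * (u * ρ * u⁻¹ * (u * ρ * u⁻¹)) * ρ⁻¹ by group, ρ2',
      ← ρ2]
    group
  rcases h.ker2 _ (mem_C1.1 hm.2) (act_one_iff.2 hm.1) sq with e | e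
  · have ρu : ρ * u = u * ρ := by
      rw [mul_inv_eq_one, mul_inv_eq_iff_eq_mul] at e
      exact e.symm
    obtain ⟨τ, hτ⟩ := h'.reg ρ ρu
    refine hne (he.transfer h h' hs t (τ * τ) hs.symm hc.symm (ρ2 ▸ hτ.mul hτ) ?_).symm
    rw [Perm.mem_alternatingGroup, map_mul, Int.units_mul_self]
  · refine h.odd3' he hs hc hne (hs.trans (isConj_iff.2 ⟨ρ⁻¹, ?_⟩))
    rw [cm] at e
    rw [← e]; group

end Cfsg.Agent.SAc
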