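import Mathlib
import Cfsg.Agent.SAc.B10b

/-! The points outside the four pairs, degree at least eleven (piece of `SAc/B10`). -/

set_option autoImplicit false
set_option linter.unusedSectionVars false
set_option synthInstance.maxSize 4096

namespace Cfsg.Agent.SAc

open Cfsg Cfsg.Agent.GT Cfsg.Agent.Loc.Mss Cfsg.Agent.Sym Cfsg.Agent.Loc.SO Cfsg.Agent.SAn Subgroup Equiv
open Cfsg.Agent.SAc.H3 (E E_e E_out E_inj E_swap tp_E)
open Cfsg.Agent.StdB (C1 mem_C1)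
open scoped commutatorElement

variable {α : Type} [Fintype α] [DecidableEq α] {G : Type*} [Group G] [Finite G]
  {ι κ : alternatingGroup α →* G} {t s u g : G} {p q σ σ' τ r r' : Perm α} {k j : ℕ}

namespace B10

variable {e e' : I ↪ α} {a b c v w w' : Perm I}

/-- The points outside the first four pairs. -/
def Rr (e : I ↪ α) : Finset α := ((Finset.univ.filter fun z : I => z.1 ≠ 4).map e)ᶜ

theorem card_Rr (e : I ↪ α) : (Rr e).card = Fintype.card α - 8 := by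
  rw [Rr, Finset.card_compl, Finset.card_map,
    show (Finset.univ.filter fun z : I => z.1 ≠ 4).card = 8 by decide +kernel]

theorem not_mem_Rr {x : α} : x ∉ Rr e ↔ ∃ z : I, z.1 ≠ 4 ∧ e z = x := by
  simp only [Rr, Finset.mem_compl, not_not, Finset.mem_map, Finset.mem_filter, Finset.mem_univ, true_and]

theorem lo_iff : Lo e r ↔ ∀ x ∉ Rr e, r x = x :=
  ⟨fun h x hx => by obtain ⟨z, hz, rfl⟩ := not_mem_Rr.1 hx; exact h z hz,
    fun h z hz => h _ (not_mem_Rr.2 ⟨z, hz, rfl⟩)⟩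

theorem mem_Rr : q ∈ altOn (Rr e) ↔ q ∈ alternatingGroup α ∧ Lo e q := by rw [mem_altOn, lo_iff]

theorem E_fix (hw : Hi w) {x : α} (hx : x ∈ Rr e) : E e w x = x := by
  by_cases k : ∃ z, e z = x
  · obtain ⟨⟨i, b⟩, rfl⟩ := k
    obtain rfl : i = 4 := by_contra fun hi => not_mem_Rr.2 ⟨(i, b), hi, rfl⟩ hx
    rw [E_e, hw]
  · exact E_out e w fun z hz => k ⟨z, hz⟩

theorem Lo.inv (h : Lo e r) : Lo e r⁻¹ := fun z hz => Perm.inv_eq_iff_eq.2 (h z hz).symm

theorem Lo.eq_one (h : Lo e r) (h' : ∀ x ∈ Rr e, r x = x) : r = 1 :=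
  Perm.ext fun x => if k : x ∈ Rr e then h' x k else lo_iff.1 h x k

theorem Lo.cX (h : Lo e q) (hq : q ∈ alternatingGroup α) (hw : Hi w := by decide +kernel)
    (ew : Ev w := by decide +kernel) : ev ι q * X ι e w = X ι e w * ev ι q := by
  rw [X, ← ev_mul hq (ew.mem e), ← h.comm hw, ev_mul (ew.mem e) hq]

theorem Sx.qs (h : Sx ι κ t s e e') (hq : q ∈ alternatingGroup α) (lo : Lo e q) :
    ev ι q * s = s * ev ι q := by
  rw [h.hs, ← mul_assoc, h.cf.cw.comm_ev, mul_assoc, lo.cX hq, mul_assoc]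

/-- Elements of order three of the rest fix the first four pairs of the other component. -/
theorem Sx.lo3 (h : Sx ι κ t s e e') (hq : q ∈ alternatingGroup α) (lo : Lo e q) (h3 : q * q * q = 1)
    (ha : Act κ (ev ι q) σ) : Lo e' σ := by
  have cw := h.cf'.cw
  obtain ⟨σ0, π, a, b, c, x, h0, r0⟩ := h.rs (h.cf.cw.comm_ev q) (h.qs hq lo)
  obtain rfl := cw.uniq ha h0
  have s3 : σ * σ * σ = 1 := cw.uniq ((ha.mul ha).mul ha) (by
    rw [← ev_mul hq hq, ← ev_mul (mul_mem hq hq) hq, h3, ev_one]; exact Act.one)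
  rcases c1a π a b c x (((r0.mul r0).mul r0).uniq (s3 ▸ Lo.one.rs)) with k | ⟨k1, k2⟩
  · exact (k ▸ r0).lo
  have key : ∀ w : Perm I, Hi w → Ev w → w * w = 1 → w * τ0 = τ0 * w →
      ∃ ρ a b c x, Act κ (X ι e w) ρ ∧ Rs e' ρ (M 1 a b c x) := fun w hw ew w2 wt => by
    obtain ⟨ρ, μ, a', b', c', x', h1, r1⟩ := h.rs (h.ct w) (h.cs wt ew)
    have e1 : σ * ρ = ρ * σ := ha.comm cw.inj cw.four h1 (lo.cX hq hw ew)
    have e2 : ρ * ρ = 1 := cw.uniq (h1.mul h1) (by rw [X_sq w2 ew]; exact Act.one)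
    have e3 := (r1.mul r1).uniq (e2 ▸ Lo.one.rs)
    rw [← one_mul (1 : Perm I), ← M_one] at e3
    obtain rfl := c1c π μ k1 k2 ((M_pi e3).trans (one_mul _)) (M_pi ((r0.mul r1).uniq (e1 ▸ r1.mul r0)))
    exact ⟨ρ, a', b', c', x', h1, r1⟩
  obtain ⟨ρ, a1, b1, c1, x1, h1, r1⟩ := key (f 0 * f 2) (by decide +kernel) (by decide +kernel)
    (by decide +kernel) (by decide +kernel)
  obtain ⟨μ, a2, b2, c2, x2, h2, r2⟩ := key (d 0 1 * d 2 3) (by decide +kernel) (by decide +kernel)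
    (by decide +kernel) (by decide +kernel)
  have e0 : X ι e (f 0 * f 2) * X ι e (d 0 1 * d 2 3) * X ι e (f 0 * f 2) =
      X κ e' τ0 * X ι e (d 0 1 * d 2 3) := by
    rw [← h.pp, X_eq (a := f 0 * f 2) (b := d 0 1 * d 2 3) rfl, X_eq (a := τ0) (b := d 0 1 * d 2 3) rfl]
    exact X_eq
  have e1 := cw.uniq ((h1.mul h2).mul h1) (e0 ▸ (X_act (a := τ0)).mul h2)
  exact absurd (((r1.mul r2).mul r1).uniq (e1 ▸ (Rs.of (by decide +kernel)).mul r2)) (c1d _ _ _ _ _ _ _ _)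

/-- Degree eleven: the rest acts faithfully. -/
theorem Sx.triv11 (h : Sx ι κ t s e e') (h11 : Fintype.card α = 11) (hq : q ∈ alternatingGroup α)
    (lo : Lo e q) (ha : Act κ (ev ι q) 1) : q = 1 := by
  have cw := h.cf'.cw
  obtain ⟨ξ0, m0, e0⟩ := h.der (c := d 0 1 * d 2 3) (d 0 1) (d 0 2 * d 1 3)
  have mτ : E e' τ0 ∈ alternatingGroup α := Ev.mem (by decide +kernel) e'
  have mξ := mul_mem mτ m0
  have e1 : ev κ (E e' τ0 * ξ0) = X ι e (τ0 * (d 0 1 * d 2 3)) := by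
    rw [ev_mul mτ m0, ← e0, X_mul (a := τ0), h.pp]; rfl
  have e2 : t * X ι e (d 0 1 * d 2 3) = s * ev κ (E e' τ0 * ξ0) := by
    rw [e1, h.hs, mul_assoc, X_eq (c := d 0 1 * d 2 3)]
  generalize E e' τ0 * ξ0 = ξ at mξ e1 e2
  obtain ⟨m, tm⟩ := tp_exists (ev_eq_one cw.inj (mul_mem mξ mξ) (by rw [ev_mul mξ mξ, e1, X_sq]))
  have m1 := tm.even_iff.1 mξ
  have m2 := tm.le
  have m3 : m ≠ 0 := fun k => by
    obtain rfl := tp_zero.1 (k ▸ tm)
    rw [ev_one] at e1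
    exact absurd (E_inj e ((ev_eq_one h.cf.inj (Ev.mem (by decide +kernel) e) e1.symm).trans
      (map_one _).symm)) (by decide +kernel)
  have m4 : m ≠ 2 := fun k => h.symm.ev2 (k ▸ tm) (e2 ▸ h.cj.symm.trans h.D4)
  obtain rfl : m = 4 := by obtain ⟨m, rfl⟩ := m1; omega
  obtain ⟨γ, mγ, eγ⟩ := tm.alt_conj (tp_E e' tp0)
  let A : Perm I := swap (0, true) (1, false) * swap (2, true) (3, false)
  have e3 : X ι e A * s * (X ι e A)⁻¹ = s * ev κ ξ := by
    rw [← e2, ← X_conj (a := A) (b := τ0) (c := d 0 1 * d 2 3), h.hs, ← mul_assoc, h.ct]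
    group
  have e4 : ev κ γ * X ι e A * s * (ev κ γ * X ι e A)⁻¹ = t := by
    rw [show ev κ γ * X ι e A * s * (ev κ γ * X ι e A)⁻¹ = ev κ γ * (X ι e A * s * (X ι e A)⁻¹) * (ev κ γ)⁻¹ by
      group, e3, ← mul_assoc, cw.comm_ev, h.ht, X, ← eγ, ev_conj mγ mξ]
    group
  have e5 : ev κ γ * X ι e A * ev ι q * (ev κ γ * X ι e A)⁻¹ = ev ι q := by
    rw [mul_assoc (ev κ γ), ← lo.cX hq, ← mul_assoc, ← (ha.comm_iff cw.inj mγ).2 (by simp)]
    group
  have k1 := act_one_iff.1 (e5 ▸ ha.toC (ev κ γ * X ι e A))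
  rw [h.cf.cw.range_eq (e4 ▸ cw.toC (ev κ γ * X ι e A)) rfl] at k1
  exact h.cf.cw.uniq (act_ev hq) (act_one_iff.2 k1)

/-- The alternating group on the rest acts as the alternating group on the other rest. -/
theorem Sx.rest (h : Sx ι κ t s e e') (h11 : 11 ≤ Fintype.card α) :
    ∃ F : altOn (Rr e) →* Perm α, (∀ p, Act κ (ev ι p.1) (F p)) ∧ Function.Injective F ∧
      (∀ p, Lo e' (F p)) ∧ altOn (Rr e') ≤ F.range := by
  have h' := h.cf'.cw
  have c1 := card_Rr e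
  have c2 := card_Rr e'
  have al : ∀ p : altOn (Rr e), p.1 ∈ alternatingGroup α := fun p => (mem_Rr.1 p.2).1
  have h2 : ∀ p : altOn (Rr e), ev ι p.1 * s = s * ev ι p.1 := fun p => h.qs (al p) (mem_Rr.1 p.2).2
  obtain ⟨F, hF⟩ := h'.exists_hom
  let f : altOn (Rr e) →* Perm α := F.comp (MonoidHom.mk' (fun p => ⟨ev ι p.1, mem_C1.2 (h2 p)⟩)
    fun p q => Subtype.ext (ev_mul (al p) (al q)))
  have hf : ∀ p : altOn (Rr e), Act κ (ev ι p.1) (f p) := fun p => hF ⟨_, mem_C1.2 (h2 p)⟩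
  have inj : Function.Injective f := by
    rcases h11.eq_or_lt with k | k
    · exact (injective_iff_map_eq_one f).2 fun p e1 =>
        Subtype.ext (h.triv11 k.symm (al p) (mem_Rr.1 p.2).2 (e1 ▸ hf p))
    have no : ∀ p, f p = 1 → p * p = 1 → p = 1 := fun p k e =>
      Subtype.ext (ev_eq_one h.cf.inj (al p) ((h'.ker2 _ (h2 p) (k ▸ hf p) (by
        rw [← ev_mul (al p) (al p), show p.1 * p.1 = 1 from congrArg Subtype.val e, ev_one])).resolve_right
          fun e1 => h.cf.conj_not_mem h.cj (e1 ▸ ev_mem _)))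
    have := SetA.inj_of (by omega) (f.comp (altOnEquiv (Rr e)).symm.toMonoidHom) fun p k e1 =>
      (map_eq_one_iff _ (altOnEquiv (Rr e)).symm.injective).1 (no _ k (by rw [← map_mul, e1, map_one]))
    exact fun p q e1 => (altOnEquiv (Rr e)).injective (this (by simpa using e1))
  let S : Subgroup G :=
    { carrier := {g | ∃ σ, Act κ g σ ∧ Lo e' σ}
      one_mem' := ⟨1, Act.one, Lo.one⟩
      mul_mem' := fun ⟨_, h, k⟩ ⟨_, h', k'⟩ => ⟨_, h.mul h', k.mul k'⟩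
      inv_mem' := fun ⟨_, h, k⟩ => ⟨_, h.inv, k.inv⟩ }
  have fx : altOn (Rr e) ≤ pre ι S := altOn_le fun x hx y hy z hz xy xz yz => by
    have m : cyc3 x y z ∈ altOn (Rr e) := mem_altOn.2 ⟨cyc3_mem_alternatingGroup xy yz, fun v hv =>
      cyc3_apply_of_ne (fun e => hv (e ▸ hx)) (fun e => hv (e ▸ hy)) fun e => hv (e ▸ hz)⟩
    exact ⟨(mem_Rr.1 m).1, _, hf ⟨_, m⟩, h.lo3 (mem_Rr.1 m).1 (mem_Rr.1 m).2
      (by rw [← cyc3_pow_three xy xz yz, pow_three']) (hf ⟨_, m⟩)⟩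
  have lo : ∀ p, Lo e' (f p) := fun p => by
    obtain ⟨σ, k1, k2⟩ := (fx p.2).2
    rwa [h'.uniq (hf p) k1]
  refine ⟨f, hf, inj, lo, altOn_le_of_card ?_ ?_⟩
  · rintro _ ⟨p, rfl⟩
    exact lo_iff.1 (lo p)
  · have : Nontrivial (Fin (Rr e).card) := Fin.nontrivial_iff_two_le.2 (by omega)
    rw [← Nat.card_congr (MonoidHom.ofInjective inj).toEquiv, Nat.card_congr (altOnEquiv (Rr e)).toEquiv,
      two_mul_nat_card_alternatingGroup, Nat.card_perm, Nat.card_eq_fintype_card, Fintype.card_fin, c1, c2]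

/-- An involution centralizing the alternating group on the rest acts trivially on the other rest. -/
theorem Sx.rest_fix (h : Sx ι κ t s e e') (h11 : 11 ≤ Fintype.card α)
    (hg : ∀ q ∈ alternatingGroup α, Lo e q → g * ev ι q = ev ι q * g) (ha : Act κ g (E e' w * r))
    (hw : Hi w) (hr : Lo e' r) (h2 : g * g = 1) : r = 1 := by
  obtain ⟨F, hF, -, -, le⟩ := h.rest h11
  have cw := h.cf'.cw
  refine hr.eq_one fun x hx => (E e' w).injective ?_
  rw [E_fix hw hx, ← Perm.mul_apply]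
  refine fix_of_comm (by rw [card_Rr]; omega) (cw.uniq (ha.mul ha) (h2 ▸ Act.one)) (fun q hq => ?_) hx
  obtain ⟨p, rfl⟩ := le hq
  exact ha.comm cw.inj cw.four (hF p) (hg _ (mem_Rr.1 p.2).1 (mem_Rr.1 p.2).2)

end B10

end Cfsg.Agent.SAc
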