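import Mathlib
import Cfsg.Agent.SAc.B10r

/-! The normal form of the action on the second component (piece of `SAc/B10`). -/

set_option autoImplicit false
set_option linter.unusedSectionVars false
set_option synthInstance.maxSize 4096

namespace Cfsg.Agent.SAc

open Cfsg Cfsg.Agent.GT Cfsg.Agent.Loc.Mss Cfsg.Agent.Sym Cfsg.Agent.Loc.SO Cfsg.Agent.SAn Subgroup Equiv
open Cfsg.Agent.SAc.H3 (E E_e E_out E_inj E_swap tp_E)
open Cfsg.Agent.StdB (C1 mem_C1)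
open scoped commutatorElement

variable {α : Type} [Fintype α] [DecidableEq α] {G : Type*} [Group G] [Finite G]
  {ι κ : alternatingGroup α →* G} {t s u g g' : G} {p q σ σ' τ r r' : Perm α} {k j : ℕ}

namespace B10

variable {e e' : I ↪ α} {a b c v w w' : Perm I}

/-- `g` acts on the first four pairs as `w`. -/
def RA (κ : alternatingGroup α →* G) (e : I ↪ α) (g : G) (w : Perm I) : Prop :=
  ∃ σ, Act κ g σ ∧ Rs e σ w

theorem RA.mul (h : RA κ e g w) (h' : RA κ e g' w') : RA κ e (g * g') (w * w') := by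
  obtain ⟨σ, h1, h2⟩ := h
  obtain ⟨σ', k1, k2⟩ := h'
  exact ⟨_, h1.mul k1, h2.mul k2⟩

theorem RA.uniq (hc : Cf κ s) (h : RA κ e g w) (h' : RA κ e g w') : w = w' := by
  obtain ⟨σ, h1, h2⟩ := h
  obtain ⟨σ', k1, k2⟩ := h'
  exact h2.uniq (hc.cw.uniq k1 h1 ▸ k2)

theorem RA.one : RA κ e 1 1 := ⟨1, Act.one, Lo.one.rs⟩

theorem RA.of (hw : Hi w := by decide +kernel) (ew : Ev w := by decide +kernel) :
    RA κ e (X κ e w) w := ⟨_, X_act ew, Rs.of hw⟩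

theorem RA.trans (h : RA κ e g w) (hv : Hi v) (hw : Hi w') (k : w * v = v * w') :
    RA κ (v.toEmbedding.trans e) g w' := by
  obtain ⟨σ, h1, h2⟩ := h
  exact ⟨σ, h1, h2.trans hv hw k⟩

theorem Sx.ra (h : Sx ι κ t s e e') (w : Perm I) (k : w * τ0 = τ0 * w := by decide +kernel)
    (hw : Ev w := by decide +kernel) : ∃ π a b c x, RA κ e' (X ι e w) (M π a b c x) := by
  obtain ⟨σ, π, a, b, c, x, h1, h2⟩ := h.rs (h.ct w) (h.cs k hw)
  exact ⟨π, a, b, c, x, σ, h1, h2⟩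

theorem sq_rest (hw : Hi w) (hr : Lo e r) (h : E e w * r * (E e w * r) = 1) : w * w = 1 ∧ r * r = 1 := by
  have h1 : w * w = 1 := ((hr.rs' hw).mul (hr.rs' hw)).uniq (h ▸ Lo.one.rs)
  refine ⟨h1, ?_⟩
  rwa [mul_assoc, ← mul_assoc r, ← hr.comm hw, ← mul_assoc, ← mul_assoc, ← map_mul, h1, map_one,
    one_mul] at h

theorem tp_Er (hw : Hi w) (hr : Lo e r) (h : w * w = 1) (hk : Tp r k) :
    ∃ j, Tp (E e w * r) (j + k) ∧ w.support.card = 2 * j := by
  obtain ⟨j, hj⟩ := tp_exists h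
  exact ⟨j, (tp_E e hj).mul_disjoint hk (hr.disj hw), hj.2⟩

/-- The rest of the action of an involution on the first four pairs. -/
theorem Sx.rst (h : Sx ι κ t s e e') (ha : Act κ (X ι e a) (E e' w * r)) (hw : Hi w) (hr : Lo e' r)
    (h1 : Hi a := by decide +kernel) (h2 : a * a = 1 := by decide +kernel)
    (h3 : Ev a := by decide +kernel) : r = 1 ∨ Fintype.card α = 10 ∧ r = E e' (f 4) := by
  rcases h.ten.eq_or_lt with k | k
  · exact (hr.ten k.symm).imp_right fun k' => ⟨k.symm, k'⟩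
  · refine .inl (h.rest_fix k (fun q hq k' => ?_) ha hw hr (X_sq h2 h3))
    rw [X, ← ev_mul (h3.mem e) hq, k'.comm h1, ev_mul hq (h3.mem e)]

theorem Mτ : ∀ π a b c x, M π a b c x * τ0 = τ0 * M π a b c x := by decide +kernel

theorem X_inj (h : Cf ι t) (k : X ι e a = X ι e b) (ha : Ev a := by decide +kernel)
    (hb : Ev b := by decide +kernel) : a = b :=
  E_inj e (ev_inj h.inj (ha.mem e) (hb.mem e) k)

/-- Products of two flips act as products of two flips. -/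
theorem Sx.e0 (h : Sx ι κ t s e e') (hx : ∃ σ ∈ alternatingGroup α, X ι e a = ev κ σ)
    (h1 : Hi a := by decide +kernel) (h2 : Tp a 2 := by decide +kernel)
    (h3 : Tp (τ0 * a) 2 := by decide +kernel) (h4 : a * τ0 = τ0 * a := by decide +kernel)
    (h5 : Ev a := by decide +kernel) : ∃ i, X ι e a = X κ e' (L6 i) := by
  obtain ⟨σ, hσ, k⟩ := hx
  obtain ⟨π, x, y, z, u, σ', k1, k2⟩ := h.ra a h4 h5
  obtain rfl : σ = σ' := h.cf'.cw.uniq (k ▸ act_ev hσ) k1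
  obtain ⟨r, hr, rfl⟩ := k2.dec
  have e0 : Ev τ0 := by decide +kernel
  have hi0 : Hi τ0 := by decide +kernel
  have sq := sq_rest k2.hi hr (ev_eq_one h.cf'.inj (mul_mem hσ hσ) (by
    rw [ev_mul hσ hσ, ← k, X_sq h2.1 h5]))
  obtain ⟨n, hn, h0⟩ : ∃ n : Fin 2, Tp r n ∧ (n = 0 → r = 1) := by
    rcases h.rst k1 k2.hi hr h1 h2.1 h5 with rfl | ⟨-, rfl⟩
    · exact ⟨0, tp_zero.2 rfl, fun _ => rfl⟩
    · exact ⟨1, tp_E e' (by decide +kernel), fun k => absurd k (by decide)⟩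
  obtain ⟨j, j1, j2⟩ := tp_Er k2.hi hr sq.1 hn
  obtain ⟨l, l1, l2⟩ := tp_Er (hi0.mul k2.hi) hr (by
    rw [mul_assoc, ← mul_assoc (M _ _ _ _ _), Mτ, mul_assoc, sq.1, mul_one]; exact tp0.1) hn
  have m2 : E e' (τ0 * M π x y z u) * r ∈ alternatingGroup α := by
    rw [map_mul, mul_assoc]; exact mul_mem (e0.mem e') hσ
  have q1 : s * ev κ (E e' (M π x y z u) * r) = t * X ι e (τ0 * a) := by
    rw [← k, h.hs, X_mul e0 h5, mul_assoc]
  have q2 : s * ev κ (E e' (τ0 * M π x y z u) * r) = t * X ι e a := by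
    rw [map_mul, mul_assoc, ev_mul (e0.mem e') hσ, ← k, h.ht, mul_assoc]; rfl
  obtain ⟨m, hm⟩ := j1.even_iff.1 hσ
  obtain ⟨n0, i, hi⟩ := c2 π x y z u sq.1 n (by omega)
    (fun k' => by
      rw [show j + n = 0 by omega, tp_zero] at j1
      rw [j1, ev_one, ← X_one (ι := ι) (e := e)] at k
      rw [X_inj h.cf k h5] at h2
      exact absurd h2 (by decide +kernel))
    (fun k' => h.D2 h3 (q1 ▸ h.cj.trans (h.symm.ev4 ((by omega : j + n = 4) ▸ j1))))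
    (fun k' => by
      rw [show l + n = 0 by omega, tp_zero] at l1
      rw [l1, ev_one, mul_one, h.hs, mul_right_inj] at q2
      rw [← X_inj h.cf q2 e0 h5] at h2
      exact absurd h2 (by decide +kernel))
    (fun k' => h.D2 h2 (q2 ▸ h.cj.trans (h.symm.ev4 ((by omega : l + n = 4) ▸ l1))))
  exact ⟨i, by rw [k, h0 n0, mul_one, hi]; rfl⟩

theorem ev6 : ∀ i, Ev (L6 i) := by decide +kernel

theorem X_trans (k : a * v = v * b) : X κ (v.toEmbedding.trans e) b = X κ e a := by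
  rw [X, E_trans, ← k, mul_inv_cancel_right]; rfl

theorem Sx.n1 (h : Sx ι κ t s e e') : ∃ e', Sx ι κ t s e e' ∧
    X ι e (f 0 * f 1) = X κ e' (f 0 * f 1) ∧ X ι e (f 0 * f 2) = X κ e' (f 0 * f 2) := by
  obtain ⟨i, hi⟩ := h.e0 (h.der (c := f 0 * f 1) (f 0 * f 4) (d 0 1))
  obtain ⟨j, hj⟩ := h.e0 (h.der (c := f 0 * f 2) (f 0 * f 4) (d 0 2))
  obtain ⟨l, hl⟩ := h.e0 (h.der (c := f 1 * f 2) (f 1 * f 4) (d 1 2))
  obtain ⟨ρ, k1, k2, k3⟩ := c3 i j l (X_inj (e := e') h.cf' (by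
    rw [X_mul (ev6 i) (ev6 j), ← hi, ← hj, ← hl]; exact X_eq) ((ev6 i).mul (ev6 j)) (ev6 l))
  exact ⟨_, h.trans (v := M ρ false false false false) (by rw [← k3, mul_inv_cancel_right]),
    by rw [X_trans k1, hi], by rw [X_trans k2, hj]⟩

theorem Sx.norm (h : Sx ι κ t s e e') : ∃ e', Sx ι κ t s e e' ∧
    X ι e (f 0 * f 1) = X κ e' (f 0 * f 1) ∧ X ι e (f 0 * f 2) = X κ e' (f 0 * f 2) ∧
    (RA κ e' (X ι e (f 2 * f 4)) (f 2) ∨ RA κ e' (X ι e (f 2 * f 4)) (f 2 * τ0)) ∧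
    (RA κ e' (X ι e (d 0 1)) (d 0 1) ∨ RA κ e' (X ι e (d 0 1)) (d 0 1 * (f 2 * f 3))) := by
  obtain ⟨e', h, h1, h2⟩ := h.n1
  have r0 : RA κ e' (X ι e τ0) τ0 := h.pp ▸ RA.of
  have r1 : RA κ e' (X ι e (f 0 * f 1)) (f 0 * f 1) := h1 ▸ RA.of
  have r2 : RA κ e' (X ι e (f 0 * f 2)) (f 0 * f 2) := h2 ▸ RA.of
  have key : ∀ {a b c : Perm I} {a' b' c' : Perm I}, RA κ e' (X ι e a) a' → RA κ e' (X ι e b) b' →
      RA κ e' (X ι e c) c' → a * b = c → Ev a → Ev b → a' * b' = c' :=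
    fun k1 k2 k3 k ea eb => RA.uniq h.cf' (k1.mul k2) (X_eq (ι := ι) (e := e) k ea eb ▸ k3)
  have mul : ∀ {a b : Perm I} {a' b' : Perm I}, RA κ e' (X ι e a) a' → RA κ e' (X ι e b) b' →
      Ev a → Ev b → RA κ e' (X ι e (a * b)) (a' * b') :=
    fun k1 k2 ea eb => X_mul (ι := ι) (e := e) ea eb ▸ k1.mul k2
  obtain ⟨π, a, b, c, x, ry⟩ := h.ra (f 2 * f 4)
  obtain ⟨πv, av, bv, cv, xv, rv⟩ := h.ra (d 0 1 * d 2 3)
  obtain ⟨πw, aw, bw, cw, xw, rw'⟩ := h.ra (d 0 2 * d 1 3)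
  obtain ⟨πg, ag, bg, cg, xg, rg⟩ := h.ra (d 0 1)
  have r01 := mul r0 r1 (by decide +kernel) (by decide +kernel)
  have r02 := mul r0 r2 (by decide +kernel) (by decide +kernel)
  have r12 := mul r1 r2 (by decide +kernel) (by decide +kernel)
  have two : ∀ {a b c d : Perm I} {a' b' c' d' : Perm I}, RA κ e' (X ι e a) a' → RA κ e' (X ι e b) b' →
      RA κ e' (X ι e c) c' → RA κ e' (X ι e d) d' → a * b = c * d ∧ Ev a ∧ Ev b ∧ Ev c ∧ Ev d →
      a' * b' = c' * d' := fun k1 k2 k3 k4 ⟨k, ea, eb, ec, ed⟩ => key k1 k2 (mul k3 k4 ec ed) k ea eb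
  obtain rfl := c5 _ _ _ _ _ (two ry r1 r1 ry (by decide +kernel)) (two ry r2 r2 ry (by decide +kernel))
  obtain rfl := c4 _ _ _ _ _ (two rv r1 r1 rv (by decide +kernel)) (two rv r2 r02 rv (by decide +kernel))
  obtain rfl := c4' _ _ _ _ _ (two rw' r1 r01 rw' (by decide +kernel))
    (two rw' r2 r2 rw' (by decide +kernel))
  obtain rfl := c6 _ _ _ _ _ (two rg r1 r1 rg (by decide +kernel)) (two rg r2 r12 rg (by decide +kernel))
  obtain ⟨k1, k2⟩ := c5a _ _ _ _ _ _ _ _ (two (mul ry rv (by decide +kernel) (by decide +kernel)) ry r01 rv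
    (by decide +kernel))
  obtain ⟨k3, -⟩ := c5b _ _ _ _ _ _ _ _ (two (mul ry rw' (by decide +kernel) (by decide +kernel)) ry r2 rw'
    (by decide +kernel))
  have ky := c5c a b c x k1 k2 k3
  obtain ⟨u, hu, kg⟩ := c6a _ _ _ _ _ _ _ _ (key rg rg (X_one (ι := ι) (e := e) ▸ RA.one)
    (by decide +kernel) (by decide +kernel) (by decide +kernel)) (two rg rv rv rg (by decide +kernel))
  have hh : ∀ u ∈ [1, f 1], Hi u ∧ u * τ0 * u⁻¹ = τ0 ∧ f 0 * f 1 * u = u * (f 0 * f 1) ∧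
      f 0 * f 2 * u = u * (f 0 * f 2) ∧ f 2 * u = u * f 2 ∧ f 2 * τ0 * u = u * (f 2 * τ0) := by
    intro u hu
    simp only [List.mem_cons, List.not_mem_nil, or_false] at hu
    rcases hu with rfl | rfl <;> decide +kernel
  obtain ⟨u1, u2, u3, u4, u5, u6⟩ := hh u hu
  refine ⟨_, h.trans u2, by rw [X_trans u3, h1], by rw [X_trans u4, h2], ?_, ?_⟩
  · exact ky.imp (fun k => (k ▸ ry).trans u1 (by decide +kernel) u5)
      fun k => (k ▸ ry).trans u1 (by decide +kernel) u6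
  · exact kg.imp (fun k => rg.trans u1 (by decide +kernel) k) fun k => rg.trans u1 (by decide +kernel) k

end B10

end Cfsg.Agent.SAc
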