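import Mathlib
import Cfsg.Agent.SAc.Typ
import Cfsg.Agent.SAc.B10n
import Cfsg.Agent.SAc.B10u

/-! Type four without type two, degree at least ten. See `stubs/Cfsg/Agent/SAc/PLAN.md`. -/

set_option autoImplicit false
set_option linter.unusedSectionVars false
set_option synthInstance.maxSize 4096

namespace Cfsg.Agent.SAc

open Cfsg Cfsg.Agent.GT Cfsg.Agent.Loc.Mss Cfsg.Agent.Sym Cfsg.Agent.Loc.SO Cfsg.Agent.SAn Subgroup Equiv
open Cfsg.Agent.SAc.H3 (E E_e E_out E_inj E_swap tp_E)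
open Cfsg.Agent.StdB (C1 mem_C1)
open scoped commutatorElement

variable {α β γ : Type} [Fintype α] [DecidableEq α] [Fintype β] [DecidableEq β] [Fintype γ]
  [DecidableEq γ] {G : Type*} [Group G] [Finite G] {ι κ l : alternatingGroup α →* G}
  {ψ : Perm β →* G} {P L : Subgroup G} {t s u g o : G} {p q σ τ π r r' : Perm α} {k j : ℕ}

namespace B10

variable {e e' : I ↪ α} {a b c v w w' : Perm I}

/-- Three commuting conjugations. -/
theorem fin0 {H k a0 a1 a2 b0 b1 b2 : G} (c0 : k * a0 * k⁻¹ = a1) (c1 : k * a1 * k⁻¹ = a2)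
    (c2 : k * a2 * k⁻¹ = a0) (d0 : k * b0 * k⁻¹ = b1) (d1 : k * b1 * k⁻¹ = b2) (d2 : k * b2 * k⁻¹ = b0)
    (k0 : H * a0 * H⁻¹ = b0) (k1 : H * a1 * H⁻¹ = a1) (k2 : H * a2 * H⁻¹ = a2)
    (l1 : H * b1 * H⁻¹ = b1) (l2 : H * b2 * H⁻¹ = b2) :
    ∃ J : G, J * a0 * J⁻¹ = b0 ∧ J * a1 * J⁻¹ = b1 ∧ J * a2 * J⁻¹ = b2 := by
  have i : ∀ {x y : G}, k * x * k⁻¹ = y → k⁻¹ * y * k = x := fun h => by rw [← h]; group
  have m : ∀ x : G, H * (k * H * k⁻¹) * (k⁻¹ * H * k) * x * (H * (k * H * k⁻¹) * (k⁻¹ * H * k))⁻¹ =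
      H * (k * (H * (k⁻¹ * (k⁻¹ * (H * (k * x * k⁻¹) * H⁻¹) * k) * k) * H⁻¹) * k⁻¹) * H⁻¹ :=
    fun x => by simp only [mul_inv_rev, inv_inv, mul_assoc]
  refine ⟨H * (k * H * k⁻¹) * (k⁻¹ * H * k), ?_, ?_, ?_⟩
  · rw [m, c0, k1, i c0, i c2, k2, c2, k0]
  · rw [m, c1, k2, i c1, i c0, k0, d0, l1]
  · rw [m, c2, k0, i d2, i d1, l1, d1, l2]

theorem fin {H : G} (h : Cf ι t) (a0 a1 a2 b0 b1 b2 c : Perm I)
    (k0 : H * (t * X ι e a0) * H⁻¹ = t * X ι e b0) (k1 : H * (t * X ι e a1) = t * X ι e a1 * H)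
    (k2 : H * (t * X ι e a2) = t * X ι e a2 * H) (l1 : H * (t * X ι e b1) = t * X ι e b1 * H)
    (l2 : H * (t * X ι e b2) = t * X ι e b2 * H)
    (hc : (c * a0 * c⁻¹ = a1 ∧ c * a1 * c⁻¹ = a2 ∧ c * a2 * c⁻¹ = a0 ∧ c * b0 * c⁻¹ = b1 ∧
      c * b1 * c⁻¹ = b2 ∧ c * b2 * c⁻¹ = b0) ∧ (a0 * a1 = a2 ∧ a2 * a2 = 1 ∧ b0 * b1 = b2 ∧ b2 * b2 = 1) ∧
      (Ev a0 ∧ Ev a1 ∧ Ev a2 ∧ Ev b0 ∧ Ev b1 ∧ Ev b2 ∧ Ev c) ∧ (∀ z, a0 z = z → a1 z = z) ∧
      ∃ z, b0 z = z ∧ b1 z ≠ z := by decide +kernel) : False := by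
  obtain ⟨⟨c0, c1, c2, d0, d1, d2⟩, ⟨m1, m2, m3, m4⟩, ⟨e0, e1, e2, f0, f1, f2, ec⟩, hf, hn⟩ := hc
  have ct : ∀ w, X ι e w * t = t * X ι e w := fun w => h.cw.comm_ev _
  have cj : ∀ {a b : Perm I}, c * a * c⁻¹ = b → Ev a →
      X ι e c * (t * X ι e a) * (X ι e c)⁻¹ = t * X ι e b := fun k ea => by
    rw [← mul_assoc, ct, ← X_conj k ec ea]; group
  obtain ⟨J, j0, j1, j2⟩ := fin0 (cj c0 e0) (cj c1 e1) (cj c2 e2) (cj d0 f0) (cj d1 f1) (cj d2 f2) k0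
    (mul_inv_eq_iff_eq_mul.2 k1) (mul_inv_eq_iff_eq_mul.2 k2) (mul_inv_eq_iff_eq_mul.2 l1)
    (mul_inv_eq_iff_eq_mul.2 l2)
  have pr : ∀ {x y z : Perm I}, x * y = z → z * z = 1 → Ev x → Ev y → Ev z →
      t * X ι e x * (t * X ι e y) * (t * X ι e z) = t := fun k k' ex ey ez => by
    rw [mul_assoc t, ← mul_assoc (X ι e _), ct, ← mul_assoc t, ← mul_assoc t, h.iv.1, one_mul, X_eq k ex ey,
      ← mul_assoc, ct, mul_assoc, X_sq k' ez, mul_one]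
  have jt : J * t * J⁻¹ = t := by
    nth_rewrite 1 [← pr m1 m2 e0 e1 e2]
    rw [← conj_mul, ← conj_mul, j0, j1, j2, pr m3 m4 f0 f1 f2]
  have fx : ∀ {x y : G}, J * (t * x) * J⁻¹ = t * y → J * x * J⁻¹ = y := fun {x y} k => by
    rw [← mul_right_inj t, ← k]
    nth_rewrite 1 [← jt]
    group
  exact shape' h h jt (fx j0) (fx j1) hf hn e0 e1 f0 f1

theorem act_comm' (h : Cf ι t) (ha : Act ι g (E e w * r)) (hr : Lo e r)
    (k : w * a = a * w := by decide +kernel) (h1 : Hi a := by decide +kernel)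
    (h2 : Ev a := by decide +kernel) : X ι e a * g = g * X ι e a :=
  ((ha.comm_iff h.inj (h2.mem e)).2 (by
    rw [mul_assoc, ← hr.comm h1, ← mul_assoc, ← mul_assoc, ← map_mul, ← map_mul, k])).symm

theorem act_E (h1 : Act ι u (E e a * r)) (h2 : Act ι g (E e b)) (k : b * a = c := by decide +kernel) :
    Act ι (g * u) (E e c * r) := by
  rw [← k, map_mul, mul_assoc]; exact h2.mul h1

theorem act_E' (h1 : Act ι u (E e a)) (h2 : Act ι g (E e b)) (k : b * a = c := by decide +kernel) :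
    Act ι (g * u) (E e c) := by
  rw [← k, map_mul]; exact h2.mul h1

theorem Sx.sX (h : Sx ι κ t s e e') (k : τ0 * a = b := by decide +kernel) (ha : Ev a := by decide +kernel) :
    s * X ι e a = t * X ι e b := by
  rw [h.hs, mul_assoc, X_eq k (by decide +kernel) ha]

theorem Sx.conj_s (h : Sx ι κ t s e e') (k : c * a * c⁻¹ = b := by decide +kernel)
    (hc : Ev c := by decide +kernel) (ha : Ev a := by decide +kernel) :
    X κ e' c * (s * X κ e' a) * (X κ e' c)⁻¹ = s * X κ e' b := by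
  rw [← mul_assoc, h.symm.ct, ← X_conj k hc ha]; group

theorem Sx.comm_s (h : Sx ι κ t s e e') (k : c * a = a * c := by decide +kernel)
    (hc : Ev c := by decide +kernel) (ha : Ev a := by decide +kernel) :
    X κ e' c * (s * X κ e' a) = s * X κ e' a * X κ e' c := by
  rw [← mul_assoc, h.symm.ct, mul_assoc, X_comm k hc ha, mul_assoc]

/-- A conjugate `t X a` of `t` acting evenly on the second component. -/
theorem Sx.even (h : Sx ι κ t s e e') (ha : Act κ (t * X ι e a) (E e' b)) (h4 : Tp a 4 := by decide +kernel)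
    (k : a * τ0 = τ0 * a := by decide +kernel) (ea : Ev a := by decide +kernel)
    (eb : Ev b := by decide +kernel) : t * X ι e a = s * X κ e' b :=
  h.cf'.eq_of_even (h.cj.symm.trans (h.D4 h4)) (by rw [mul_assoc, h.cs k ea, ← mul_assoc, ← h.st, mul_assoc])
    ha (eb.mem e')

/-- The case in which `d 0 1` acts trivially on the rest. -/
theorem Sx.case1 (h : Sx ι κ t s e e') (h1 : X ι e (f 0 * f 1) = X κ e' (f 0 * f 1))
    (hy : Act κ (X ι e (f 2 * f 4)) (E e' (f 2) * r) ∨ Act κ (X ι e (f 2 * f 4)) (E e' (f 2 * τ0) * r))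
    (hr : Lo e' r)
    (hg : Act κ (X ι e (d 0 1)) (E e' (d 0 1)) ∨ Act κ (X ι e (d 0 1)) (E e' (d 0 1 * (f 2 * f 3)))) :
    False := by
  rcases hg with hg | hg
  · exact h.symm.D2 (w := d 0 1) (by decide +kernel) (h.even (a := τ0 * d 0 1) (b := d 0 1) (by
      rw [← h.sX rfl]; simpa using h.cf'.cen.mul hg) ▸ h.cj.symm.trans h.D4)
  have g2 : X ι e (d 0 1) = X κ e' (d 0 1 * (f 2 * f 3)) := by
    rw [← mul_right_inj s, ← h.even (a := τ0 * d 0 1) (by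
      rw [← h.sX rfl]; simpa using h.cf'.cen.mul hg), h.sX rfl]
  have e5 : X ι e (f 2 * f 3) = X κ e' (f 2 * f 3) := by
    rw [← X_eq (a := τ0) (b := f 0 * f 1), h.pp, h1]; exact X_eq
  have G2 : t * X ι e (d 0 1) = s * X κ e' (f 0 * f 1 * d 0 1) := g2 ▸ h.symm.sX
  have E5 : t * X ι e (f 2 * f 3) = s * X κ e' (f 0 * f 1) := e5 ▸ h.symm.sX
  have hh := h.conj_s (c := swap (0, false) (1, false) * f 2) (a := f 0 * f 1 * d 0 1) (b := f 0 * f 1)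
  rcases hy with hy | hy
  · refine h.D2 (w := f 3 * f 4) (by decide +kernel) ((h.D4 (w := d 0 1 * (f 2 * f 4))).trans
      (isConj_iff.2 ⟨X κ e' (swap (0, false) (1, false) * f 2), ?_⟩))
    rw [X_mul (a := d 0 1), ← X_eq (c := f 3 * f 4) (a := f 2 * f 3) (b := f 2 * f 4), ← mul_assoc t, ← mul_assoc t, G2,
      E5, ← hh, ← mul_assoc, mul_assoc _ (X ι e _), mul_assoc _ _ (X ι e _), mul_right_inj, eq_comm,
      inv_mul_eq_iff_eq_mul, ← mul_assoc, act_comm' h.cf' hy hr, mul_inv_cancel_right]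
  · have a4 : Act κ (t * X ι e (f 2 * f 4)) (E e' (f 2) * r) := act_E hy h.act_t
    have a3 : Act κ (t * X ι e (f 3 * f 4)) (E e' (f 3) * r) := by
      rw [← X_eq (c := f 3 * f 4) (a := f 2 * f 3) (b := f 2 * f 4), ← mul_assoc, E5, mul_assoc]
      simpa using h.cf'.cen.mul (act_E (c := f 3) hy X_act)
    refine fin h.cf (d 0 1) (f 0 * f 1 * d 0 1) (f 0 * f 1) (f 2 * f 3) (f 3 * f 4) (f 2 * f 4)
      (swap (0, true) (1, true) * swap (0, true) (1, false) * (d 2 4 * d 2 3))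
      (H := X κ e' (swap (0, false) (1, false) * f 2)) (by rw [G2, E5, hh]) ?_ ?_
      (act_comm' h.cf' a3 hr) (act_comm' h.cf' a4 hr)
    · rw [X_mul (a := f 0 * f 1), h1, g2, X_eq (c := τ0 * d 0 1), h.symm.sX (b := d 0 1), h.comm_s]
    · rw [h1, h.symm.sX (b := f 2 * f 3), h.comm_s]

/-- Involutions of the same type. -/
theorem Sx.same (h : Sx ι κ t s e e') (h1 : Act κ (t * X ι e a) (E e' v)) (h2 : Act κ (t * X ι e b) (E e' w))
    (k : Tp v 3 ∧ Tp w 3 ∧ Tp a 4 ∧ Tp b 2 ∧ Ev a ∧ Ev b ∧ a * τ0 = τ0 * a ∧ b * τ0 = τ0 * b := by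
      decide +kernel) : False := by
  obtain ⟨k1, k2, k3, k4, ea, eb, ka, kb⟩ := k
  obtain ⟨π, hπ, k⟩ := (tp_E e' k1).alt_conj (tp_E e' k2)
  have cm : ∀ {a : Perm I}, Ev a → a * τ0 = τ0 * a → t * X ι e a * s = s * (t * X ι e a) := fun ea k => by
    rw [mul_assoc, h.cs k ea, ← mul_assoc, ← h.st, mul_assoc]
  have sq : ∀ {a : Perm I}, Ev a → a * a = 1 → t * X ι e a * (t * X ι e a) = 1 := fun ea k => by
    rw [mul_assoc, ← mul_assoc (X ι e _), h.ct, ← mul_assoc, ← mul_assoc, h.tt, one_mul, X_sq k ea]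
  have cu : IsConj t (ev κ π * (t * X ι e a) * (ev κ π)⁻¹) := (h.D4 k3).trans (isConj_iff.2 ⟨_, rfl⟩)
  have cs := h.cf'.cw.comm_ev π
  obtain ⟨o, ho, k'⟩ := h.cf'.same_act (u := ev κ π * (t * X ι e a) * (ev κ π)⁻¹) (by
      rw [mul_assoc, (show Commute _ _ from cs).inv_left.eq, ← mul_assoc, mul_assoc _ _ s, cm ea ka,
        ← mul_assoc, cs]; group) (cm eb kb)
    (by rw [conj_mul, sq ea k3.1]; group) (sq eb k4.1) (k ▸ (act_ev hπ).conj h1) h2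
  rcases k' with k' | k'
  · exact h.D2 k4 (cu.trans (isConj_iff.2 ⟨o, k'.symm⟩))
  · refine h.cf.conj_not_mem (s := X ι e (τ0 * b)) (cu.trans (isConj_iff.2 ⟨o, ?_⟩)) X_mem
    rw [← mul_right_inj s, ← mul_assoc, ← mul_assoc s, ← ho.1, mul_assoc o s, ← k', h.sX (b := b) (by
      rw [← mul_assoc, tp0.1, one_mul]) (Ev.mul (by decide +kernel) eb)]

theorem Sx.case2 (h : Sx ι κ t s e e') (hc : Fintype.card α = 10)
    (h1 : X ι e (f 0 * f 1) = X κ e' (f 0 * f 1)) (h2 : X ι e (f 0 * f 2) = X κ e' (f 0 * f 2))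
    (hy : Act κ (X ι e (f 2 * f 4)) (E e' (f 2 * τ0)) ∨ Act κ (X ι e (f 2 * f 4)) (E e' (f 2 * τ0 * f 4)))
    (hg : Act κ (X ι e (d 0 1)) (E e' (d 0 1 * f 4)) ∨
      Act κ (X ι e (d 0 1)) (E e' (d 0 1 * (f 2 * f 3) * f 4))) : False := by
  have a1 : Act κ (X ι e (f 0 * f 1)) (E e' (f 0 * f 1)) := h1 ▸ X_act
  rcases hg with hg | hg
  · rcases hy with hy | hy
    · exact h.caseU hc h1 h2 hy hg
    have e5 : X ι e (f 2 * f 3) = X κ e' (f 2 * f 3) := by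
      rw [← X_eq (a := τ0) (b := f 0 * f 1), h.pp, h1]; exact X_eq
    have k : t * X ι e (f 0 * f 1 * (f 2 * f 4)) = s * X κ e' (f 0 * f 1 * (f 2 * f 4)) := h.even (by
      rw [X_mul]; exact act_E' (act_E' (c := f 2 * τ0 * f 4 * (f 0 * f 1)) hy a1) h.act_t)
    have E4 : t * X ι e (f 2 * f 4) = s * X κ e' (f 2 * f 4) := by
      rw [← X_eq (a := f 2 * f 4) (b := f 0 * f 1) (c := f 0 * f 1 * (f 2 * f 4)),
        ← X_eq (a := f 2 * f 4) (b := f 0 * f 1) (c := f 0 * f 1 * (f 2 * f 4)), h1,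
        ← mul_assoc, ← mul_assoc] at k
      exact mul_right_cancel k
    have E3 : t * X ι e (f 3 * f 4) = s * X κ e' (f 3 * f 4) := by
      rw [← X_eq (a := f 2 * f 4) (b := f 2 * f 3), ← mul_assoc, E4, e5, mul_assoc, X_eq (c := f 3 * f 4)]
    have a2 : Act κ (t * X ι e (d 0 1)) (E e' (τ0 * (d 0 1 * f 4))) := act_E' hg h.act_t
    have a3 : Act κ (t * X ι e (f 0 * f 1 * d 0 1)) (E e' (τ0 * (f 0 * f 1 * (d 0 1 * f 4)))) := by
      rw [X_mul]; exact act_E' (act_E' hg a1 rfl) h.act_t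
    refine fin h.cf (f 0 * f 1) (d 0 1) (f 0 * f 1 * d 0 1) (f 3 * f 4) (f 2 * f 4) (f 2 * f 3)
      (swap (0, true) (1, true) * swap (0, true) (1, false) * (d 2 4 * d 2 3))
      (H := X κ e' (d 2 4)) ?_ (act_comm a2).symm (act_comm a3).symm ?_ ?_
    · rw [h1, h.symm.sX (b := f 2 * f 3), E3]; exact h.conj_s
    · rw [E4, h.comm_s]
    · rw [e5, h.symm.sX (b := f 0 * f 1), h.comm_s]
  · have a3 : Act κ (t * X ι e (f 0 * f 1 * d 0 1)) (E e' (d 0 1 * f 4)) := by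
      rw [X_mul]; exact act_E' (act_E' hg a1 rfl) h.act_t
    rcases hy with hy | hy
    · exact h.same (a := f 0 * f 1 * (f 2 * f 4)) (v := f 0 * f 1 * f 2) (by
        rw [X_mul]; exact act_E' (act_E' hy a1 rfl) h.act_t) a3
    · exact h.same (a := d 0 1 * (f 2 * f 4)) (v := d 0 1 * f 3) (by
        rw [X_mul]; exact act_E' (act_E' hy hg rfl) h.act_t) a3

theorem Sx.main (h : Sx ι κ t s e e') : Fintype.card α = 10 ∧ ∃ u x y, T1 ι t u x y := by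
  obtain ⟨e', h, h1, h2, hy, hg⟩ := h.norm
  obtain ⟨r, hr, hy⟩ : ∃ r, Lo e' r ∧ (Act κ (X ι e (f 2 * f 4)) (E e' (f 2) * r) ∨
      Act κ (X ι e (f 2 * f 4)) (E e' (f 2 * τ0) * r)) := by
    rcases hy with ⟨σ, k1, k2⟩ | ⟨σ, k1, k2⟩ <;> obtain ⟨r, hr, rfl⟩ := k2.dec
    exacts [⟨r, hr, .inl k1⟩, ⟨r, hr, .inr k1⟩]
  obtain ⟨r', hg, hr'⟩ : ∃ r', (Act κ (X ι e (d 0 1)) (E e' (d 0 1) * r') ∨
      Act κ (X ι e (d 0 1)) (E e' (d 0 1 * (f 2 * f 3)) * r')) ∧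
      (r' = 1 ∨ Fintype.card α = 10 ∧ r' = E e' (f 4)) := by
    rcases hg with ⟨σ, k1, k2⟩ | ⟨σ, k1, k2⟩ <;> obtain ⟨r, hr, rfl⟩ := k2.dec
    exacts [⟨r, .inl k1, h.rst k1 k2.hi hr⟩, ⟨r, .inr k1, h.rst k1 k2.hi hr⟩]
  rcases hr' with rfl | ⟨hc, rfl⟩
  · exact (h.case1 h1 hy hr (by simpa using hg)).elim
  rw [← map_mul, ← map_mul] at hg
  have sy : s * X ι e (f 2 * f 4) = t * X ι e (τ0 * (f 2 * f 4)) := h.sX rfl
  rcases hy with hy | hy
  · rcases hr.ten hc with rfl | rfl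
    · have : Sw α s (s * X ι e (f 2 * f 4)) := ⟨κ, e' (2, false), e' (2, true), h.cf', fun k => by
          simpa using e'.injective k, sy ▸ h.cj.symm.trans h.D4, by rw [mul_assoc, h.cs], by
          simpa [f, E_swap] using h.cf'.cen.mul hy⟩
      obtain ⟨g, hg⟩ := isConj_iff.1 h.cj.symm
      have k := this.conj g
      rw [hg] at k
      obtain ⟨x, y, k⟩ := k.t1 h.cf.cw
      exact ⟨hc, _, x, y, k⟩
    · rw [← map_mul] at hy
      exact (h.symm.D2 (w := f 2 * f 4) (by decide +kernel) (h.even (a := τ0 * (f 2 * f 4)) (b := f 2 * f 4)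
        (by rw [← sy]; simpa using h.cf'.cen.mul hy) ▸ h.cj.symm.trans h.D4)).elim
  · refine (h.case2 hc h1 h2 ?_ hg).elim
    rcases hr.ten hc with rfl | rfl
    · exact .inl (by simpa using hy)
    · exact .inr (by rwa [← map_mul] at hy)

end B10

theorem Cf.b10 (h : Cf ι t) (h10 : 10 ≤ Fintype.card α) (h4 : Sg ι t 4) (h2 : ¬ Sg ι t 2) :
    Fintype.card α = 10 ∧ ∃ u x y, T1 ι t u x y := by
  obtain ⟨κ, s, e, e', k⟩ := B10.exists_sx h h10 h4 h2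
  exact k.main

end Cfsg.Agent.SAc
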