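import Mathlib
import Cfsg.Agent.SAc.H3A

/-! The elements of type five form pairs of type one. See `stubs/Cfsg/Agent/SAc/PLAN.md`. -/

set_option autoImplicit false
set_option linter.unusedSectionVars false

namespace Cfsg.Agent.SAc

open Cfsg Cfsg.Agent.GT Cfsg.Agent.Loc.Mss Cfsg.Agent.Sym Cfsg.Agent.Loc.SO Cfsg.Agent.SAn Subgroup Equiv
open Cfsg.Agent.StdB (C1 mem_C1)
open scoped commutatorElement

variable {α β γ : Type} [Fintype α] [DecidableEq α] [Fintype β] [DecidableEq β] [Fintype γ]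
  [DecidableEq γ] {G : Type*} [Group G] [Finite G] {ι κ l : alternatingGroup α →* G}
  {ψ : Perm β →* G} {X P M L : Subgroup G} {t s u g o : G} {p q σ τ π : Perm α} {k j : ℕ}

/-- The fixed-point-free involution on the last eight points. -/
def z8 : Perm (Fin 12) := swap 4 5 * swap 6 7 * swap 8 9 * swap 10 11

namespace H5

open H3

theorem free (hc : Fintype.card α = 2 * k) (h : Tp σ k) (x : α) : σ x ≠ x :=
  Perm.mem_support.1 (by rw [Finset.eq_univ_of_card _ (h.2.trans hc.symm)]; exact Finset.mem_univ x)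

theorem fix_le (h : Tp σ k) {S : Finset α} (hS : ∀ x ∈ S, σ x = x) : S.card + 2 * k ≤ Fintype.card α := by
  have h1 : S ⊆ σ.supportᶜ := fun x hx => Finset.mem_compl.2 (Perm.notMem_support.2 (hS x hx))
  have h2 := Finset.card_le_card h1
  have h3 := h.le
  rw [Finset.card_compl, h.2] at h2
  omega

theorem comm_of_sq {H : Type*} [Group H] {a b : H} (ha : a * a = 1) (hb : b * b = 1)
    (hab : a * b * (a * b) = 1) : a * b = b * a := by
  rw [eq_inv_of_mul_eq_one_left hab, mul_inv_rev, ← eq_inv_of_mul_eq_one_left ha,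
    ← eq_inv_of_mul_eq_one_left hb]

theorem comm_swap {x y : β} {r : Perm β} (hxy : x ≠ y) (h : r * swap x y = swap x y * r) :
    (r x = x ∧ r y = y) ∨ (r x = y ∧ r y = x) := by
  have h1 : r y = swap x y (r x) := by simpa using congrArg (· x) h
  by_cases k : r x = x
  · exact .inl ⟨k, by rw [h1, k, swap_apply_left]⟩
  by_cases k' : r x = y
  · exact .inr ⟨k', by rw [h1, k', swap_apply_right]⟩
  rw [swap_apply_of_ne_of_ne k k'] at h1
  exact absurd (r.injective h1).symm hxy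

/-- The elements that flip some of the transpositions of `w`. -/
def Bz (w : Perm β) (hw : w * w = 1) : Subgroup (Perm β) where
  carrier := {r | ∀ i, r i = i ∨ r i = w i}
  one_mem' _ := .inl rfl
  mul_mem' {a b} ha hb i := by
    have h2 : w (w i) = i := by rw [← Perm.mul_apply, hw, Perm.one_apply]
    rw [Perm.mul_apply]
    rcases hb i with k | k <;> rw [k]
    · exact ha i
    · exact (ha (w i)).symm.imp (·.trans h2) id
  inv_mem' {a} ha i := by
    rcases ha (a⁻¹ i) with k | k <;> rw [← Perm.mul_apply, mul_inv_cancel, Perm.one_apply] at k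
    · exact .inl k.symm
    · exact .inr (w.injective (by rw [← k, ← Perm.mul_apply, hw, Perm.one_apply]))

theorem Bz_sq {w r : Perm β} {hw : w * w = 1} (hr : r ∈ Bz w hw) : r * r = 1 := Perm.ext fun i => by
  rw [Perm.mul_apply, Perm.one_apply]
  rcases hr i with k | k
  · rw [k, k]
  rcases hr (w i) with k' | k'
  · have : w i = i := r.injective (k'.trans k.symm)
    rw [k, k', this]
  · rw [k, k', ← Perm.mul_apply, hw, Perm.one_apply]

theorem Bz_comm {w r r' : Perm β} {hw : w * w = 1} (hr : r ∈ Bz w hw) (hr' : r' ∈ Bz w hw) :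
    r * r' = r' * r := comm_of_sq (Bz_sq hr) (Bz_sq hr') (Bz_sq (mul_mem hr hr'))

theorem Bz_pg {w : Perm β} (hw : w * w = 1) : IsPGroup 2 (Bz w hw) :=
  pg_iff.2 fun r hr => ⟨1, by rw [pow_one, sq, Bz_sq hr]⟩

/-- An element of the symmetric group commuting with a transposition is determined by its action. -/
theorem dec (h : Hs ψ) {x y : β} (hxy : x ≠ y) {η : Perm β} (hc : η * swap x y = swap x y * η)
    {σ : Perm (Rm x y)} (ha : Act (sub ψ fun z => z ≠ x ∧ z ≠ y) (ψ η) σ) :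
    η = Perm.ofSubtype σ ∨ η = swap x y * Perm.ofSubtype σ := by
  rcases comm_swap hxy hc with ⟨h1, h2⟩ | ⟨h1, h2⟩
  · obtain ⟨p, rfl, a⟩ := act_res h h1 h2
    exact .inl (by rw [(h.cf hxy).cw.uniq a ha])
  · obtain ⟨p, e, a⟩ := act_res h (r := swap x y * η) (x := x) (y := y)
      (by rw [Perm.mul_apply, h1, swap_apply_right]) (by rw [Perm.mul_apply, h2, swap_apply_left])
    have := (h.cf hxy).cen.mul ha
    rw [← map_mul, one_mul] at this
    exact .inr (by rw [(h.cf hxy).cw.uniq this a, e, swap_mul_self_mul])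

theorem disj_sub {x y : β} (σ : Perm (Rm x y)) : (swap x y).Disjoint (Perm.ofSubtype σ) :=
  disj_swap (Perm.ofSubtype_apply_of_not_mem σ fun k => k.1 rfl)
    (Perm.ofSubtype_apply_of_not_mem σ fun k => k.2 rfl)

theorem disj_sub' {Q : β → Prop} [DecidablePred Q] {σ τ : Perm {z // Q z}} (h : σ.Disjoint τ) :
    (Perm.ofSubtype σ).Disjoint (Perm.ofSubtype τ) := fun z => by
  by_cases k : Q z
  · rw [Perm.ofSubtype_apply_of_mem _ k, Perm.ofSubtype_apply_of_mem _ k]
    exact (h ⟨z, k⟩).imp (congrArg Subtype.val) (congrArg Subtype.val)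
  · exact .inl (Perm.ofSubtype_apply_of_not_mem _ k)

theorem fix_swap (h10 : Fintype.card α = 10) {a b c d m n : α} (h4 : D4 a b c d) (hmn : m ≠ n)
    (h1 : Tp σ 3) (h2 : Fx a b c d σ) (h3 : Fx a b c d (swap m n)) (h5 : σ * τ = swap m n)
    (h6 : σ * τ = τ * σ) : τ.Disjoint (swap m n) := by
  have hm : σ m ≠ m := fun k => by
    have mv : ∀ x, swap m n x = x → m ≠ x := fun x hx e => by
      rw [← e, swap_apply_left] at hx
      exact hmn hx.symm
    have := fix_le h1 (S := {m, a, b, c, d}) (by simp [k, h2.a, h2.b, h2.c, h2.d])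
    rw [Finset.card_insert_of_notMem (by simp [mv a h3.a, mv b h3.b, mv c h3.c, mv d h3.d]),
      ← P0.supp h4, (tp_two.2 ⟨a, b, c, d, h4, rfl⟩).2] at this
    omega
  obtain ⟨k1, k2⟩ := (comm_swap hmn (r := σ) (by rw [← h5, mul_assoc, ← h6])).resolve_left fun k => hm k.1
  have e : τ = σ * swap m n := by rw [← h5, ← mul_assoc, h1.1, one_mul]
  exact (disj_swap (by rw [e, Perm.mul_apply, swap_apply_left, k2])
    (by rw [e, Perm.mul_apply, swap_apply_right, k1])).symm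

/-- The full fixed-point-free involution. -/
def w12 : Perm (Fin 12) := swap 0 1 * swap 2 3 * z8

theorem tp_y1 : Tp (swap 0 1 * z8) 5 := ⟨by decide, by decide⟩
theorem tp_y2 : Tp (swap 2 3 * z8) 5 := ⟨by decide, by decide⟩

end H5

open H3 H5

theorem odd_cent_free (h10 : Fintype.card α = 10) (h1 : Tp σ 5) (h2 : Tp τ 4) (h3 : Tp (σ * τ) 5)
    (h4 : π * σ = σ * π) (h5 : π * τ = τ * π) (ho : Odd (orderOf π)) : π = 1 := by
  have f1 := free h10 h1
  have f3 := free h10 h3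
  have s2 : ∀ x, σ (σ x) = x := fun x => by rw [← Perm.mul_apply, h1.1, Perm.one_apply]
  have t2 : ∀ x, τ (τ x) = x := fun x => by rw [← Perm.mul_apply, h2.1, Perm.one_apply]
  have st : ∀ x, τ (σ x) = σ (τ x) := fun x => by
    rw [← Perm.mul_apply, ← comm_of_sq h1.1 h2.1 h3.1, Perm.mul_apply]
  have ps : ∀ x, π (σ x) = σ (π x) := fun x => by rw [← Perm.mul_apply, h4, Perm.mul_apply]
  have pt : ∀ x, π (τ x) = τ (π x) := fun x => by rw [← Perm.mul_apply, h5, Perm.mul_apply]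
  let O : α → Finset α := fun y => {y, σ y, τ y, σ (τ y)}
  have mO : ∀ x y, x ∈ O y ↔ x = y ∨ x = σ y ∨ x = τ y ∨ x = σ (τ y) := fun x y => by
    simp only [O, Finset.mem_insert, Finset.mem_singleton]
  have cO : ∀ y, τ y ≠ y → (O y).card = 4 := fun y hy => Finset.card_eq_four.2
    ⟨_, _, _, _, (f1 y).symm, hy.symm, (f3 y).symm, fun k => f3 y (by rw [Perm.mul_apply, ← k, s2]),
      σ.injective.ne hy.symm, (f1 _).symm, rfl⟩
  have dO : ∀ y y', y' ∉ O y → Disjoint (O y) (O y') := fun y y' hy => Finset.disjoint_left.2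
    fun w k k' => hy (by
      have : y' ∈ O w := by
        rw [mO] at k' ⊢
        rcases k' with rfl | rfl | rfl | rfl <;> simp only [s2, t2, st, true_or, or_true]
      rw [mO] at this k ⊢
      rcases k with rfl | rfl | rfl | rfl <;> rcases this with rfl | rfl | rfl | rfl <;>
        simp only [s2, t2, st, true_or, or_true])
  have key : ∀ x, π x ∈ O x ∨ π (π x) ∈ O x := fun x => by
    by_contra hn
    rw [not_or] at hn
    by_cases hx : τ x = x
    · have k := hn.1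
      rw [mO] at k
      push Not at k
      have := fix_le h2 (S := {x, σ x, π x}) (by simp [hx, st, ← pt])
      rw [Finset.card_eq_three.2 ⟨_, _, _, (f1 x).symm, k.1.symm, k.2.1.symm, rfl⟩] at this
      omega
    · have hx1 : τ (π x) ≠ π x := fun k => hx (π.injective (by rw [pt, k]))
      have hx2 : τ (π (π x)) ≠ π (π x) := fun k => hx1 (π.injective (by rw [pt, k]))
      have h12 : π (π x) ∉ O (π x) := fun k => hn.1 (by
        rw [mO, ← pt, ← ps, ← ps] at k
        simpa only [mO, π.injective.eq_iff] using k)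
      have := Finset.card_le_univ (O x ∪ O (π x) ∪ O (π (π x)))
      rw [Finset.card_union_of_disjoint (Finset.disjoint_union_left.2 ⟨dO _ _ hn.2, dO _ _ h12⟩),
        Finset.card_union_of_disjoint (dO _ _ hn.1), cO _ hx, cO _ hx1, cO _ hx2] at this
      omega
  have p4 : π ^ 4 = 1 := Perm.ext fun x => by
    show π (π (π (π x))) = x
    rcases key x with k | k <;> rw [mO] at k
    · have : π (π x) = x := by
        rcases k with k | k | k | k <;> conv_lhs => rw [k] <;> simp only [ps, pt, k, s2, t2, st]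
      rw [this, this]
    · rcases k with k | k | k | k <;> conv_lhs => rw [k] <;> simp only [ps, pt, k, s2, t2, st]
  exact orderOf_eq_one_iff.1 (Nat.Coprime.eq_one_of_dvd
    ((Nat.coprime_two_right.2 ho).pow_right 2) (orderOf_dvd_of_pow_eq_one p4))

theorem Hs.sw55a {ψ : Perm (Fin 12) →* G} (h : Hs ψ) (h3 : Ty ψ 3) :
    Sw (Fin 10) (ψ (swap 0 1 * z8)) (ψ (swap 2 3 * z8)) := by
  have h01 : (0 : Fin 12) ≠ 1 := by decide
  have hw : w12 * w12 = 1 := by decide
  have h5 := (h.card3 h3).2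
  let e : Fin 6 ↪ Fin 12 := ⟨![0, 1, 4, 5, 6, 7], by decide⟩
  have cj : IsConj (ψ (swap 0 1)) (ψ (swap 0 1 * swap 4 5 * swap 6 7)) :=
    h3.all h01 ⟨by decide, by decide⟩
  obtain ⟨g, hg, hP⟩ := h.into h01 cj ((Bz_pg hw).map ψ) (by
    rintro _ ⟨r, hr, rfl⟩
    exact mem_C1.2 (comm_map (Bz_comm hr (show ∀ i, _ by decide))))
  have h' := h.toC g
  have h3' := h3.toC g
  set ψ' := (MulAut.conj g).toMonoidHom.comp ψ with hψ
  have hx : ψ' (swap 0 1) = ψ (swap 0 1 * swap 4 5 * swap 6 7) := hg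
  have hr : ∀ r, (∀ i, r i = i ∨ r i = w12 i) → ∃ η, ψ' η = ψ r ∧ η * swap 0 1 = swap 0 1 * η :=
    fun r hr => by
      obtain ⟨_, ⟨η, rfl⟩, k⟩ := hP ⟨r, hr, rfl⟩
      refine ⟨η, k, h'.inj ?_⟩
      rw [map_mul, map_mul, hx, show ψ' η = ψ r from k]
      exact comm_map (Bz_comm (hw := hw) hr (show ∀ i, _ by decide))
  have cf := h'.cf h01
  rw [hx] at cf
  obtain ⟨-, a, b, c, d, h4, a1, -, k⟩ := h.three h3 (card_Rm h01).symm e cf
  obtain ⟨s2, a2, f2, k2, -⟩ := k (swap 2 3) (by decide)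
  obtain ⟨s5, a5, f5, -, k5, -⟩ := k (swap 8 9 * swap 10 11) (by decide)
  obtain ⟨μ, a6, f6, -, -, k6, -⟩ := k (swap 2 3 * (swap 8 9 * swap 10 11)) (by decide)
  replace k2 := k2 ⟨by decide, by decide⟩
  replace k5 := k5 ⟨by decide, by decide⟩
  replace k6 := k6 ⟨by decide, by decide⟩
  obtain ⟨m, n, hmn, rfl⟩ := tp_one.1 k6
  have d56 := fix_swap (card_eq (α := Fin 10) h01 (by simp)) h4 hmn k2 f2 f6
    (cf.cw.uniq (a2.mul a5) (by rwa [← map_mul]))
    (a2.comm cf.inj (le_trans (by decide) cf.eight) a5 (comm_map (by decide)))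
  obtain ⟨η1, e1, c1⟩ := hr (swap 0 1 * z8) (by decide)
  obtain ⟨η2, e2, c2⟩ := hr (swap 2 3 * z8) (by decide)
  have od : ∀ η r n, ψ' η = ψ r → Tp r 5 → Tp η n → Odd n := fun η r n k1 k2 k3 =>
    h'.odd ⟨η, 0, 1, h01, k3, by rw [hx, k1]; exact cj.symm.trans (h5.all h01 k2)⟩
  have b1 := cf.cen.mul a5
  rw [← map_mul, one_mul, show swap 0 1 * swap 4 5 * swap 6 7 * (swap 8 9 * swap 10 11) =
    swap 0 1 * z8 by decide, ← e1] at b1
  have b2 : Act _ (ψ _ * ψ (swap 0 1) * ψ _) _ := (cf.cen.mul a1).mul a6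
  rw [← map_mul, ← map_mul, one_mul, show swap 0 1 * swap 4 5 * swap 6 7 * swap 0 1 *
    (swap 2 3 * (swap 8 9 * swap 10 11)) = swap 2 3 * z8 by decide, ← e2] at b2
  have t2 := (tp_two.2 ⟨a, b, c, d, h4, rfl⟩).mul_disjoint k6 (disj_dt f6)
  have q1 := (H5.dec h' h01 c1 b1).resolve_left fun k =>
    absurd (od _ _ _ e1 tp_y1 (k ▸ Tp.ofSubtype.2 k5)) (by decide)
  have q2 := (H5.dec h' h01 c2 b2).resolve_right fun k => absurd (od _ _ _ e2 tp_y2
    (k ▸ (tp_swap h01).mul_disjoint (Tp.ofSubtype.2 t2) (disj_sub _))) (by decide)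
  rw [← e1, ← e2, q1, q2]
  exact h'.sw33 h3' (by simp) ((tp_swap h01).mul_disjoint (Tp.ofSubtype.2 k5) (disj_sub _))
    (Tp.ofSubtype.2 t2) ((disj_sub _).mul_left (disj_sub' ((disj_dt f5).symm.mul_right d56)))

theorem Hs.sw55b {ψ : Perm (Fin 12) →* G} (h : Hs ψ) (h3 : ¬ Ty ψ 3) (h5 : Ty ψ 5) :
    Sw (Fin 10) (ψ (swap 0 1 * z8)) (ψ (swap 2 3 * z8)) := by
  have h01 : (0 : Fin 12) ≠ 1 := by decide
  have h23 : (2 : Fin 12) ≠ 3 := by decide
  have hc : Fintype.card (Fin 12) = Fintype.card (Fin 10) + 2 := by simp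
  have cj := h5.all h01 tp_y1
  have cj2 := h5.all h23 tp_y1
  obtain ⟨κ, h'⟩ := exists_cf h hc h01 cj
  have ty : ∀ u σ n, IsConj (ψ (swap 0 1 * z8)) u → u * ψ (swap 0 1 * z8) = ψ (swap 0 1 * z8) * u →
      Act κ u σ → Tp σ n → n = 0 ∨ n = 1 ∨ n = 4 ∨ n = 5 := fun u σ n k1 k2 k3 k4 => by
    have := k4.le
    rw [Fintype.card_fin] at this
    rcases h.rel_type hc h01 cj h' k1 k2 k3 k4 with ⟨k5, k6⟩ | ⟨k5, k6⟩
    · have : n ≠ 3 := fun e => h3 (e ▸ k6)
      obtain ⟨m, rfl⟩ := k5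
      omega
    · have : n + 1 ≠ 3 := fun e => h3 (e ▸ k6)
      obtain ⟨m, rfl⟩ := k5
      omega
  have sq : ∀ (r : Perm (Fin 12)) σ, r * r = 1 → Act κ (ψ r) σ → σ * σ = 1 := fun r σ k a =>
    h'.cw.uniq (a.mul a) (by rw [← map_mul, k, map_one]; exact Act.one)
  -- `u₂` has type five
  have m2 : ψ (swap 2 3) * ψ (swap 0 1 * z8) = ψ (swap 0 1 * z8) * ψ (swap 2 3) := comm_map (by decide)
  obtain ⟨σ, aσ⟩ := h'.reg _ m2
  obtain ⟨n, kσ⟩ := tp_exists (sq _ _ (by decide) aσ)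
  obtain ⟨κ2, h2⟩ := h'.emb cj2.symm
  obtain ⟨σ', aσ'⟩ := h2.reg _ m2.symm
  have kσ' := tp_act h hc h23 tp_y1 (by decide) (by decide) h2.cw aσ'
  have oσ : ¬ Even n := fun k => absurd (kσ'.even_iff.1
    ((h'.par_symm h2 cj2.symm m2 aσ aσ').1 (kσ.even_iff.2 k))) (by decide)
  obtain rfl : n = 5 := by
    rcases ty _ _ _ cj2.symm m2 aσ kσ with rfl | rfl | rfl | rfl
    · exact absurd (by decide) oσ
    · obtain ⟨x, y, hxy, rfl⟩ := tp_one.1 kσ
      obtain ⟨a, b, k⟩ := T1.symm (⟨hxy, cj2.symm, m2, aσ⟩ : T1 κ _ _ _ _) h'.cw h2.cw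
      rw [h2.cw.uniq aσ' k.act] at kσ'
      exact absurd (kσ'.unique (tp_swap k.ne)) (by decide)
    · exact absurd (by decide) oσ
    · rfl
  -- `u₁` has type four
  have m1 : ψ (swap 0 1) * ψ (swap 0 1 * z8) = ψ (swap 0 1 * z8) * ψ (swap 0 1) := comm_map (by decide)
  obtain ⟨τ, aτ⟩ := h'.reg _ m1
  obtain ⟨n, kτ⟩ := tp_exists (sq _ _ (by decide) aτ)
  obtain ⟨κ1, h1⟩ := h'.emb cj.symm
  obtain ⟨τ', aτ'⟩ := h1.reg (ψ z8) (comm_map (by decide))
  have kτ' := tp_act h hc h01 (r := z8) (k := 4) ⟨by decide, by decide⟩ (by decide) (by decide) h1.cw aτ'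
  have eτ : Even n := kτ.even_iff.1 ((h'.par_symm h1 cj.symm m1 aτ (by
    have := h1.cen.mul aτ'
    rwa [← map_mul, one_mul] at this)).2 (kτ'.even_iff.2 (by decide)))
  obtain rfl : n = 4 := by
    rcases ty _ _ _ cj.symm m1 aτ kτ with rfl | rfl | rfl | rfl
    · rw [tp_zero.1 kτ] at aτ
      rcases H3.ker h tp_y1 (by decide) (by simp) h' (by decide) aτ with k | k
      · exact absurd k (by decide)
      · exact absurd k (by decide)
    · exact absurd eτ (by decide)
    · rfl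
    · exact absurd eτ (by decide)
  have a2 := (h'.cen.mul aσ).mul aτ
  rw [← map_mul, ← map_mul, one_mul, show swap 0 1 * z8 * swap 2 3 * swap 0 1 = swap 2 3 * z8 by decide] at a2
  obtain ⟨n, k2⟩ := tp_exists (sq _ _ (by decide) a2)
  have cj3 := cj.symm.trans (h5.all h01 tp_y2)
  have m3 : ψ (swap 2 3 * z8) * ψ (swap 0 1 * z8) = ψ (swap 0 1 * z8) * ψ (swap 2 3 * z8) :=
    comm_map (by decide)
  have o2 : ¬ Even n := fun k => oσ (kσ.even_iff.1
    ((mul_mem_cancel_right (kτ.even_iff.2 eτ)).1 (k2.even_iff.2 k)))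
  rcases ty _ _ _ cj3 m3 a2 k2 with rfl | rfl | rfl | rfl
  · exact absurd (by decide) o2
  · obtain ⟨x, y, hxy, k⟩ := tp_one.1 k2
    exact ⟨κ, x, y, h', hxy, cj3, m3, k ▸ a2⟩
  · exact absurd (by decide) o2
  · exfalso
    have m4 : swap 4 6 * swap 6 8 * (swap 5 7 * swap 7 9) * (swap 0 1 * z8) =
        swap 0 1 * z8 * (swap 4 6 * swap 6 8 * (swap 5 7 * swap 7 9)) := by decide
    obtain ⟨π, aπ⟩ := h'.reg _ (comm_map m4)
    have p3 : π ^ 3 = 1 := aπ.pow_eq_one h'.inj (by simp) (by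
      rw [← map_pow, show (swap 4 6 * swap 6 8 * (swap 5 7 * swap 7 9) : Perm (Fin 12)) ^ 3 = 1 by decide,
        map_one])
    rw [odd_cent_free (by simp) kσ kτ k2 (aπ.comm h'.inj (by simp) aσ (comm_map (by decide)))
      (aπ.comm h'.inj (by simp) aτ (comm_map (by decide)))
      (Odd.of_dvd_nat (by decide) (orderOf_dvd_of_pow_eq_one p3))] at aπ
    rcases H3.ker h tp_y1 (by decide) (by simp) h' m4 aπ with k | k
    · exact absurd k (by decide)
    · exact absurd k (by decide)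

end Cfsg.Agent.SAc
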