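import Mathlib
import Cfsg.Agent.SAc.HsB
import Cfsg.Agent.SAc.H5

/-! Case C: the Sylow 2-subgroup and transfer. See `stubs/Cfsg/Agent/SAc/PLAN.md`. -/

set_option autoImplicit false
set_option linter.unusedSectionVars false

namespace Cfsg.Agent.SAc

open Cfsg Cfsg.Agent.GT Cfsg.Agent.Loc.Mss Cfsg.Agent.Sym Cfsg.Agent.Loc.SO Cfsg.Agent.SAn Subgroup Equiv
open Cfsg.Agent.StdB (C1 mem_C1)
open scoped commutatorElement

variable {α β γ : Type} [Fintype α] [DecidableEq α] [Fintype β] [DecidableEq β] [Fintype γ]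
  [DecidableEq γ] {G : Type*} [Group G] [Finite G] {ι κ l : alternatingGroup α →* G}
  {ψ : Perm β →* G} {X P M L : Subgroup G} {t s u g o : G} {p q σ τ π : Perm α} {k j : ℕ}

namespace CA

open H3 H5

theorem exists_orbit {Q Y : Type*} [Group Q] [MulAction Q Y] [Finite Q] [Finite Y] [Nonempty Y]
    (hQ : IsPGroup 2 Q) : ∃ y : Y, (MulAction.stabilizer Q y).index ∣ Nat.card Y := by
  classical
  obtain ⟨y, hy⟩ := Finite.exists_min fun y : Y => Nat.card (MulAction.orbit Q y)
  refine ⟨y, ?_⟩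
  haveI := Fintype.ofFinite (MulAction.orbitRel.Quotient Q Y)
  rw [MulAction.index_stabilizer, ← Nat.card_coe_set_eq,
    Nat.card_congr (MulAction.selfEquivSigmaOrbits Q Y), Nat.card_sigma]
  refine Finset.dvd_sum fun ω _ => ?_
  have := hy ω.out
  obtain ⟨a, ha⟩ := hQ.card_orbit y
  obtain ⟨b, hb⟩ := hQ.card_orbit ω.out
  rw [ha, hb] at this ⊢
  exact pow_dvd_pow 2 ((Nat.pow_le_pow_iff_right (by decide)).1 this)

theorem swap_of (h : Hs ψ) (hc : ∀ k, Ty ψ k → k = 1) {x y : β} (hxy : x ≠ y) {r : Perm β}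
    (hr : IsConj (ψ (swap x y)) (ψ r)) : r.IsSwap := by
  obtain ⟨g, hg⟩ := isConj_iff.1 hr
  obtain ⟨k, hk⟩ := tp_exists (p := r) (h.inj (by
    rw [map_mul, map_one, ← hg]; exact (Bas.iv_conj (h.cf hxy).iv g).1))
  obtain rfl := hc k ⟨r, x, y, hxy, hk, hr⟩
  exact tp_one.1 hk

theorem not_three {T : Subgroup (Perm β)} (hT : IsPGroup 2 T) {a b c : β} (hab : a ≠ b) (hac : a ≠ c)
    (h1 : swap a b ∈ T) (h2 : swap a c ∈ T) : b = c := by
  by_contra hbc
  obtain ⟨k, hk⟩ := pg_iff.1 hT _ (mul_mem h1 h2)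
  have := orderOf_dvd_of_pow_eq_one hk
  rw [(Perm.isThreeCycle_swap_mul_swap_same hab hac hbc).orderOf] at this
  exact absurd (Nat.prime_three.dvd_of_dvd_pow this) (by decide)

theorem arith (n : ℕ) (h : 2 ≤ n) : n / 2 * ((n - 2 * 1).factorial * 2 ^ 1 * (1 : ℕ).factorial) ∣ n.factorial := by
  obtain ⟨n, rfl⟩ := Nat.exists_eq_add_of_le' h
  rw [Nat.factorial_one, Nat.factorial_succ, Nat.factorial_succ, mul_one, mul_one, Nat.add_sub_cancel,
    pow_one]
  rcases Nat.even_or_odd' n with ⟨m, rfl | rfl⟩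
  · rw [show (2 * m + 2) / 2 = m + 1 by omega]
    exact ⟨2 * m + 1, by ring⟩
  · rw [show (2 * m + 1 + 2) / 2 = m + 1 by omega]
    exact ⟨2 * m + 3, by ring⟩

theorem syl (h : Hs ψ) (hc : ∀ k, Ty ψ k → k = 1) {x y : β} (hxy : x ≠ y) :
    ∃ T : Subgroup (Perm β), Syl 2 (T.map ψ) ⊤ ∧ ∃ r ∈ T, r.IsSwap := by
  have h10 := h.ten
  obtain ⟨e⟩ := Function.Embedding.nonempty_of_card_le (α := Fin (Fintype.card β / 2) × Bool) (β := β)
    (by simp only [Fintype.card_prod, Fintype.card_fin, Fintype.card_bool]; omega)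
  set m := Fintype.card β / 2 with hm
  let z := E e (Equiv.prodCongr (Equiv.refl _) Equiv.boolNot)
  have ze : ∀ i b, z (e (i, b)) = e (i, !b) := fun i b => E_e e _ _
  have hz : Tp z m := tp_of_std e ze fun x hx => E_out e _ hx
  obtain ⟨T, hB, hT⟩ := Syl.exists_ge (Bz_pg hz.1) le_top
  have ne : ∀ i b, e (i, b) ≠ e (i, !b) := fun i b k => by simpa using e.injective k
  have fT : ∀ i b, swap (e (i, b)) (e (i, !b)) ∈ T := fun i b => hB fun w => by
    by_cases k1 : w = e (i, b)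
    · exact .inr (by rw [k1, swap_apply_left, ze])
    by_cases k2 : w = e (i, !b)
    · exact .inr (by rw [k2, swap_apply_right, ze, Bool.not_not])
    exact .inl (swap_apply_of_ne_of_ne k1 k2)
  have i0 : Fin m := ⟨0, by omega⟩
  refine ⟨T, Syl.of_norm (hT.pg.map ψ) le_top fun P hP hTP _ hn => ?_, _, fT i0 false, _, _, ne _ _, rfl⟩
  let Y := {d : G // d ∈ T.map ψ ∧ IsConj (ψ (swap x y)) d}
  have cj : ∀ a b : β, a ≠ b → IsConj (ψ (swap x y)) (ψ (swap a b)) := fun a b hab =>
    Ty.all ⟨_, x, y, hxy, tp_swap hxy, IsConj.refl _⟩ hxy (tp_swap hab)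
  let f : Fin m → Y := fun i => ⟨_, mem_map_of_mem ψ (fT i false), cj _ _ (ne i false)⟩
  have cY : Nat.card Y = m := by
    refine (Nat.card_eq_of_bijective f ⟨fun i j k => ?_, ?_⟩).symm.trans (Nat.card_fin m)
    · by_contra hij
      have := congrArg (· (e (i, false))) (h.inj (congrArg Subtype.val k))
      simp only [swap_apply_left] at this
      rw [swap_apply_of_ne_of_ne (e.injective.ne (by simp [hij])) (e.injective.ne (by simp))] at this
      exact ne i false this.symm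
    · rintro ⟨_, ⟨r, hr, rfl⟩, hd⟩
      obtain ⟨a, b, hab, rfl⟩ := swap_of h hc hxy hd
      have key : ∀ a b : β, a ≠ b → swap a b ∈ T → (∃ w, e w = a) →
          ∃ i, swap (e (i, false)) (e (i, true)) = swap a b := by
        rintro _ b hab hr ⟨⟨i, c⟩, rfl⟩
        rw [not_three hT.pg hab (ne i c) hr (fT i c)]
        cases c
        exacts [⟨i, rfl⟩, ⟨i, swap_comm _ _⟩]
      have : ∃ i, swap (e (i, false)) (e (i, true)) = swap a b := by
        by_cases ka : ∃ w, e w = a
        · exact key a b hab hr ka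
        by_cases kb : ∃ w, e w = b
        · rw [swap_comm a b] at hr ⊢
          exact key b a hab.symm hr kb
        push Not at ka kb
        have := fix_le hz (S := {a, b}) (by
          simp only [Finset.mem_insert, Finset.mem_singleton, forall_eq_or_imp, forall_eq]
          exact ⟨E_out e _ ka, E_out e _ kb⟩)
        rw [Finset.card_pair hab] at this
        omega
      obtain ⟨i, hi⟩ := this
      exact ⟨i, Subtype.ext (congrArg ψ hi)⟩
  letI : MulAction P Y :=
    { smul := fun g d => ⟨g * d * g⁻¹, conj_mem_of_norm (hn g.2) d.2.1,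
        d.2.2.trans (isConj_iff.2 ⟨g, rfl⟩)⟩
      one_smul := fun d => Subtype.ext (show (1 : P) * (d : G) * (1 : P)⁻¹ = d by simp)
      mul_smul := fun a b d => Subtype.ext
        (show ((a * b : P) : G) * d * ((a * b : P) : G)⁻¹ = a * (b * d * (b : G)⁻¹) * (a : G)⁻¹ by
          rw [coe_mul]; group) }
  haveI : Nonempty Y := ⟨f i0⟩
  obtain ⟨d, hd⟩ := exists_orbit (Y := Y) hP
  have hcen : (MulAction.stabilizer P d).map P.subtype ≤ C1 d.1 := by
    rintro _ ⟨g, hg, rfl⟩
    exact mem_C1.2 (mul_inv_eq_iff_eq_mul.1 (congrArg Subtype.val hg))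
  obtain ⟨g, hg, hle⟩ := h.into hxy d.2.2 ((hP.to_subgroup _).map _) hcen
  have hle' : (MulAction.stabilizer P d).map P.subtype ≤ cj(g, (C1 (swap x y)).map ψ) := fun a ha => by
    obtain ⟨_, ⟨r, rfl⟩, k⟩ := hle ha
    refine ⟨_, ⟨r, mem_C1.2 (h.inj ?_), rfl⟩, k⟩
    have := mem_C1.1 (hcen ha)
    rw [← hg, ← k] at this
    rw [map_mul, map_mul]
    simpa using this
  have d1 := card_dvd_of_le hle'
  rw [card_cj, card_map_of_injective h.inj, card_map_of_injective P.subtype_injective,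
    (tp_swap hxy).card_cent] at d1
  have d2 : Nat.card P ∣ T.index * Nat.card T := by
    rw [index_mul_card, Nat.card_perm, Nat.card_eq_fintype_card (α := β),
      ← (MulAction.stabilizer P d).index_mul_card]
    exact (mul_dvd_mul (hd.trans cY.dvd) d1).trans (arith _ (by omega))
  obtain ⟨a, ha⟩ := IsPGroup.iff_card.1 hP
  have d3 : Nat.card P ∣ Nat.card T := Nat.Coprime.dvd_of_dvd_mul_left (by
    rw [ha]
    exact ((Nat.prime_two.coprime_iff_not_dvd).2 (by simpa using hT.nd)).pow_left a) d2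
  exact (PG.eq_of_le_of_card_le hTP (by
    rw [card_map_of_injective h.inj]; exact Nat.le_of_dvd Nat.card_pos d3)).ge

end CA

theorem GH.not_mem (h : GH ψ X) (hc : ∀ k, Ty ψ k → k = 1) {x y : β} (hxy : x ≠ y) :
    ψ (swap x y) ∉ X := by
  have h10 := h.hs.ten
  obtain ⟨T, hT, r, hr, sr⟩ := CA.syl h.hs hc hxy
  have odd : ∀ r : Perm β, r.IsSwap → r ∉ alternatingGroup β := fun r k k' =>
    absurd ((tp_one.2 k).even_iff.1 k') (by decide)
  obtain ⟨M, -, hn, hi, ht⟩ := StdB.transfer_two (A := (alternatingGroup β).map ψ) hT (by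
    haveI : Nontrivial β := ⟨⟨x, y, hxy⟩⟩
    rw [relIndex_map_map_of_injective _ _ h.hs.inj]
    refine ((Nat.dvd_prime Nat.prime_two).1 (alternatingGroup.index_eq_two (α := β) ▸
      relIndex_dvd_index_of_normal _ T)).resolve_left fun k => odd r sr (relIndex_eq_one.1 k hr))
    (mem_top (ψ (swap x y))) (h.hs.cf hxy).iv.1 (by
      rintro g - ⟨r, hr, k⟩
      exact odd r (CA.swap_of h.hs hc hxy (isConj_iff.2 ⟨g, k.symm⟩)) hr)
  rcases Bas.simple_inf (h.fr x y hxy).sX (le_top.trans hn) with k | k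
  · obtain ⟨a, b, c, d, h4⟩ := exists_D4 (α := β) (by omega)
    have h3 := Perm.isThreeCycle_swap_mul_swap_same h4.ab h4.ac h4.bc
    have hX := h.AX _ h3.mem_alternatingGroup
    have := k _ (mul_mem hX hX) (mul_self_mem_of_index_two (by simpa using hi) _)
    rw [← map_mul, map_eq_one_iff _ h.hs.inj, ← sq] at this
    have := orderOf_dvd_of_pow_eq_one this
    rw [h3.orderOf] at this
    exact absurd this (by decide)
  · exact fun k' => ht (k k')

end Cfsg.Agent.SAc
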