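import Mathlib
import Cfsg.Agent.SAc.Der

/-! The symmetric group generated by `A` and a transposition. See `stubs/Cfsg/Agent/SAc/PLAN.md`. -/

set_option autoImplicit false
set_option linter.unusedSectionVars false

namespace Cfsg.Agent.SAc

open Cfsg Cfsg.Agent.GT Cfsg.Agent.Loc.Mss Cfsg.Agent.Sym Cfsg.Agent.Loc.SO Cfsg.Agent.SAn Subgroup Equiv
open Cfsg.Agent.StdB (C1 mem_C1)
open scoped commutatorElement

variable {α β γ : Type} [Fintype α] [DecidableEq α] [Fintype β] [DecidableEq β] [Fintype γ]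
  [DecidableEq γ] {G : Type*} [Group G] [Finite G] {ι κ l : alternatingGroup α →* G}
  {ψ : Perm β →* G} {X P M L : Subgroup G} {t s u g o : G} {p q σ τ π : Perm α} {k j : ℕ}

namespace Chi

theorem sgn (h : p ∉ alternatingGroup α) : Perm.sign p = -1 :=
  (Int.units_eq_one_or _).resolve_left fun e => h (Perm.mem_alternatingGroup.2 e)

theorem odd_odd (h : p ∉ alternatingGroup α) (h' : q ∉ alternatingGroup α) :
    p * q ∈ alternatingGroup α := by
  rw [Perm.mem_alternatingGroup, map_mul, sgn h, sgn h']; rfl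

theorem swap_odd {x y : α} (h : x ≠ y) : swap x y ∉ alternatingGroup α := by
  rw [Perm.mem_alternatingGroup, Perm.sign_swap h]; decide

theorem two_pts {a b : α} (h : ∀ z, z ≠ a → z ≠ b → σ z = z) : σ = 1 ∨ σ = swap a b := by
  have k : ∀ z, σ z ≠ z → (σ z = a ∨ σ z = b) := fun z hz => by
    by_contra hc
    push Not at hc
    exact hz (σ.injective (h _ hc.1 hc.2))
  by_cases ha : σ a = a
  · left
    ext z
    by_cases hz : z = a
    · rw [hz, ha]; rfl
    by_cases hz' : z = b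
    · by_contra e
      rcases k z e with e' | e'
      · exact hz (σ.injective (e'.trans ha.symm))
      · exact e (e'.trans hz'.symm)
    · exact h z hz hz'
  · right
    have hab : σ a = b := (k a ha).resolve_left ha
    have ne : a ≠ b := fun e => ha (hab.trans e.symm)
    have hb : σ b ≠ b := fun e => ne (σ.injective (hab.trans e.symm))
    have hba : σ b = a := (k b hb).resolve_right hb
    ext z
    by_cases hz : z = a
    · rw [hz, hab, swap_apply_left]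
    by_cases hz' : z = b
    · rw [hz', hba, swap_apply_right]
    · rw [h z hz hz', swap_apply_of_ne_of_ne hz hz']

theorem pres {a b : α} (h : σ * swap a b = swap a b * σ) (hab : a ≠ b) (z : α) :
    (σ z ≠ a ∧ σ z ≠ b) ↔ (z ≠ a ∧ z ≠ b) := by
  have k : ∀ z : α, (z ≠ a ∧ z ≠ b) ↔ swap a b z = z := fun z =>
    ⟨fun h => swap_apply_of_ne_of_ne h.1 h.2, fun h => ⟨fun e => by
      rw [e, swap_apply_left] at h; exact hab h.symm, fun e => by
      rw [e, swap_apply_right] at h; exact hab h⟩⟩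
  rw [k, k, ← Perm.mul_apply, ← h, Perm.mul_apply, σ.injective.eq_iff]

open Classical in
/-- The underlying map of the extension to the symmetric group. -/
noncomputable def chi (ι : alternatingGroup α →* G) (u : G) (x y : α) (σ : Perm α) : G :=
  if σ ∈ alternatingGroup α then ev ι σ else ev ι (σ * swap x y) * u

theorem chi_mul {x y : α} (hxy : x ≠ y) (ha : Act ι u (swap x y)) (h2 : u * u = 1) (σ τ : Perm α) :
    chi ι u x y (σ * τ) = chi ι u x y σ * chi ι u x y τ := by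
  have hs := swap_odd hxy
  have hu : ∀ p ∈ alternatingGroup α, u * ev ι p = ev ι (swap x y * p * (swap x y)⁻¹) * u :=
    fun p hp => by rw [← ha p hp]; group
  unfold chi
  by_cases h1 : σ ∈ alternatingGroup α <;> by_cases h3 : τ ∈ alternatingGroup α
  · rw [if_pos h1, if_pos h3, if_pos (mul_mem h1 h3), ev_mul h1 h3]
  · rw [if_pos h1, if_neg h3, if_neg (fun e => h3 ((mul_mem_cancel_left h1).1 e)), mul_assoc σ,
      ev_mul h1 (odd_odd h3 hs), mul_assoc]
  · rw [if_neg h1, if_pos h3, if_neg (fun e => h1 ((mul_mem_cancel_right h3).1 e)),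
      mul_assoc _ u, hu _ h3, ← mul_assoc, ← ev_mul (odd_odd h1 hs) (conj_mem_alt h3 _)]
    congr 2
    simp [mul_assoc]
  · rw [if_neg h1, if_neg h3, if_pos (odd_odd h1 h3), mul_assoc _ u, ← mul_assoc u,
      hu _ (odd_odd h3 hs), mul_assoc _ u, h2, mul_one,
      ← ev_mul (odd_odd h1 hs) (conj_mem_alt (odd_odd h3 hs) _)]
    congr 1
    simp [mul_assoc]

theorem g2_transfer (h : Cf ι t) (h' : Cf κ s) (hs : IsConj s t) (h2 : G2 κ s) : G2 ι t := by
  obtain ⟨g, rfl⟩ := isConj_iff.1 hs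
  obtain ⟨e, he, he'⟩ := (h'.toC g).cw.rel h.cw rfl
  obtain ⟨u, x, y, z, w, d, h1, h3, h4⟩ := h2
  refine ⟨g * u * g⁻¹, e x, e y, e z, e w, d.map e, ⟨e.injective.ne d.ab,
    (hs.symm.trans h1.cj).trans (isConj_iff.2 ⟨g, rfl⟩), Bas.commC.2 h1.comm, ?_⟩, ?_, fun k => h4 ?_⟩
  · have := (he' _ _).1 (h1.act.toC g)
    rwa [permCongr_eq_mul, ← swap_apply_apply] at this
  · have := (he _ d.mem).2
    rw [permCongr_eq_mul, dt_conj, ev_cι] at this
    rw [this, conj_mul]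
    exact h3.conj g
  · rw [conj_mul] at k
    exact (hs.trans k).trans (isConj_iff.2 ⟨g, rfl⟩ : IsConj (s * u) _).symm

end Chi

open Chi

theorem T1.exists_chi {x y : α} (h1 : T1 ι t u x y) (h : Cw ι t) : ∃ χ : Perm α →* G,
    Function.Injective χ ∧ (∀ p ∈ alternatingGroup α, χ p = ev ι p) ∧ χ (swap x y) = u ∧
    (∀ σ, Act ι (χ σ) σ) ∧ (∀ σ, χ σ * t = t * χ σ) ∧
    ∀ a b, a ≠ b → T1 ι t (χ (swap a b)) a b := by
  have h2 : u * u = 1 := by
    obtain ⟨c, rfl⟩ := isConj_iff.1 h1.cj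
    rw [conj_mul, h.iv.1]; simp
  have hs := swap_odd h1.ne
  let χ : Perm α →* G := MonoidHom.mk' (chi ι u x y) (chi_mul h1.ne h1.act h2)
  have e1 : ∀ p ∈ alternatingGroup α, χ p = ev ι p := fun p hp => if_pos hp
  have e2 : ∀ p ∉ alternatingGroup α, χ p = ev ι (p * swap x y) * u := fun p hp => if_neg hp
  have e3 : χ (swap x y) = u := by rw [e2 _ hs, swap_mul_self, ev_one, one_mul]
  have e4 : ∀ σ, Act ι (χ σ) σ := fun σ => by
    by_cases hσ : σ ∈ alternatingGroup α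
    · rw [e1 _ hσ]; exact act_ev hσ
    · rw [e2 _ hσ]
      have := (act_ev (ι := ι) (odd_odd hσ hs)).mul h1.act
      rwa [mul_swap_mul_self] at this
  have e5 : ∀ σ, χ σ * t = t * χ σ := fun σ => by
    by_cases hσ : σ ∈ alternatingGroup α
    · rw [e1 _ hσ, h.comm_ev]
    · rw [e2 _ hσ, mul_assoc, h1.comm, ← mul_assoc, h.comm_ev, mul_assoc]
  refine ⟨χ, (injective_iff_map_eq_one χ).2 fun σ e => h.uniq (e4 σ) (e ▸ Act.one), e1, e3, e4, e5,
    fun a b hab => ⟨hab, h1.cj.trans ?_, e5 _, e4 _⟩⟩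
  obtain ⟨q, -, hq⟩ := (tp_one.2 ⟨x, y, h1.ne, rfl⟩).alt_conj (tp_one.2 ⟨a, b, hab, rfl⟩)
  exact isConj_iff.2 ⟨χ q, by rw [← hq, map_mul, map_mul, map_inv, e3]⟩

/-- Without type two, the gluing hypothesis holds. -/
theorem Cf.g2_of_t1 {x y : α} (h : Cf ι t) (h8 : Fintype.card α ≠ 8) (h2 : ¬ Sg ι t 2)
    (h1 : T1 ι t u x y) : G2 ι t := by
  obtain ⟨χ, hi, e1, e3, e4, e5, e6⟩ := h1.exists_chi h.cw
  have h9 := h.eight
  obtain ⟨z, w, hz, hw, e⟩ := exists_out2 (by omega) x y x y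
  have d : D4 x y z w := ⟨h1.ne, hz.a.symm, hw.a.symm, hz.b.symm, hw.b.symm, e⟩
  obtain ⟨κ, hκ⟩ := h.emb h1.cj
  obtain ⟨a, b, h3⟩ := h1.symm h.cw hκ.cw
  have no2 : ∀ {s : G} {c d : α}, D4 a b c d → IsConj t s → s * u = u * s → ¬ Act κ s (dt a b c d) :=
    fun {s c d} d4 k1 k2 k3 => h2 (Sg.transfer hκ.cw h.cw h1.cj.symm rfl
      (hκ.sg_of_even (h1.cj.symm.trans k1) k2 (fun e => d4.iv.2 (hκ.cw.uniq k3 (e ▸ hκ.cen))) k3
        d4.mem (tp_two.2 ⟨_, _, _, _, d4, rfl⟩)))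
  have hu : ∀ r : Perm (Rm x y), χ (Perm.ofSubtype r) ∈ C1 u := fun r => by
    rw [mem_C1, ← e3, ← map_mul, ← map_mul, mul_swap_eq_swap_mul,
      Perm.ofSubtype_apply_of_not_mem r (by simp), Perm.ofSubtype_apply_of_not_mem r (by simp)]
  obtain ⟨φ, hφ⟩ := hκ.cw.exists_hom
  let f0 : Perm (Rm x y) →* Perm α := φ.comp ((χ.comp Perm.ofSubtype).codRestrict _ hu)
  have a0 : ∀ r, Act κ (χ (Perm.ofSubtype r)) (f0 r) := fun r => hφ ⟨_, hu r⟩
  have c0 : ∀ r, f0 r * swap a b = swap a b * f0 r := fun r =>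
    (a0 r).comm hκ.inj hκ.cw.four h3.act (e5 _)
  let f : Perm (Rm x y) →* Perm (Rm a b) := MonoidHom.mk'
    (fun r => (f0 r).subtypePerm (pres (c0 r) h3.ne)) fun r r' => by
      ext z
      exact congrArg (fun q : Perm α => q z) (map_mul f0 r r')
  have hf0 : ∀ r z, (f r z : α) = f0 r z := fun r z => rfl
  have hn := Bas.card_rm h1.ne
  have hn' := Bas.card_rm h3.ne
  have hf : Function.Injective f := by
    rw [← MonoidHom.ker_eq_bot_iff]
    by_contra hne
    have hle := Perm.alternatingGroup_le_of_normal (N := f.ker)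
      (by rw [Nat.card_eq_fintype_card]; omega) ((Subgroup.nontrivial_iff_ne_bot _).2 hne)
    obtain ⟨f', hf', ha⟩ := hκ.cw.faithful (γ := Rm x y) (by omega)
      ((χ.comp Perm.ofSubtype).comp (alternatingGroup _).subtype)
      ((hi.comp Perm.ofSubtype_injective).comp Subtype.val_injective) fun b => mem_C1.1 (hu b)
    have k := Bas.triv (by omega) f' (t := swap a b) fun c _ => two_pts fun z h4 h5 => by
      rw [hκ.cw.uniq (ha c) (a0 c), ← hf0 c ⟨z, h4, h5⟩, show f c = 1 from hle c.2]; rfl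
    obtain ⟨a', b', c', d', h4⟩ := exists_D4 (α := Rm x y) (by omega)
    exact h4.iv.2 (congrArg Subtype.val ((injective_iff_map_eq_one f').1 hf' ⟨_, h4.mem⟩ (k _)))
  obtain ⟨ε, hε⟩ := (swap_image (by omega) (by omega) f hf).resolve_right fun k => by omega
  let z' : Rm x y := ⟨z, hz.a, hz.b⟩
  let w' : Rm x y := ⟨w, hw.a, hw.b⟩
  have d4 : D4 a b (ε z').1 (ε w').1 := ⟨h3.ne, (ε z').2.1.symm, (ε w').2.1.symm, (ε z').2.2.symm,
    (ε w').2.2.symm, fun k => e (congrArg Subtype.val (ε.injective (Subtype.ext k)))⟩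
  have a1 := a0 (swap z' w')
  have c1 := mem_C1.1 (hu (swap z' w'))
  rw [Perm.ofSubtype_swap_eq] at a1 c1
  have t1 := e6 z w e
  have e7 : χ (swap z w) = u * ev ι (dt x y z w) := by
    rw [← e1 _ d.mem, ← e3, ← map_mul, dt, swap_mul_self_mul]
  have e8 : f0 (swap z' w') = swap (ε z').1 (ε w').1 := by
    have k := two_pts (σ := f0 (swap z' w') * swap (ε z').1 (ε w').1) (a := a) (b := b)
      fun v h4 h5 => by
        rw [Perm.mul_apply, ← Perm.ofSubtype_swap_eq,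
          Perm.ofSubtype_apply_of_mem (p := fun z => z ≠ a ∧ z ≠ b) _ ⟨h4, h5⟩, ← hf0, hε,
          permCongr_apply, ← ε.injective.swap_apply, apply_symm_apply, swap_apply_self]
    rw [mul_eq_one_iff_eq_inv, swap_inv, ← eq_mul_inv_iff_mul_eq, swap_inv] at k
    exact k.resolve_right fun k => no2 d4 t1.cj c1 (by rw [dt, ← k]; exact a1)
  rw [e8] at a1
  have t2 : T1 κ u (χ (swap z w)) _ _ := ⟨d4.cd, h1.cj.symm.trans t1.cj, c1, a1⟩
  refine ⟨u, x, y, z, w, d, h1, ⟨κ, _, _, hκ, e7 ▸ t2⟩,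
    fun k => no2 d4 (s := t * χ (swap z w)) (k.trans ?_) ?_ (h3.act.mul a1)⟩
  · obtain ⟨q, -, hq⟩ := (tp_one.2 ⟨x, y, h1.ne, rfl⟩).alt_conj (tp_one.2 ⟨z, w, e, rfl⟩)
    exact isConj_iff.2 ⟨χ q, by
      rw [← hq, map_mul, map_mul, map_inv, e3, ← mul_assoc, e5]; group⟩
  · rw [mul_assoc, c1, ← mul_assoc, ← h1.comm, mul_assoc]

theorem Cf.g2_of_a2 (h : Cf ι t) (h2 : A2 ι t) : G2 ι t := by
  obtain ⟨a, b, c, d, d4, hs, κ, hκ, a', b', c', d', d4', a1, a2⟩ := h2
  refine g2_transfer h hκ hs.symm ?_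
  have hc := cyc3_mem_alternatingGroup d4.bc d4.cd
  have p1 := cyc3_apply_of_ne d4.ab d4.ac d4.ad
  have p2 := cyc3_apply_fst d4.bc d4.bd
  have p3 := cyc3_apply_snd d4.bd d4.cd
  have p4 := cyc3_apply_thd b c d
  have key : ∀ q ∈ alternatingGroup α, ev ι (cyc3 b c d) * (t * ev ι q) * (ev ι (cyc3 b c d))⁻¹ =
      t * ev ι (cyc3 b c d * q * (cyc3 b c d)⁻¹) := fun q hq => by
    rw [ev_conj hc hq, ← mul_assoc, h.cw.comm_ev]; group
  have k1 := key _ d4.mem
  have k2 := key _ d4.acb.mem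
  rw [dt_conj, p1, p2, p3, p4, dt_abdc a c b d] at k1
  rw [dt_conj, p1, p2, p3, p4, dt_abdc a d b c] at k2
  have cm : ev ι (dt a b c d) * ev ι (dt a c b d) = ev ι (dt a c b d) * ev ι (dt a b c d) := by
    rw [← ev_mul d4.mem d4.acb.mem, ← ev_mul d4.acb.mem d4.mem, d4.dt_comm]
  have t1 : T1 κ (t * ev ι (dt a b c d)) (t * ev ι (dt a c b d)) c' d' :=
    ⟨d4'.cd, isConj_iff.2 ⟨_, k1⟩, by
      rw [mul_assoc, ← mul_assoc _ t, h.cw.comm_ev, mul_assoc t (ev ι (dt a c b d)), ← cm,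
        mul_assoc t (ev ι (dt a b c d)) (t * _), ← mul_assoc _ t (ev ι (dt a c b d)),
        h.cw.comm_ev (dt a b c d), mul_assoc], by
      have := a1.mul a2
      rwa [← d4'.dt_cdab, show dt c' d' a' b' * swap a' b' = swap c' d' from mul_swap_mul_self ..] at this⟩
  refine ⟨_, c', d', a', b', d4'.cdab, t1, ?_, fun k => h.conj_not_mem (hs.trans k) ?_⟩
  · have := Sw.conj ⟨κ, c', d', hκ, t1⟩ (ev ι (cyc3 b c d))
    rwa [k1, k2, ← d4.dt_mul, ev_mul d4.mem d4.acb.mem, cm, ← mul_assoc,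
      ← (h.even_pair d4.mem hκ hs a1).2, ← d4'.dt_cdab] at this
  · rw [mul_assoc, ← mul_assoc _ t, h.cw.comm_ev, mul_assoc, ← mul_assoc, h.iv.1, one_mul]
    exact mul_mem (ev_mem _) (ev_mem _)

end Cfsg.Agent.SAc
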