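import Mathlib
import Cfsg.Agent.SAc.HQa
import Cfsg.Agent.SAc.HsB
import Cfsg.Agent.SAc.PmB

/-! The local configuration in the quotient. See `stubs/Cfsg/Agent/SAc/HN.md`. -/

set_option autoImplicit false
set_option linter.unusedSectionVars false

namespace Cfsg.Agent.SAc

open Cfsg Cfsg.Agent.GT Cfsg.Agent.Loc.Mss Cfsg.Agent.Sym Cfsg.Agent.Loc.SO Cfsg.Agent.SAn Subgroup Equiv
open Cfsg.Agent.StdB (C1 mem_C1)
open scoped commutatorElement

variable {G : Type*} [Group G] [Finite G] {Q : Type*} [Group Q] [Finite Q] {ψ : Perm (Fin 12) →* G}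
  {θ : NN (ph ψ) →* Q} {M : Subgroup Q} {X : Subgroup G} {g n : G}

namespace HQb

theorem d4 : D4 (0 : Fin 12) 1 2 3 := ⟨by decide, by decide, by decide, by decide, by decide, by decide⟩

theorem ph_pow (k : ℕ) : ph ψ ^ k = 1 ∨ ph ψ ^ k = ph ψ ∨ ph ψ ^ k = dd ψ ∨ ph ψ ^ k = ψ (c4 0 1 2 3)⁻¹ := by
  rw [pow_eq_pow_mod k ph_four]
  have h := Nat.mod_lt k (show 0 < 4 by decide)
  generalize k % 4 = j at h
  interval_cases j
  · exact .inl (pow_zero _)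
  · exact .inr (.inl (pow_one _))
  · exact .inr (.inr (.inl ((pow_two _).trans ph_sq)))
  · refine .inr (.inr (.inr ?_))
    rw [map_inv, eq_inv_iff_mul_eq_one, ← pow_succ]
    exact ph_four

theorem u2_eq : ψ (swap 2 3) = ψ (swap 0 1) * dd ψ := by rw [← map_mul]; congr 1; decide

theorem u1_eq : ψ (swap 0 1) = ψ (swap 2 3) * dd ψ := by rw [← map_mul]; congr 1; decide

theorem sw_sq (x y : Fin 12) : ψ (swap x y) * ψ (swap x y) = 1 := by rw [← map_mul, swap_mul_self, map_one]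

theorem not_two (h : Hs ψ) {p : Perm (Fin 12)} (hp : Tp p 2) : g * ψ (swap 0 1) * g⁻¹ ≠ ψ p := fun e =>
  absurd (h.odd ⟨p, 0, 1, by decide, hp, isConj_iff.2 ⟨g, e⟩⟩) (by decide)

theorem cases12 (x : Fin 12) : x ∈ S8 ∨ x = 0 ∨ x = 1 ∨ x = 2 ∨ x = 3 := by revert x; decide

theorem exists_oS {r : Perm (Fin 12)} (h : Fx 0 1 2 3 r) : ∃ p : Perm R8, Perm.ofSubtype p = r :=
  have k := fx_iff.1 h
  ⟨_, Perm.ofSubtype_subtypePerm (f := r) (p := fun z => z ∈ S8) (fun z => by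
    refine ⟨fun e => by_contra fun e' => e' (k z e' ▸ e), fun e => by_contra fun e' => e' ?_⟩
    rwa [r.injective (k _ e')]) fun z hz => by_contra fun e => hz (k z e)⟩

theorem fx_of {p : Perm (Fin 12)} (hp : p ∈ altOn S8) : Fx 0 1 2 3 p := fx_iff.2 (mem_altOn.1 hp).2

theorem oS_mem {p : Perm R8} (hp : p ∈ alternatingGroup R8) : Perm.ofSubtype p ∈ altOn S8 :=
  mem_altOn.2 ⟨ofSubtype_mem hp, fx_iff.1 (fx_ofSubtype p)⟩

theorem act_of (hn : n ∈ NN (ph ψ)) {r : Perm R8}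
    (k : ∀ p ∈ altOn S8, n * ψ p * n⁻¹ = ψ (Perm.ofSubtype r * p * (Perm.ofSubtype r)⁻¹)) :
    Act (i8 ψ θ) (th θ n) r := fun p hp => by
  rw [ev_i8 _ hp, ev_i8 _ (conj_mem_alt hp r), ← th_conj hn (mem_NN (fx_ofSubtype p)), k _ (oS_mem hp),
    map_mul Perm.ofSubtype, map_mul Perm.ofSubtype, map_inv Perm.ofSubtype]

theorem th_zp (q : QD (ph ψ) θ) (hn : n ∈ zpowers (ph ψ)) : th θ n = 1 :=
  (q.ker n (le_normalizer hn)).2 (mem_sup_left hn)

theorem dd_zp : dd ψ ∈ zpowers (ph ψ) := ph_sq (ψ := ψ) ▸ mul_mem (mem_zpowers _) (mem_zpowers _)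

theorem th_fx (q : QD (ph ψ) θ) (h : Hs ψ) {r : Perm (Fin 12)} (hr : Fx 0 1 2 3 r) (h2 : r * r = 1)
    (e : th θ (ψ r) = 1) : r = 1 := by
  obtain ⟨k, hk⟩ := mem_powers_iff_mem_zpowers.2 (q.ker_two (mem_NN hr) e
    ⟨1, by rw [pow_one, pow_two, ← map_mul, h2, map_one]⟩)
  have a := hr.a
  rcases ph_pow (ψ := ψ) k with k1 | k1 | k1 | k1
  · exact h.inj ((hk.symm.trans k1).trans (map_one ψ).symm)
  all_goals
    rw [h.inj (hk.symm.trans k1)] at a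
    exact absurd a (by decide)

theorem th_u2 (q : QD (ph ψ) θ) : th θ (ψ (swap 2 3)) = th θ (ψ (swap 0 1)) := by
  rw [u2_eq, th_mul u1_mem (le_normalizer dd_zp), th_zp q dd_zp, mul_one]

theorem th_sq : th θ (ψ (swap 0 1)) * th θ (ψ (swap 0 1)) = 1 := by rw [← th_mul u1_mem u1_mem, sw_sq, th_one]

theorem odd_pow {x : Q} (h : E2 x) {s : ℕ} (hs : Odd s) (e : x ^ s * x ^ s = 1) : x ^ s = x := by
  obtain ⟨k, hk⟩ := h
  have : x ^ 2 = 1 := by
    have := (pow_gcd_eq_one (a := x ^ 2) (m := s) (n := 2 ^ k)).2 ⟨by rw [← pow_mul, mul_comm, pow_mul, pow_two, e],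
      by rw [← pow_mul, mul_comm, pow_mul, hk, one_pow]⟩
    rwa [(Nat.coprime_two_right.2 hs).pow_right k, pow_one] at this
  obtain ⟨a, rfl⟩ := hs
  rw [pow_succ, pow_mul, this, one_pow, one_mul]

end HQb

open HQb

theorem Hs.pair_of (h : Hs ψ) (hg : g * dd ψ = dd ψ * g) {k : ℕ}
    (e : g * ψ (swap 0 1) * g⁻¹ = ψ (swap 0 1) * ph ψ ^ k) :
    (g * ψ (swap 0 1) * g⁻¹ = ψ (swap 0 1) ∧ g * ψ (swap 2 3) * g⁻¹ = ψ (swap 2 3)) ∨
      (g * ψ (swap 0 1) * g⁻¹ = ψ (swap 2 3) ∧ g * ψ (swap 2 3) * g⁻¹ = ψ (swap 0 1)) := by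
  have k2 : g * ψ (swap 2 3) * g⁻¹ = g * ψ (swap 0 1) * g⁻¹ * dd ψ := by
    rw [u2_eq, ← conj_mul, mul_inv_eq_iff_eq_mul.2 hg]
  rcases ph_pow (ψ := ψ) k with k1 | k1 | k1 | k1 <;> rw [k1] at e
  · exact .inl ⟨by rw [e, mul_one], by rw [k2, e, mul_one, ← u2_eq]⟩
  · exact absurd (e.trans (map_mul ψ _ _).symm) (not_two h ⟨by decide, by decide⟩)
  · exact .inr ⟨by rw [e, ← u2_eq], by rw [k2, e, ← u2_eq, ← u1_eq]⟩
  · exact absurd (e.trans (map_mul ψ _ _).symm) (not_two h ⟨by decide, by decide⟩)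

theorem Hs.pair_two (h : Hs ψ) (hg : g * ψ (swap 0 1) = ψ (swap 0 1) * g)
    (hg' : g * ψ (swap 2 3) = ψ (swap 2 3) * g) (hL : g ∈ 𝐂[L8 ψ]) (h2 : E2 g) : g = 1 ∨ g = ψ (swap 0 1) ∨ g = ψ (swap 2 3) ∨ g = dd ψ := by
  have cf := h.cf d4.ab
  obtain ⟨r, hr⟩ := cf.reg g hg
  have f : ∀ x ∈ S8, Perm.ofSubtype r x = x := cent_altOn (by decide) (mem_cent.2 fun p hp => by
    have := HsB.act_iff.1 hr p (mem_altOn.1 hp).1 (fx_of hp).a (fx_of hp).b
    rw [← mem_cent.1 hL _ (mem_map_of_mem ψ hp), mul_inv_cancel_right] at this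
    exact eq_mul_inv_iff_mul_eq.1 (h.inj this))
  rcases HsB.fix_or d4.cd (HsB.comm_cd h d4 hr hg') with ⟨e1, e2⟩ | ⟨e1, e2⟩
  · have : r = 1 := Perm.ofSubtype_injective (Equiv.ext fun x => by
      rw [map_one]
      rcases cases12 x with k | rfl | rfl | rfl | rfl
      exacts [f x k, HsB.oS_x r, HsB.oS_y r, e1, e2])
    exact (cf.ker g hg (this ▸ hr) h2).imp_right .inl
  · have a := hr.mul (HsB.act_swap h d4)
    have : r * swap ⟨2, d4.ac.symm, d4.bc.symm⟩ ⟨3, d4.ad.symm, d4.bd.symm⟩ = 1 :=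
      Perm.ofSubtype_injective (Equiv.ext fun x => by
        rw [map_one, map_mul, Perm.ofSubtype_swap_eq, Perm.mul_apply]
        rcases cases12 x with k | rfl | rfl | rfl | rfl
        · rw [swap_apply_of_ne_of_ne (by rintro rfl; exact absurd k (by decide))
            (by rintro rfl; exact absurd k (by decide))]
          exact f x k
        exacts [HsB.oS_x r, HsB.oS_y r, e2, e1])
    obtain ⟨k, hk⟩ := h2
    have c : Commute g (ψ (swap 2 3)) := hg'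
    rcases cf.ker _ (Commute.mul_left hg (HsB.map_comm (HsB.swap_comm' d4))).eq (this ▸ a) ⟨k + 1, by
      rw [c.mul_pow, pow_succ, pow_mul, hk, one_pow, one_mul, pow_mul', pow_two, sw_sq, one_pow]⟩ with e | e
    · exact .inr (.inr (.inl (mul_right_cancel (e.trans (sw_sq 2 3).symm))))
    · refine .inr (.inr (.inr (mul_right_cancel (e.trans ?_))))
      rw [← map_mul]; congr 1; decide

theorem HQb.exists_pair (q : QD (ph ψ) θ) (h : Hs ψ) {x : Q}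
    (hx : x * th θ (ψ (swap 0 1)) = th θ (ψ (swap 0 1)) * x) :
    ∃ m ∈ NN (ph ψ), th θ m = x ∧ m ∈ HsB.Np (ψ (swap 0 1)) (ψ (swap 2 3)) := by
  obtain ⟨n, hn, rfl⟩ := q.surj x
  obtain ⟨j, hj, j1, k, e⟩ := q.lift0 (a := n * ψ (swap 0 1) * n⁻¹) (mul_mem (mul_mem hn u1_mem) (inv_mem hn)) u1_mem
    (by rw [conj_mul, sw_sq, mul_one, mul_inv_cancel]; exact one_mem _) (by rw [sw_sq]; exact one_mem _)
    (by rw [th_conj hn u1_mem, hx, mul_inv_cancel_right])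
  exact ⟨j * n, mul_mem hj hn, by rw [th_mul hj hn, j1, one_mul], h.pair_of (k := k)
    (ph_sq (ψ := ψ) ▸ NN_comm_sq ph_four (mul_mem hj hn)) (by rw [← e]; group)⟩

theorem HQb.pair_act (h : Hs ψ) (hn : n ∈ NN (ph ψ)) (hp : n ∈ HsB.Np (ψ (swap 0 1)) (ψ (swap 2 3))) :
    ∃ r : Perm R8, Act (i8 ψ θ) (th θ n) r ∧ (r = 1 → n ∈ 𝐂[L8 ψ]) := by
  obtain ⟨r, hr, k⟩ := h.pair_nrm d4 hp
  obtain ⟨r, rfl⟩ := exists_oS hr
  refine ⟨r, act_of hn k, fun e => mem_cent.2 ?_⟩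
  rintro _ ⟨p, hp, rfl⟩
  rw [eq_comm, ← mul_inv_eq_iff_eq_mul, k p hp, e, map_one, one_mul, inv_one, mul_one]

theorem QD.cf (q : QD (ph ψ) θ) (h : Hs ψ) : Cf (i8 ψ θ) (th θ (ψ (swap 0 1))) := by
  have inj : Function.Injective (i8 ψ θ) := by
    refine (MonoidHom.ker_eq_bot_iff _).1 (((Bas.simp5 (γ := R8) (by rw [card_R8]; decide)).eq_bot_or_eq_top_of_normal _
      inferInstance).resolve_right fun e => ?_)
    obtain ⟨a, b, c, d, h4⟩ := exists_D4 (α := R8) (by rw [card_R8]; decide)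
    refine h4.iv.2 (Perm.ofSubtype_injective ((th_fx q h (fx_ofSubtype _) (by rw [← map_mul, h4.iv.1, map_one]) ?_).trans
      (map_one _).symm))
    rw [← ev_i8 _ h4.mem, ev_of_mem h4.mem]
    exact (MonoidHom.mem_ker (f := i8 ψ θ)).1 (e ▸ mem_top _)
  refine ⟨card_R8.ge, inj, ⟨th_sq, fun e => ?_⟩, act_of u1_mem fun p hp => ?_, fun x hx => ?_, fun x hx ha h2 => ?_⟩
  · have := u1_ph (ψ := ψ)
    rw [q.ker_comm u1_mem e, mul_inv_cancel_right, ← map_inv] at this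
    exact absurd (h.inj this) (by decide)
  · rw [map_one, one_mul, inv_one, mul_one, ← HsB.map_comm (HsB.fix_comm (fx_of hp).a (fx_of hp).b),
      mul_inv_cancel_right]
  · obtain ⟨m, hm, rfl, hp⟩ := exists_pair q h hx
    exact (pair_act h hm hp).imp fun _ => And.left
  · obtain ⟨m, hm, rfl, hp⟩ := exists_pair q h hx
    obtain ⟨s, hs, e2⟩ := SAn.Bas.exists_odd_pow m
    have hm' := pow_mem hm s
    obtain ⟨r, hr, k⟩ := pair_act (θ := θ) h hm' (pow_mem hp s)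
    have hL := k (hr.unique inj (by rw [card_R8]; decide) (by simpa only [th_pow hm, one_pow] using ha.pow s))
    have two : ∀ w : G, w * ψ (swap 0 1) * w⁻¹ = ψ (swap 0 1) → w * ψ (swap 2 3) * w⁻¹ = ψ (swap 2 3) →
        w ∈ 𝐂[L8 ψ] → E2 w → th θ w = 1 ∨ th θ w = th θ (ψ (swap 0 1)) := fun w w1 w2 w3 w4 => by
      rcases h.pair_two (mul_inv_eq_iff_eq_mul.1 w1) (mul_inv_eq_iff_eq_mul.1 w2) w3 w4 with rfl | rfl | rfl | rfl
      exacts [.inl th_one, .inr rfl, .inr (th_u2 q), .inl (th_zp q dd_zp)]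
    have key : th θ (m ^ s) = 1 ∨ th θ (m ^ s) = th θ (ψ (swap 0 1)) := by
      rcases pow_mem hp s with ⟨k1, k2⟩ | ⟨k1, k2⟩
      · exact two _ k1 k2 hL e2
      · have e : ∀ w, m ^ s * ph ψ * ψ w * (m ^ s * ph ψ)⁻¹ =
            m ^ s * ψ (c4 0 1 2 3 * w * (c4 0 1 2 3)⁻¹) * (m ^ s)⁻¹ := fun w => by rw [HsB.map_conj]; group
        have := two (m ^ s * ph ψ) (by rw [e, ← k2]; congr 3; decide) (by rw [e, ← k1]; congr 3; decide)
          (mul_mem hL (mem_cent.2 (by rintro _ ⟨p, hp, rfl⟩; exact comm_ph (fx_of hp)))) (E2.mul_phi ph_four hm' e2)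
        rwa [th_mul hm' ph_mem, q.th_phi, mul_one] at this
    rw [th_pow hm] at key
    rwa [odd_pow h2 hs (key.elim (fun e => by rw [e, one_mul]) fun e => by rw [e, th_sq])] at key

theorem QD.sg (q : QD (ph ψ) θ) (h : Hs ψ) (hc : HNc ψ 0 1 2 3) :
    Sg (i8 ψ θ) (th θ (ψ (swap 0 1))) 4 ∧ ¬ Sg (i8 ψ θ) (th θ (ψ (swap 0 1))) 2 := by
  constructor
  · obtain ⟨g, hg, z, hz, t4, k⟩ := hc.four
    obtain ⟨p, rfl⟩ := exists_oS hz
    have t := Tp.ofSubtype.1 t4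
    have m := t.even_iff.2 (by decide)
    have c := mul_mem (mul_mem hg u1_mem) (inv_mem hg)
    refine ⟨p, m, fun e => absurd (t.unique (tp_zero.2 e)) (by decide), t, isConj_iff.2 ⟨th θ g, ?_⟩⟩
    have := th_zp q k
    rw [map_mul, th_mul (inv_mem c) (mul_mem u1_mem (mem_NN hz)), th_inv c, inv_mul_eq_one, th_conj hg u1_mem,
      th_mul u1_mem (mem_NN hz)] at this
    rw [this, ev_i8 _ m]
  · rintro ⟨p, m, -, t, k⟩
    have hz := fx_ofSubtype p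
    rw [ev_i8 _ m, ← th_mul u1_mem (mem_NN hz)] at k
    obtain ⟨j, hj, i, e⟩ := q.lift u1_mem (mul_mem u1_mem (mem_NN hz)) (by rw [sw_sq]; exact one_mem _) (by
      rw [mul_assoc, ← mul_assoc (ψ (Perm.ofSubtype p)), HsB.map_comm (HsB.fix_comm hz.a hz.b), mul_assoc, ← mul_assoc,
        sw_sq, one_mul, ← map_mul, ← map_mul, t.1, map_one, map_one]
      exact one_mem _) k
    refine hc.two j hj _ hz (Tp.ofSubtype.2 t) ?_
    rw [e, map_mul, mul_inv_rev, inv_mul_cancel_right]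
    exact inv_mem (pow_mem (mem_zpowers _) i)

end Cfsg.Agent.SAc
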