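import Mathlib
import Cfsg.Agent.SAc.Defs
import Cfsg.Agent.H3.HSa

/-! Higman-Sims end game of S3124: the homocyclic group `4³` from an involution with centraliser
`2 × A₈` (a copy of `H3/HSa1`, `H3/HSa` without odd permutations). -/

set_option autoImplicit false

namespace Cfsg.Agent.SAc.HSx

open Subgroup Equiv
open Cfsg.Agent.H3 (M4 io ap io_inj io_surj ta_cases)
open Cfsg.Agent.H3.HS2 (ph)

universe u

variable {G : Type u} [Group G]

/-- The alternating group on eight points. -/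
abbrev A8 : Type := alternatingGroup (Fin 8)

instance : CoeFun A8 fun _ => Fin 8 → Fin 8 := ⟨fun p => (p : Perm (Fin 8))⟩

theorem tr_even : ∀ i, Perm.sign (H3.tr i) = 1 := by decide +kernel

/-- The translations. -/
def tr (i : Fin 8) : A8 := ⟨H3.tr i, Perm.mem_alternatingGroup.2 (tr_even i)⟩
/-- `(0 1 2)(3 4 5)`. -/
def th : A8 := ⟨H3.th, Perm.mem_alternatingGroup.2 (by decide +kernel)⟩
/-- `(0 3)(1 4)(2 5)(6 7)`. -/
def v1 : A8 := ⟨H3.v1, Perm.mem_alternatingGroup.2 (by decide +kernel)⟩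
/-- A 7-cycle. -/
def ze : A8 := ⟨H3.ze, Perm.mem_alternatingGroup.2 (by decide +kernel)⟩
/-- `(1 2)(4 5)`. -/
def ta : A8 := ⟨H3.ta, Perm.mem_alternatingGroup.2 (by decide +kernel)⟩
/-- `(0 1 5 7)(2 3)`. -/
def rh : A8 := ⟨H3.rh, Perm.mem_alternatingGroup.2 (by decide +kernel)⟩

theorem tr_mul : ∀ i j, tr i * tr j = tr (tr i j) := fun i j => Subtype.ext (H3.tr_mul i j)
theorem tr0 : tr 0 = 1 := Subtype.ext H3.tr0
theorem tr3 : tr 3 = v1 := Subtype.ext H3.tr3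
theorem tr_zero : ∀ i, tr i 0 = i := H3.tr_zero
theorem tr_comm : ∀ i j, tr i j = tr j i := H3.tr_comm
theorem tr_self : ∀ i, tr i i = 0 := H3.tr_self
theorem tr_eq_zero : ∀ i j, tr i j = 0 → i = j := H3.tr_eq_zero

/-- `l` normalises the translations. -/
def Nm (l : A8) : Prop := ∀ j, ∃ j', l * tr j' * l⁻¹ = tr j

instance (l : A8) : Decidable (Nm l) := by unfold Nm; infer_instance

/-- An involution commuting with a copy of `A₈`. -/
structure K0 (Γ : Type u) [Group Γ] where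
  s : Γ
  κ : A8 →* Γ
  inj : Function.Injective κ
  s2 : s * s = 1
  comm : ∀ p, κ p * s = s * κ p

/-- `g` centralises the translations and moves `s` by the `i`-th one. -/
def K0.Rr (h : K0 G) (g : G) (i : Fin 8) : Prop :=
  (∀ j, g * h.κ (tr j) = h.κ (tr j) * g) ∧ g * h.s * g⁻¹ = h.s * h.κ (tr i)

/-- The local configuration without odd core. -/
structure HS1 (Γ : Type u) [Group Γ] extends K0 Γ where
  cen : ∀ g, g * s = s * g → g * κ v1 = κ v1 * g →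
    ∃ σ : Perm (Fin 8), ∀ p, g * κ p * g⁻¹ = κ (MulAut.conjNormal σ p)
  ker : ∀ g, g * s = s * g → (∀ p, g * κ p = κ p * g) → g = 1 ∨ g = s
  rr : ∃ x, toK0.Rr x 3
  n2 : ∀ p : A8, Tp (p : Perm (Fin 8)) 2 → ¬ IsConj s (s * κ p)

namespace K0

variable (h : K0 G)

/-- A generator of the homocyclic group `4³` with the action of `L₃(2) = ⟨ze, ta⟩`. -/
structure Let (b : G) : Prop where
  sq : b * b = h.κ v1
  sb : h.s * b * h.s⁻¹ = b⁻¹
  θb : h.κ th * b = b * h.κ th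
  c1 : b * (h.κ ze * b * (h.κ ze)⁻¹) = h.κ ze * b * (h.κ ze)⁻¹ * b
  c2 : b * (h.κ (ze ^ 2) * b * (h.κ (ze ^ 2))⁻¹) = h.κ (ze ^ 2) * b * (h.κ (ze ^ 2))⁻¹ * b
  /-- `b₃ = b₀ b₁³ b₂²`. -/
  z3 : h.κ (ze ^ 3) * b * (h.κ (ze ^ 3))⁻¹ =
    b * (h.κ ze * b * (h.κ ze)⁻¹) ^ 3 * (h.κ (ze ^ 2) * b * (h.κ (ze ^ 2))⁻¹) ^ 2
  t0 : h.κ ta * b * (h.κ ta)⁻¹ = b⁻¹
  t1 : h.κ ta * (h.κ ze * b * (h.κ ze)⁻¹) = h.κ ze * b * (h.κ ze)⁻¹ * h.κ ta

theorem s_inv : h.s⁻¹ = h.s := inv_eq_of_mul_eq_one_right h.s2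

theorem t_mul (i j) : h.κ (tr i) * h.κ (tr j) = h.κ (tr (tr i j)) := by rw [← map_mul, tr_mul]

theorem t0 : h.κ (tr 0) = 1 := by rw [tr0, map_one]

theorem t_sq (i) : h.κ (tr i) * h.κ (tr i) = 1 := by rw [t_mul, tr_self, t0]

theorem t_eq_one {i} (e : h.κ (tr i) = 1) : i = 0 := by
  rw [← tr_zero i, (injective_iff_map_eq_one _).1 h.inj _ e]; rfl

theorem conj_sκ (σ p) : IsConj (h.s * h.κ p) (h.s * h.κ (σ * p * σ⁻¹)) :=
  isConj_iff.2 ⟨h.κ σ, by rw [← mul_assoc, h.comm, map_mul, map_mul, map_inv]; group⟩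

theorem Rr_s : h.Rr h.s 0 := ⟨fun _ => (h.comm _).symm, by simp [t0]⟩

theorem Rr_t (i) : h.Rr (h.κ (tr i)) 0 :=
  ⟨fun j => by rw [t_mul, t_mul, tr_comm], by simp [h.comm, t0]⟩

variable {h} {g g' : G} {i j : Fin 8}

theorem Rr.mul (a : h.Rr g i) (b : h.Rr g' j) {k} (e : tr i j = k := by decide +kernel) : h.Rr (g * g') k :=
  ⟨fun k => by rw [mul_assoc, b.1, ← mul_assoc, a.1, mul_assoc], by
    calc _ = g * (g' * h.s * g'⁻¹) * g⁻¹ := by group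
      _ = g * h.s * g⁻¹ * (g * h.κ (tr j) * g⁻¹) := by rw [b.2]; group
      _ = _ := by rw [a.2, a.1, ← e, ← t_mul]; group⟩

theorem Rr.inv (a : h.Rr g i) : h.Rr g⁻¹ i :=
  ⟨fun k => by rw [inv_mul_eq_iff_eq_mul, ← mul_assoc, a.1, mul_inv_cancel_right], by
    calc _ = g⁻¹ * (h.s * h.κ (tr i)) * (h.κ (tr i) * g) := by
          rw [mul_assoc _ (_ * _), mul_assoc h.s, ← mul_assoc (h.κ _), t_sq]; group
      _ = _ := by rw [← a.1]; nth_rewrite 1 [← a.2]; group⟩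

theorem Rr.conj (a : h.Rr g i) {l} (hl : Nm l) (e : l * tr i * l⁻¹ = tr j) : h.Rr (h.κ l * g * (h.κ l)⁻¹) j :=
  ⟨fun k => by
    obtain ⟨k, e'⟩ := hl k
    rw [← e', map_mul, map_mul, map_inv, conj_mul, conj_mul, a.1], by
    calc _ = h.κ l * g * ((h.κ l)⁻¹ * (h.s * h.κ l)) * g⁻¹ * (h.κ l)⁻¹ := by group
      _ = h.κ l * (g * h.s * g⁻¹) * (h.κ l)⁻¹ := by rw [← h.comm]; group
      _ = _ := by rw [a.2, ← e, ← mul_assoc, h.comm, map_mul, map_mul, map_inv]; group⟩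

theorem Rr.sq_s (a : h.Rr g i) (j) : g * (h.s * h.κ (tr j)) * (g * (h.s * h.κ (tr j))) = h.κ (tr i) * (g * g) := by
  have h1 := mul_inv_eq_iff_eq_mul.1 ((a.mul a (tr_self i)).2.trans (by rw [t0, mul_one]))
  calc _ = g * h.s * g⁻¹ * (g * (h.κ (tr j) * g) * h.s * h.κ (tr j)) := by group
    _ = h.s * h.κ (tr i) * (g * g * (h.κ (tr j) * h.s) * h.κ (tr j)) := by rw [a.2, ← a.1]; group
    _ = h.s * h.κ (tr i) * (g * g * h.s * (h.κ (tr j) * h.κ (tr j))) := by rw [h.comm]; group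
    _ = _ := by rw [t_sq, h1, ← h.comm, mul_one, mul_assoc, ← mul_assoc h.s, h.s2, one_mul]

theorem Rr.sq_t (a : h.Rr g i) (j) : g * h.κ (tr j) * (g * h.κ (tr j)) = g * g := by
  rw [mul_assoc, ← mul_assoc (h.κ _), ← a.1, mul_assoc, t_sq, mul_one]

/-- An element of order four of the homocyclic group. -/
def Bb (h : K0 G) (g : G) (i : Fin 8) : Prop := h.Rr g i ∧ g * g = h.κ (tr i)

theorem Bb.conj (a : h.Bb g i) {l} (hl : Nm l) (e : l * tr i * l⁻¹ = tr j) : h.Bb (h.κ l * g * (h.κ l)⁻¹) j :=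
  ⟨a.1.conj hl e, by rw [conj_mul, a.2, ← e, map_mul, map_mul, map_inv]⟩

theorem Bb.inv_eq (a : h.Bb g i) : g⁻¹ = g * h.κ (tr i) :=
  inv_eq_of_mul_eq_one_right (by rw [← mul_assoc, a.2, t_sq])

theorem Bb.sb (a : h.Bb g i) : h.s * g * h.s⁻¹ = g⁻¹ := by
  rw [a.inv_eq, mul_inv_eq_iff_eq_mul, mul_assoc, h.comm, ← a.1.inv.2]; group

theorem Bb.pw_add {b : G} {i} (a : h.Bb b i) (x y : ZMod 4) : b ^ (x + y).val = b ^ x.val * b ^ y.val := by
  rw [ZMod.val_add, ← pow_eq_pow_mod, pow_add]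
  rw [show 4 = 2 * 2 from rfl, pow_mul, sq, sq, a.2, t_sq]

theorem Bb.pw_even {b : G} {i} (a : h.Bb b i) {x : ZMod 4} (e : x + x = 0) :
    b ^ x.val = h.κ (tr (if x = 0 then 0 else i)) := by
  obtain rfl | rfl : x = 0 ∨ x = 2 := by revert x; decide
  exacts [by rw [if_pos rfl, t0]; exact pow_zero b, by rw [if_neg (by decide), ← a.2]; exact sq b]

theorem Bb.pw_Rr {b : G} {i} (a : h.Bb b i) (x : ZMod 4) : h.Rr (b ^ x.val) (if x + x = 0 then 0 else i) := by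
  split_ifs with e
  · exact a.pw_even e ▸ h.Rr_t _
  obtain rfl | rfl : x = 1 ∨ x = 3 := by revert x; decide
  · exact (pow_one b).symm ▸ a.1
  · exact (show b * b * b = b ^ 3 by rw [pow_succ, sq]) ▸ (a.1.mul a.1 (tr_self i)).mul a.1
      (by rw [tr_comm, tr_zero])

/-- Three commuting generators. -/
structure Tri (h : K0 G) (b0 b1 b2 : G) : Prop where
  a0 : h.Bb b0 3
  a1 : h.Bb b1 6
  a2 : h.Bb b2 2
  c01 : Commute b0 b1
  c02 : Commute b0 b2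
  c12 : Commute b1 b2

namespace Tri

variable {b0 b1 b2 : G} (t : h.Tri b0 b1 b2)
include t

theorem add (n m : M4) : ph b0 b1 b2 (n + m) = ph b0 b1 b2 n * ph b0 b1 b2 m := by
  simp only [ph, Prod.fst_add, Prod.snd_add, t.a0.pw_add, t.a1.pw_add, t.a2.pw_add]
  rw [(t.c01.pow_pow ..).mul_mul_mul_comm, ((t.c02.pow_pow ..).mul_left (t.c12.pow_pow ..)).mul_mul_mul_comm]

theorem smul (k : ℕ) (n : M4) : ph b0 b1 b2 (k • n) = ph b0 b1 b2 n ^ k := by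
  induction k with
  | zero => simp [ph]
  | succ k ih => rw [succ_nsmul, t.add, ih, pow_succ]

theorem even {n : M4} (e : n + n = 0) : ph b0 b1 b2 n = h.κ (tr (io n)) := by
  rw [ph, t.a0.pw_even (congrArg (·.1) e), t.a1.pw_even (congrArg (·.2.1) e), t.a2.pw_even (congrArg (·.2.2) e),
    t_mul, t_mul, io]
  rfl

theorem rr (n : M4) : h.Rr (ph b0 b1 b2 n) (io (n + n)) :=
  ((t.a0.pw_Rr _).mul (t.a1.pw_Rr _) rfl).mul (t.a2.pw_Rr _) rfl

theorem inj {n m : M4} (e : ph b0 b1 b2 n = ph b0 b1 b2 m) : n = m := by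
  rw [← sub_add_cancel n m, t.add, mul_eq_right] at e
  have h1 := (t.rr (n - m)).2
  rw [e, one_mul, inv_one, mul_one, left_eq_mul] at h1
  have h2 := io_inj _ (by generalize n - m = x; revert x; decide +kernel) (h.t_eq_one h1)
  exact sub_eq_zero.1 (io_inj _ h2 (h.t_eq_one ((t.even h2).symm.trans e)))

theorem act {g : G} {c0 c1 c2 : M4} (e0 : g * b0 * g⁻¹ = ph b0 b1 b2 c0) (e1 : g * b1 * g⁻¹ = ph b0 b1 b2 c1)
    (e2 : g * b2 * g⁻¹ = ph b0 b1 b2 c2) (n : M4) : g * ph b0 b1 b2 n * g⁻¹ = ph b0 b1 b2 (ap c0 c1 c2 n) := by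
  rw [ap, t.add, t.add, t.smul, t.smul, t.smul, ← e0, ← e1, ← e2, conj_pow, conj_pow, conj_pow, conj_mul, conj_mul, ph]

theorem fix {g : G} {F : M4 → M4} (e : ∀ n, g * ph b0 b1 b2 n * g⁻¹ = ph b0 b1 b2 (F n)) {k : ℕ} (hk : g ^ k = 1)
    (n : M4) : F^[k] n = n := by
  have : ∀ k : ℕ, g ^ k * ph b0 b1 b2 n * (g ^ k)⁻¹ = ph b0 b1 b2 (F^[k] n) := fun k => by
    induction k with
    | zero => simp
    | succ k ih => rw [Function.iterate_succ_apply', ← e, ← ih, pow_succ']; group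
  exact t.inj (by rw [← this, hk]; group)

end Tri

end K0

namespace HS1

open K0

variable {h : HS1 G} {g g' : G} {i j : Fin 8}

theorem cent_tr {σ : Perm (Fin 8)} (e : ∀ j, σ * H3.tr j = H3.tr j * σ) : σ = H3.tr (σ 0) := Equiv.ext fun j => by
  have := congrArg (· 0) (e j)
  simpa only [Perm.mul_apply, H3.tr_zero, H3.tr_comm j (σ 0)] using this

theorem zero (a : h.Rr g 0) : ∃ j, g = h.κ (tr j) ∨ g = h.s * h.κ (tr j) := by
  have c : g * h.s = h.s * g := mul_inv_eq_iff_eq_mul.1 (a.2.trans (by rw [t0, mul_one]))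
  obtain ⟨σ, e⟩ := h.cen g c (tr3 ▸ a.1 3)
  have e1 : σ = H3.tr (σ 0) := cent_tr fun j => by
    have := h.inj ((e (tr j)).symm.trans (mul_inv_eq_iff_eq_mul.2 (a.1 j)))
    exact mul_inv_eq_iff_eq_mul.1 (congrArg Subtype.val this)
  generalize σ 0 = k at e1
  subst e1
  have e2 : ∀ p, g * h.κ p * g⁻¹ = h.κ (tr k) * h.κ p * (h.κ (tr k))⁻¹ := fun p => by
    rw [e, ← map_inv, ← map_mul, ← map_mul]; rfl
  refine ⟨k, (h.ker (g * (h.κ (tr k))⁻¹) ?_ fun p => ?_).imp mul_inv_eq_one.1 mul_inv_eq_iff_eq_mul.1⟩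
  · rw [← map_inv, mul_assoc, h.comm, ← mul_assoc, c, mul_assoc]
  · have := e2 ((tr k)⁻¹ * p * tr k)
    rw [map_mul, map_mul, map_inv] at this
    calc _ = g * ((h.κ (tr k))⁻¹ * h.κ p * h.κ (tr k)) * g⁻¹ * (g * (h.κ (tr k))⁻¹) := by group
      _ = _ := by rw [this]; group

theorem fuse4 (h : HS1 G) : IsConj h.s (h.s * h.κ v1) := by
  obtain ⟨x, hx⟩ := h.rr
  exact isConj_iff.2 ⟨x, tr3 ▸ hx.2⟩

theorem sq0 (a : h.Rr g 0) : g * g = 1 := by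
  obtain ⟨j, rfl | rfl⟩ := zero a
  exacts [h.t_sq j, by rw [mul_assoc, ← mul_assoc (h.κ _), h.comm, mul_assoc, t_sq, mul_one, h.s2]]

theorem cases (a : h.Rr g i) (b : h.Rr g' i) : ∃ j, g' = g * h.κ (tr j) ∨ g' = g * (h.s * h.κ (tr j)) :=
  (zero (a.inv.mul b (tr_self i))).imp fun _ => Or.imp inv_mul_eq_iff_eq_mul.1 inv_mul_eq_iff_eq_mul.1

theorem eq (hi : i ≠ 0) (a : h.Rr g i) (b : h.Rr g' i) (e : g' * g' = g * g) : ∃ j, g' = g * h.κ (tr j) := by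
  obtain ⟨j, e' | rfl⟩ := cases a b
  exacts [⟨j, e'⟩, absurd (h.t_eq_one (mul_eq_right.1 ((a.sq_s j).symm.trans e))) hi]

variable (h) in
theorem exists_Bb : ∃ b, h.Bb b 3 ∧ h.κ th * b = b * h.κ th := by
  obtain ⟨x, hx⟩ := h.rr
  have n : Nm th := by decide +kernel
  have c0 : ∀ {a}, h.Rr a 0 → h.Rr (h.κ th * a * (h.κ th)⁻¹) 0 := fun a => a.conj n (by decide +kernel)
  have h1 : h.Rr (x⁻¹ * (h.κ th * x * (h.κ th)⁻¹)) 0 := hx.inv.mul (hx.conj n (j := 3) (by decide +kernel))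
  have h3 : h.κ th * h.κ th * h.κ th = 1 := by
    rw [← map_mul, ← map_mul, show th * th * th = 1 by decide +kernel, map_one]
  have h2 : h.Rr _ 3 := hx.mul (c0 h1)
  have h4 := sq0 h1
  have h5 := sq0 (h1.mul (k := 0) (c0 h1))
  have h6 := sq0 (c0 (c0 h1))
  obtain ⟨y, hy, e⟩ : ∃ y, h.Rr y 3 ∧ h.κ th * y = y * h.κ th := ⟨_, h2, by
    generalize h.κ th = θ at *
    set a := x⁻¹ * (θ * x * θ⁻¹) with ha
    have e1 : a * (θ * a * θ⁻¹ * (θ * (θ * a * θ⁻¹) * θ⁻¹)) = 1 := by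
      calc _ = x⁻¹ * (θ * θ * θ) * x * (θ * θ * θ)⁻¹ := by rw [ha]; group
        _ = _ := by rw [h3]; group
    have e2 : θ * x * θ⁻¹ = x * a := by rw [ha]; group
    clear_value a
    rw [← mul_assoc, ← h5, mul_right_inj] at e1
    rw [← mul_inv_eq_iff_eq_mul, ← conj_mul, e2, mul_assoc x, e1, ← mul_assoc a, h4, one_mul]⟩
  obtain ⟨j, e1 | e1⟩ := zero (hy.mul (k := 0) hy)
  · obtain rfl | rfl : j = 0 ∨ j = 3 := by
      have : th * tr j = tr j * th := h.inj (by rw [map_mul, map_mul, ← e1, ← mul_assoc, e, mul_assoc, e, mul_assoc])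
      clear e1; revert j; decide +kernel
    · refine ⟨_, ⟨hy.mul (j := 0) (h.Rr_s.mul (h.Rr_t 0)), by rw [hy.sq_s, e1, t0, mul_one]⟩, ?_⟩
      rw [t0, mul_one, ← mul_assoc, e, mul_assoc, h.comm, mul_assoc]
    · exact ⟨y, ⟨hy, e1⟩, e⟩
  · have : y * (y * y) * y⁻¹ = y * y := by group
    rw [e1, ← conj_mul, hy.2, hy.1, mul_inv_cancel_right, mul_left_inj, mul_eq_left] at this
    exact absurd (h.t_eq_one this) (by decide)

theorem bcomm {b : G} (a : h.Bb b 3) : b * (h.κ ze * b * (h.κ ze)⁻¹) = h.κ ze * b * (h.κ ze)⁻¹ * b := by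
  have a1 := a.conj (l := ze) (j := 6) (by decide +kernel) (by decide +kernel)
  have a3 := a1.conj (l := ze * ze) (j := 7) (by decide +kernel) (by decide +kernel)
  have n : Nm rh := by decide +kernel
  obtain ⟨k, e1⟩ := HS1.eq (by decide) a1.1 (a.conj n (by decide +kernel)).1
    ((a.conj n (by decide +kernel)).2.trans a1.2.symm)
  generalize h.κ ze * b * (h.κ ze)⁻¹ = c at *
  obtain ⟨j, e | e⟩ := cases a3.1 (a1.1.mul a.1)
  · have e2 : c * b * (c * b) = c * c * (b * b) := by rw [e, a3.1.sq_t, a3.2, a.2, a1.2, t_mul, show tr 6 3 = 7 by decide +kernel]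
    exact mul_left_cancel (a := c) (mul_right_cancel (b := b) (by simpa only [mul_assoc] using e2))
  have e2 : c * b * (c * b) = 1 := by rw [e, a3.1.sq_s, a3.2, t_sq]
  have y0 : h.Rr (b * h.s) 3 := a.1.mul h.Rr_s
  have e3 : h.κ rh * (b * h.s) * (h.κ rh)⁻¹ * (b * h.s) = c * b * h.κ (tr (tr k 3)) := by
    calc _ = h.κ rh * b * (h.κ rh)⁻¹ * (h.κ rh * h.s * (h.κ rh)⁻¹) * b * h.s := by group
      _ = c * (h.κ (tr k) * (h.s * b * h.s⁻¹)) := by rw [e1, h.comm, s_inv]; group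
      _ = _ := by rw [a.sb, a.inv_eq, ← mul_assoc (h.κ _), ← a.1.1, ← t_mul]; group
  have g0 : h.Rr _ 7 := (y0.conj n (j := 6) (by decide +kernel)).mul y0
  have g1 : h.κ rh * (b * h.s) * (h.κ rh)⁻¹ * (b * h.s) * (h.κ rh * (b * h.s) * (h.κ rh)⁻¹ * (b * h.s)) = 1 := by
    rw [e3, (a1.1.mul a.1 rfl).sq_t, e2]
  obtain ⟨m, e4⟩ := HS1.eq (by decide) g0 (g0.conj (l := rh * rh) (by decide +kernel) (by decide +kernel))
    (by rw [conj_mul, g1, mul_one, mul_inv_cancel])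
  have h4 : h.κ rh * h.κ rh * h.κ rh * h.κ rh = 1 := by
    rw [← map_mul, ← map_mul, ← map_mul, show rh * rh * rh * rh = 1 by decide +kernel, map_one]
  have e5 := congrArg (· * (h.κ rh * (b * h.s) * (h.κ rh)⁻¹ * (b * h.s))) e4
  rw [mul_assoc _ (h.κ (tr m)), ← g0.1, ← mul_assoc _ _ (h.κ (tr m)), g1, one_mul, map_mul] at e5
  have e6 : rh * tr m * rh⁻¹ = tr m := h.inj (by
    rw [map_mul, map_mul, map_inv]
    nth_rewrite 2 [← mul_inv_eq_iff_eq_mul.2 (y0.1 m)]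
    rw [← e5]
    generalize b * h.s = y, h.κ rh = r at h4
    calc _ = r * r * r * r * (y * r⁻¹ * y * r⁻¹ * y * r⁻¹ * y * r⁻¹) := by group
      _ = y * (r * r * r * r) * (r⁻¹ * y * r⁻¹ * y * r⁻¹ * y * r⁻¹) := by rw [h4]; group
      _ = _ := by group)
  obtain ⟨σ, e7⟩ : ∃ σ, tr 7 * tr m * (rh * rh) = σ * v1 * σ⁻¹ := by
    obtain rfl | rfl : m = 0 ∨ m = 5 := by clear e4 e5; revert m; decide +kernel
    exacts [⟨⟨swap 1 3 * swap 1 2 * swap 5 6 * swap 6 7, Perm.mem_alternatingGroup.2 (by decide +kernel)⟩,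
        by decide +kernel⟩,
      ⟨⟨swap 3 6 * swap 3 5 * swap 3 4 * swap 3 7, Perm.mem_alternatingGroup.2 (by decide +kernel)⟩,
        by decide +kernel⟩]
  have h5 : IsConj (h.s * h.κ (rh * rh)) (h.s * h.κ (σ * v1 * σ⁻¹)) := isConj_iff.2 ⟨_, by
    rw [← conj_mul, g0.2, ← e7, map_mul _ (tr 7 * tr m), map_mul _ (tr 7), ← inv_mul_eq_iff_eq_mul.2 e4]
    generalize h.κ rh * (b * h.s) * (h.κ rh)⁻¹ * (b * h.s) = y at g1
    rw [inv_eq_of_mul_eq_one_right g1]; group⟩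
  exact absurd ((h.fuse4.trans (h.conj_sκ σ _)).trans h5.symm) (h.n2 _ ⟨by decide +kernel, by decide +kernel⟩)

theorem exists_ph {b0 b1 b2 : G} (t : h.Tri b0 b1 b2) {g : G} {i} (a : h.Bb g i) (n : M4) (e : io (n + n) = i) (hi : i ≠ 0) :
    ∃ d, d + d = 0 ∧ g = ph b0 b1 b2 (n + d) := by
  obtain ⟨j, rfl⟩ := HS1.eq hi (e ▸ t.rr n) a.1 (by
    rw [a.2, ← t.add, t.even (by generalize n = x; revert x; decide +kernel), e])
  obtain ⟨d, h1, rfl⟩ := io_surj j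
  exact ⟨d, h1, by rw [t.add, t.even h1]⟩

theorem exists_let (h : HS1 G) : ∃ b, h.Let b := by
  obtain ⟨b, a, hθ⟩ := h.exists_Bb
  have nz : Nm ze := by decide +kernel
  have nt : Nm ta := by decide +kernel
  have a1 := a.conj (j := 6) nz (by decide +kernel)
  have c1 : Commute _ _ := bcomm a
  obtain ⟨b1, z0⟩ : ∃ b1, h.κ ze * b * (h.κ ze)⁻¹ = b1 := ⟨_, rfl⟩
  rw [z0] at a1 c1
  have a2 := a1.conj (j := 2) nz (by decide +kernel)
  have c3 := c1.conj (h.κ ze)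
  obtain ⟨b2, z1⟩ : ∃ b2, h.κ ze * b1 * (h.κ ze)⁻¹ = b2 := ⟨_, rfl⟩
  rw [z1] at a2
  rw [z0, z1] at c3
  have θ0 := mul_inv_eq_iff_eq_mul.2 hθ
  have k1 : ∀ x, h.κ th * (h.κ ze * x * (h.κ ze)⁻¹) * (h.κ th)⁻¹ =
      h.κ ze * (h.κ ze * (h.κ th * x * (h.κ th)⁻¹) * (h.κ ze)⁻¹) * (h.κ ze)⁻¹ := fun x => by
    have : h.κ th * h.κ ze = h.κ ze * h.κ ze * h.κ th := by
      rw [← map_mul, ← map_mul, ← map_mul]; exact congrArg _ (by decide +kernel)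
    calc _ = h.κ th * h.κ ze * x * (h.κ th * h.κ ze)⁻¹ := by group
      _ = _ := by rw [this]; group
  have θ1 : h.κ th * b1 * (h.κ th)⁻¹ = b2 := by rw [← z0, k1, θ0, z0, z1]
  have c2 := c1.conj (h.κ th)
  rw [θ0, θ1] at c2
  have t : h.Tri b b1 b2 := ⟨a, a1, a2, c1, c2, c3⟩
  have p0 : b = ph b b1 b2 (1, 0, 0) := show b = b ^ 1 * b1 ^ 0 * b2 ^ 0 by simp
  have p1 : b1 = ph b b1 b2 (0, 1, 0) := show b1 = b ^ 0 * b1 ^ 1 * b2 ^ 0 by simp
  have p2 : b2 = ph b b1 b2 (0, 0, 1) := show b2 = b ^ 0 * b1 ^ 0 * b2 ^ 1 by simp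
  have kp : ∀ {p : A8} {k : ℕ}, p ^ k = 1 → h.κ p ^ k = 1 := fun e => by rw [← map_pow, e, map_one]
  obtain ⟨e, he, z2⟩ := exists_ph t (a2.conj (j := 7) nz (by decide +kernel)) (1, 1, 0) (by decide +kernel) (by decide)
  obtain rfl : e = (0, 2, 2) := by
    have := t.fix (t.act (z0.trans p1) (z1.trans p2) z2) (kp (k := 7) (by decide +kernel)) (1, 0, 0)
    clear z2; revert e; decide +kernel
  have hz := t.act (z0.trans p1) (z1.trans p2) z2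
  have z3 : h.κ ze * (h.κ ze * b2 * (h.κ ze)⁻¹) * (h.κ ze)⁻¹ = ph b b1 b2 (2, 3, 3) := by
    rw [z2, hz]; exact congrArg _ (by decide +kernel)
  have q2 : ∀ x, h.κ (ze ^ 2) * x * (h.κ (ze ^ 2))⁻¹ = h.κ ze * (h.κ ze * x * (h.κ ze)⁻¹) * (h.κ ze)⁻¹ := fun x => by
    rw [sq, map_mul]; group
  obtain ⟨d0, h0, t0⟩ := exists_ph t (a.conj (j := 3) nt (by decide +kernel)) (1, 0, 0) (by decide +kernel) (by decide)
  obtain ⟨d1, h1, t1⟩ := exists_ph t (a1.conj (j := 6) nt (by decide +kernel)) (0, 1, 0) (by decide +kernel) (by decide)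
  obtain ⟨d2, h2, t2⟩ := exists_ph t (a2.conj (j := 1) nt (by decide +kernel)) (0, 1, 1) (by decide +kernel) (by decide)
  have ht := t.act t0 t1 t2
  have comp : ∀ {p} {F : M4 → M4}, (∀ n, h.κ p * ph b b1 b2 n * (h.κ p)⁻¹ = ph b b1 b2 (F n)) → ∀ n, h.κ (ta * p) * ph b b1 b2 n *
      (h.κ (ta * p))⁻¹ = ph b b1 b2 (ap ((1, 0, 0) + d0) ((0, 1, 0) + d1) ((0, 1, 1) + d2) (F n)) := fun e n => by
    rw [← ht, ← e, map_mul]; group
  obtain ⟨rfl, rfl⟩ := ta_cases d0 h0 d1 h1 d2 h2 (t.fix ht (kp (by decide +kernel)))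
    (t.fix (comp (t.act (θ0.trans p0) (θ1.trans p2) (by rw [← z3, ← θ1, ← k1, z1, θ1]))) (kp (by decide +kernel)))
    (t.fix (comp (p := ze ^ 2) (t.act (by rw [q2, z0, z1, ← p2]) (by rw [q2, z1, z2]; rfl) (by rw [q2, z3])))
      (kp (by decide +kernel)))
  refine ⟨b, tr3 ▸ a.2, a.sb, hθ, z0 ▸ c1, by rw [q2, z0, z1, c2], ?_, ?_, ?_⟩
  · rw [q2, z0, z1, pow_succ' ze, map_mul, mul_inv_rev, mul_assoc (h.κ ze), mul_assoc (h.κ ze), ← mul_assoc (_ * b), q2, z0,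
      z1, ← mul_assoc, z2]
    exact show b ^ 1 * b1 ^ 3 * b2 ^ 2 = _ by rw [pow_one]
  · rw [t0, a.inv_eq, ← a.2]
    exact show b ^ 3 * b1 ^ 0 * b2 ^ 0 = _ by simp [pow_succ, mul_assoc]
  · rw [z0, ← mul_inv_eq_iff_eq_mul, t1, add_zero, ← p1]

end HS1

end Cfsg.Agent.SAc.HSx
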