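import Mathlib
import Cfsg.Agent.SAc.HS1
import Cfsg.Agent.H3.HSbA

/-! Higman-Sims end game of S3124: the group `4³ : (2 × D₈)` of order 1024 (a copy of `H3/HSbA`). -/

set_option autoImplicit false
set_option synthInstance.maxSize 100000
set_option synthInstance.maxHeartbeats 1000000
set_option maxRecDepth 100000

namespace Cfsg.Agent.SAc.HSx

open Cfsg.Agent.Spor Cfsg.Agent.Rec Subgroup Equiv Cfsg.Agent.H3.TD
open Cfsg.Agent.H3 (ph ph_y ph_z ph_x' ph_y' ph_z' ph_mul ph_zpow ph_map ph_mod sat_of)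
open scoped commutatorElement

universe u

variable {G : Type u} [Group G]

/-- `(0 3)(1 4)`. -/
def qa : A8 := ⟨H3.qa, Perm.mem_alternatingGroup.2 (by decide +kernel)⟩

attribute [local irreducible] ze th ta qa v1

namespace K0

variable (h : K0 G) (b : G)

/-- The second generator. -/
def b1 : G := h.κ ze * b * (h.κ ze)⁻¹
/-- The third generator. -/
def b2 : G := h.κ (ze ^ 2) * b * (h.κ (ze ^ 2))⁻¹
/-- The third involution. -/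
def dd : G := h.κ qa * h.b2 b * h.b1 b
/-- The group of order 1024. -/
def T : Subgroup G := clos [h.κ ta, h.κ qa, h.s, b, b⁻¹, h.b1 b, (h.b1 b)⁻¹, h.b2 b, (h.b2 b)⁻¹]
/-- The group of order 512. -/
def U : Subgroup G := clos [h.κ ta, h.κ qa, h.dd b]
/-- The group of order 8. -/
def V : Subgroup G := clos [b * b, h.b1 b * h.b1 b, h.b2 b * h.b2 b]
/-- The group `4³`. -/
def B : Subgroup G := clos [b, h.b1 b, h.b2 b]
/-- The dihedral group of order 8. -/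
def D : Subgroup G := clos [h.κ ta, h.κ qa]

variable {h b}

namespace Let

variable (l : h.Let b)
include l

theorem sq1 : h.b1 b * h.b1 b = h.κ (ze * v1 * ze⁻¹) := by
  rw [b1, conj_mul, l.sq, map_mul, map_mul, map_inv]

theorem sq2 : h.b2 b * h.b2 b = h.κ (ze ^ 2 * v1 * (ze ^ 2)⁻¹) := by
  rw [b2, conj_mul, l.sq, map_mul, map_mul, map_inv]

theorem p0 : b ^ 4 = 1 := by
  rw [show b ^ 4 = b * b * (b * b) by simp [pow_succ, mul_assoc], l.sq, ← map_mul,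
    show v1 * v1 = 1 by decide +kernel, map_one]

theorem p1 : h.b1 b ^ 4 = 1 := by rw [b1, conj_pow, l.p0, mul_one, mul_inv_cancel]

theorem p2 : h.b2 b ^ 4 = 1 := by rw [b2, conj_pow, l.p0, mul_one, mul_inv_cancel]

omit l in
theorem z1 : MulAut.conj (h.κ ze) (h.b1 b) = h.b2 b := by
  rw [MulAut.conj_apply, b1, b2, pow_two, map_mul]; group

theorem d1 : Commute b (h.b1 b) := l.c1

theorem d2 : Commute b (h.b2 b) := l.c2

theorem d3 : Commute (h.b1 b) (h.b2 b) := by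
  rw [← z1]; exact l.d1.map (MulAut.conj (h.κ ze))

theorem z2 : MulAut.conj (h.κ ze) (h.b2 b) = ph b (h.b1 b) (h.b2 b) 1 3 2 := by
  have := l.z3
  rw [show ze ^ 3 = ze * ze ^ 2 by rw [← pow_succ'], map_mul] at this
  rw [ph, zpow_one, zpow_ofNat, zpow_ofNat, b1, b2, ← this]
  simp only [MulAut.conj_apply, mul_inv_rev, mul_assoc]

theorem cZ (i j k : ℤ) : MulAut.conj (h.κ ze) (ph b (h.b1 b) (h.b2 b) i j k) =
    ph b (h.b1 b) (h.b2 b) k (i + 3 * k) (j + 2 * k) :=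
  (ph_map l.d1 l.d2 l.d3 _ ph_y (z1.trans ph_z) l.z2 i j k).trans (ph_mod l.p0 l.p1 l.p2 (by omega))

theorem t1' : MulAut.conj (h.κ ta) (h.b1 b) = h.b1 b := mul_inv_eq_iff_eq_mul.2 l.t1

theorem t2 : MulAut.conj (h.κ ta) (h.b2 b) = ph b (h.b1 b) (h.b2 b) 2 3 3 := by
  have c : ∀ p q x, MulAut.conj (h.κ (p * q)) x = MulAut.conj (h.κ p) (MulAut.conj (h.κ q) x) :=
    fun p q x => by rw [map_mul, map_mul, MulAut.mul_apply]
  have e0 : MulAut.conj (h.κ th) b = b := mul_inv_eq_iff_eq_mul.2 l.θb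
  have f1 : h.b1 b = MulAut.conj (h.κ ze) b := rfl
  have f2 : h.b2 b = MulAut.conj (h.κ (ze ^ 2)) b := rfl
  have e1 : h.b2 b = MulAut.conj (h.κ (th * ze)) b := by
    rw [show th * ze = ze ^ 2 * th by decide +kernel, c, e0, f2]
  have e2 : MulAut.conj (h.κ ta) (h.b2 b) = MulAut.conj (h.κ th⁻¹) (h.b1 b) := by
    rw [e1, ← l.t1', f1, ← c, ← c, ← c, show ta * (th * ze) = th⁻¹ * ta * ze by decide +kernel]
  have e3 : MulAut.conj (h.κ th⁻¹) b = b := by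
    rw [map_inv, MulAut.conj_apply, inv_inv, mul_assoc, ← l.θb, inv_mul_cancel_left]
  have e4 : MulAut.conj (h.κ th⁻¹) (h.b1 b) = MulAut.conj (h.κ ze) (MulAut.conj (h.κ ze) (h.b2 b)) := by
    rw [f1, ← c, show th⁻¹ * ze = ze * (ze * (ze ^ 2 * th⁻¹)) by decide +kernel, c, c, c, e3, f2]
  rw [e2, e4, l.z2, l.cZ]
  exact ph_mod l.p0 l.p1 l.p2 (by decide)

theorem cA (i j k : ℤ) : MulAut.conj (h.κ ta) (ph b (h.b1 b) (h.b2 b) i j k) =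
    ph b (h.b1 b) (h.b2 b) (2 * k - i) (j + 3 * k) (3 * k) :=
  (ph_map l.d1 l.d2 l.d3 _ (l.t0.trans ph_x') (l.t1'.trans ph_y) l.t2 i j k).trans
    (ph_mod l.p0 l.p1 l.p2 (by omega))

theorem cQ (i j k : ℤ) : MulAut.conj (h.κ qa) (ph b (h.b1 b) (h.b2 b) i j k) =
    ph b (h.b1 b) (h.b2 b) (i + 3 * j + k) (j + 2 * k) (2 * j + k) := by
  rw [show qa = ze * (ta * (ze * (ta * (ze * (ze * ta))))) by decide +kernel]
  simp only [map_mul, MulAut.mul_apply, l.cA, l.cZ]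
  exact ph_mod l.p0 l.p1 l.p2 (by omega)

theorem cS (i j k : ℤ) : MulAut.conj h.s (ph b (h.b1 b) (h.b2 b) i j k) =
    ph b (h.b1 b) (h.b2 b) (-i) (-j) (-k) := by
  have sc : ∀ p, MulAut.conj h.s (h.κ p * b * (h.κ p)⁻¹) = (h.κ p * b * (h.κ p)⁻¹)⁻¹ := fun p => by
    rw [MulAut.conj_apply, conj_inv, ← l.sb, ← mul_assoc, ← mul_assoc, ← h.comm, mul_assoc _ _ h.s⁻¹,
      ← mul_inv_rev, ← h.comm, mul_inv_rev]
    simp only [mul_assoc]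
  exact (ph_map l.d1 l.d2 l.d3 _ (l.sb.trans ph_x') ((sc ze).trans ph_y') ((sc (ze ^ 2)).trans ph_z') i j k).trans
    (ph_mod l.p0 l.p1 l.p2 (by omega))

theorem sat : Sat rel2 [h.κ ta, h.κ qa, h.s, b, b⁻¹, h.b1 b, (h.b1 b)⁻¹, h.b2 b, (h.b2 b)⁻¹] := by
  have ks : ∀ p, p * p = 1 → h.κ p * (h.s * (h.κ p * h.s)) = 1 := fun p hp => by
    rw [← mul_assoc h.s, ← h.comm, mul_assoc, h.s2, mul_one, ← map_mul, hp, map_one]
  refine sat_of l.d1 l.d2 l.d3 l.p0 l.p1 l.p2 (by rw [← map_mul, show ta * ta = 1 by decide +kernel, map_one])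
    (by rw [← map_mul, show qa * qa = 1 by decide +kernel, map_one]) h.s2 ?_ (ks _ (by decide +kernel))
    (ks _ (by decide +kernel)) l.cA l.cQ l.cS
  simp only [← map_mul]
  rw [show ta * (qa * (ta * (qa * (ta * (qa * (ta * qa)))))) = 1 by decide +kernel, map_one]

theorem z_ne : b * b ≠ 1 := by
  rw [l.sq, Ne, map_eq_one_iff _ h.inj]
  decide +kernel

theorem cod : ∃ C : Cod A G, C.RepL ([0, 1, 2, 3, 5, 7].map (nth A.one cL) ++ cF)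
      [h.κ ta, h.κ qa, h.s, b, h.b1 b, h.b2 b, h.dd b, b * b, h.b1 b * h.b1 b, h.b2 b * h.b2 b] ∧
    C.ListsL [T_t.dom, U_t.dom, V_t.dom, B_t.dom, D_t.dom] [h.T b, h.U b, h.V b, h.B b, h.D] ∧
    C.Lists T_t.dom (h.T b) ∧ C.Lists U_t.dom (h.U b) ∧ Nat.card (h.T b) = 1024 ∧ Nat.card (h.U b) = 512 := by
  obtain ⟨C, h0⟩ := H3.TD.cod rfl l.sat l.z_ne
  have h1 : C.RepL ([0, 1, 2, 3, 5, 7].map (nth A.one cL) ++ cF)
      [h.κ ta, h.κ qa, h.s, b, h.b1 b, h.b2 b, h.dd b, b * b, h.b1 b * h.b1 b, h.b2 b * h.b2 b] :=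
    List.rel_append (h0.pick [0, 1, 2, 3, 5, 7])
      ((h0.term (h.κ qa * h.b2 b * h.b1 b) (by decide +kernel)).cons <| (h0.term _ (by decide +kernel)).cons <|
        (h0.term _ (by decide +kernel)).cons <| (h0.term _ (by decide +kernel)).cons Cod.repL_nil)
  have gT : C.Lists T_t.dom (h.T b) ∧ Nat.card (h.T b) = 1024 := h0.gen T_ok
  have gU : C.Lists U_t.dom (h.U b) ∧ Nat.card (h.U b) = 512 := (h1.pick [0, 1, 6]).gen U_ok
  have gV : C.Lists V_t.dom (h.V b) ∧ Nat.card (h.V b) = 8 := (h1.pick [7, 8, 9]).gen V_ok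
  have gB : C.Lists B_t.dom (h.B b) ∧ Nat.card (h.B b) = 64 := (h1.pick [3, 4, 5]).gen B_ok
  have gD : C.Lists D_t.dom h.D ∧ Nat.card h.D = 8 := (h1.pick [0, 1]).gen D_ok
  exact ⟨C, h1, gT.1.cons (gU.1.cons (gV.1.cons (gB.1.cons (gD.1.cons Cod.listsL_nil)))), gT.1, gU.1, gT.2, gU.2⟩

theorem card_T : Nat.card (h.T b) = 1024 := l.cod.elim fun _ h => h.2.2.2.2.1
theorem card_U : Nat.card (h.U b) = 512 := l.cod.elim fun _ h => h.2.2.2.2.2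

theorem incl : h.U b ≤ h.T b ∧ h.V b ≤ h.T b ∧ h.B b ≤ h.T b ∧ h.D ≤ h.T b ∧ h.s ∈ h.T b ∧ h.s ∉ h.U b ∧
    h.κ ta ∈ h.T b ∧ h.κ qa ∈ h.T b ∧ h.b2 b ∈ h.T b ∧ b * b ∈ h.V b ∧ h.b1 b * h.b1 b ∈ h.V b ∧
    h.b2 b * h.b2 b ∈ h.V b ∧ h.b1 b * h.b1 b ≠ 1 ∧ h.b1 b * h.b1 b ≠ b * b ∧ h.b2 b * h.b2 b ≠ 1 ∧
    h.b2 b * h.b2 b ≠ b * b ∧ h.b2 b * h.b2 b ≠ h.b1 b * h.b1 b ∧
    h.b2 b * h.b2 b ≠ h.b1 b * h.b1 b * (b * b) ∧ b * h.s * h.s * (b * h.s)⁻¹ = h.s * (b * b) ∧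
    (b * h.s)⁻¹ = b * h.s := by
  obtain ⟨C, h1, hL, -⟩ := l.cod
  exact hL.decide h1 (by decide +kernel)

theorem cenT : ∀ x ∈ h.T b, x * h.s = h.s * x → x * h.b2 b = h.b2 b * x → x * h.κ ta = h.κ ta * x →
    x * h.κ qa = h.κ qa * x → x = 1 ∨ x = b * b := by
  obtain ⟨C, h1, hL, -⟩ := l.cod
  exact hL.decide h1 (by decide +kernel)

theorem cenU : ∀ x ∈ h.U b, x * h.dd b = h.dd b * x → x * h.κ ta = h.κ ta * x →
    x * h.κ qa = h.κ qa * x → x = 1 ∨ x = b * b := by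
  obtain ⟨C, h1, hL, -⟩ := l.cod
  exact hL.decide h1 (by decide +kernel)

theorem ab : ∀ x ∈ h.T b, x * x = 1 → x ∉ h.V b → h.s * x ∉ h.V b → b * h.s * x ∉ h.V b →
    ∃ y ∈ h.T b, Rec.Let (y * x * y⁻¹) fun u => x * u ≠ u * x := by
  obtain ⟨C, h1, hL, -⟩ := l.cod
  exact hL.decide h1 (by decide +kernel)

theorem cs : ∀ y ∈ h.T b, (Rec.Let (y * h.s * y⁻¹) fun u => h.s * u = u * h.s ∧ h.s * u ∈ h.V b) ∧
    y * (b * b) = b * b * y ∧ (y * (h.b1 b * h.b1 b) = h.b1 b * h.b1 b * y ∨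
      y * (h.b1 b * h.b1 b) = h.b1 b * h.b1 b * (b * b) * y) := by
  obtain ⟨C, h1, hL, -⟩ := l.cod
  exact hL.decide h1 (by decide +kernel)

theorem mv : ∀ v ∈ h.V b, (∃ d ∈ h.B b, d * h.s * d⁻¹ = h.s * v) ∧
    ∃ d ∈ h.B b, d * (b * h.s) * d⁻¹ = b * h.s * v := by
  obtain ⟨C, h1, hL, -⟩ := l.cod
  exact hL.decide h1 (by decide +kernel)

theorem flag : ∀ u ∈ h.V b, ∀ w ∈ h.V b, u ≠ 1 → u ≠ b * b →
    (h.κ ta * u = u * h.κ ta ∨ h.κ ta * u = u * (b * b) * h.κ ta) →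
    (h.κ qa * u = u * h.κ qa ∨ h.κ qa * u = u * (b * b) * h.κ qa) → w ≠ 1 → w ≠ b * b → w ≠ u →
    w ≠ u * (b * b) → ∃ d ∈ h.D, d * (b * b) * d⁻¹ = b * b ∧ d * (h.b1 b * h.b1 b) * d⁻¹ = u ∧
      d * (h.b2 b * h.b2 b) * d⁻¹ = w ∧ d * h.s * d⁻¹ = h.s := by
  obtain ⟨C, h1, hL, -⟩ := l.cod
  exact hL.decide h1 (by decide +kernel)

theorem cnt : ∀ x ∈ h.U b, (x * x = 1 ∧ x ∉ h.V b ∧ ∀ d ∈ h.B b, Rec.Let (d * x * d⁻¹) fun u => u ∉ h.D ∧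
    u ≠ h.b1 b * (h.κ ta * h.κ qa * h.κ ta * h.κ qa)) → {y | y ∈ h.T b ∧ x * y = y * x}.ncard ≤ 64 := by
  obtain ⟨C, h1, hL, hT, hU, -⟩ := l.cod
  exact hL.all_count h1 hU hT (fun x => x * x = 1 ∧ x ∉ h.V b ∧ ∀ d ∈ h.B b, Rec.Let (d * x * d⁻¹) fun u =>
    u ∉ h.D ∧ u ≠ h.b1 b * (h.κ ta * h.κ qa * h.κ ta * h.κ qa)) (fun x y => x * y = y * x) 64 (by decide +kernel)

theorem w0 : Rec.Let (h.b1 b * (h.κ ta * h.κ qa * h.κ ta * h.κ qa)) fun w =>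
    Rec.Let ((h.b2 b)⁻¹ * h.κ qa * h.s) fun x => Rec.Let (h.b1 b * h.b1 b * h.κ qa * h.κ ta * h.κ qa * h.s) fun y =>
      x * w = w * x ∧ y * w = w * y ∧ x * y * x⁻¹ * y⁻¹ = w := by
  obtain ⟨C, h1, hL, -⟩ := l.cod
  exact hL.decide h1 (by decide +kernel)

theorem al : (h.b2 b)⁻¹ * (b * (b * b * (h.b1 b * h.b1 b) * (h.κ ta * h.κ qa * h.κ ta * h.κ qa)) * h.s) * h.b2 b =
    h.s * (h.κ ta * h.κ qa * h.κ ta * h.κ qa) := by
  obtain ⟨C, h1, hL, -⟩ := l.cod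
  exact hL.decide h1 (by decide +kernel)

theorem csT : {y | y ∈ h.T b ∧ y * h.s ≠ h.s * y}.ncard ≤ 896 := by
  obtain ⟨C, h1, hL, hT, -⟩ := l.cod
  exact hL.count_le h1 hT (fun y => y * h.s ≠ h.s * y) 896 (by decide +kernel)

theorem satS : Sat [[0, 0], [1, 1], [2, 2], [0, 1, 0, 1, 0, 1, 0, 1], [1, 2, 1, 2, 1, 2, 1, 2],
    [0, 1, 2, 0, 1, 2, 0, 2, 1, 0, 2, 1], [0, 1, 2, 1, 0, 2, 0, 1, 2, 1, 0, 2]] [h.κ ta, h.κ qa, h.dd b] := by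
  obtain ⟨C, h1, -⟩ := l.cod
  exact (h1.pick [0, 1, 6]).sat (by decide +kernel)

end Let

end K0

end Cfsg.Agent.SAc.HSx
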