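import Mathlib
import Cfsg.Agent.SAc.HS2
import Cfsg.Agent.SAc.Pm

/-! Higman-Sims end game of S3124: the second class of regular eight-groups. -/

set_option autoImplicit false

namespace Cfsg.Agent.SAc.HSx

open Subgroup Equiv

universe u

variable {G : Type u} [Group G]

/-- The transposition `(6 7)`. -/
def τ0 : Perm (Fin 8) := swap 6 7

/-- The central involution of the dihedral group. -/
def l0 : A8 := ta * qa * ta * qa

/-- The embedding relabelled by `(6 7)`. -/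
def K0.tw (h : K0 G) : K0 G where
  s := h.s
  κ := h.κ.comp (MulAut.conjNormal τ0 : MulAut A8).toMonoidHom
  inj := h.inj.comp (MulAut.conjNormal τ0 : MulAut A8).injective
  s2 := h.s2
  comm _ := h.comm _

theorem K0.tw_κ (h : K0 G) (p : A8) : h.tw.κ p = h.κ (MulAut.conjNormal τ0 p) := rfl

theorem cent_th {σ : Perm (Fin 8)} (h1 : σ * H3.th = H3.th * σ) (h2 : σ * H3.v1 = H3.v1 * σ) :
    ∃ (i : Fin 3) (j k : Fin 2), σ = H3.th ^ i.1 * H3.v1 ^ j.1 * τ0 ^ k.1 := by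
  have a1 : ∀ x, σ (H3.th x) = H3.th (σ x) := fun x => congrArg (· x) h1
  have a2 : ∀ x, σ (H3.v1 x) = H3.v1 (σ x) := fun x => congrArg (· x) h2
  have key : ∀ a b : Fin 8, H3.th a ≠ a → H3.th b = b → ∃ (i : Fin 3) (j k : Fin 2), ∀ x,
      ![a, H3.th a, H3.th (H3.th a), H3.v1 a, H3.v1 (H3.th a), H3.v1 (H3.th (H3.th a)), b, H3.v1 b] x =
        (H3.th ^ i.1 * H3.v1 ^ j.1 * τ0 ^ k.1) x := by decide +kernel
  obtain ⟨i, j, k, e⟩ := key (σ 0) (σ 6) (by rw [← a1]; exact fun e => absurd (σ.injective e) (by decide +kernel))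
    (by rw [← a1]; exact congrArg σ (by decide +kernel))
  refine ⟨i, j, k, Equiv.ext fun x => (Eq.symm ?_).trans (e x)⟩
  simp only [← a1, ← a2]
  fin_cases x <;> exact congrArg σ (by decide +kernel)

namespace K0.Let

variable {h : K0 G} {b : G} (l : h.Let b)
include l

theorem cv (j : Fin 8) : b * h.κ (tr j) = h.κ (tr j) * b := by
  have m : ∀ p ∈ (centralizer {b}).comap h.κ, b * h.κ p = h.κ p * b := fun p hp =>
    (mem_centralizer_singleton_iff.1 hp).symm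
  have m0 : v1 ∈ (centralizer {b}).comap h.κ :=
    mem_centralizer_singleton_iff.2 (by rw [← l.sq]; exact mul_assoc _ _ _)
  have m1 : ze * v1 * ze⁻¹ ∈ (centralizer {b}).comap h.κ :=
    mem_centralizer_singleton_iff.2 (by rw [← l.sq1]; exact (l.d1.mul_right l.d1).symm.eq)
  have m2 : ze ^ 2 * v1 * (ze ^ 2)⁻¹ ∈ (centralizer {b}).comap h.κ :=
    mem_centralizer_singleton_iff.2 (by rw [← l.sq2]; exact (l.d2.mul_right l.d2).symm.eq)
  obtain ⟨x, y, z, e⟩ : ∃ x y z : Fin 2,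
      tr j = v1 ^ x.1 * (ze * v1 * ze⁻¹) ^ y.1 * (ze ^ 2 * v1 * (ze ^ 2)⁻¹) ^ z.1 := by
    revert j; decide +kernel
  exact m _ (e ▸ mul_mem (mul_mem (pow_mem m0 _) (pow_mem m1 _)) (pow_mem m2 _))

theorem inv_eq : b⁻¹ = b * h.κ v1 := by
  rw [← l.sq, inv_eq_iff_mul_eq_one, ← l.p0]
  simp [pow_succ, mul_assoc]

end K0.Let

/-- The relabelled configuration. -/
def HS1.tw (h : HS1 G) (r : ∃ x, h.toK0.tw.Rr x 3) : HS1 G where
  toK0 := h.toK0.tw
  cen g h1 h2 := by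
    rw [K0.tw_κ, show MulAut.conjNormal τ0 v1 = v1 by decide +kernel] at h2
    obtain ⟨σ, e⟩ := h.cen g h1 h2
    refine ⟨τ0⁻¹ * σ * τ0, fun p => ?_⟩
    rw [K0.tw_κ, K0.tw_κ, e]
    congr 1
    ext1
    simp only [MulAut.conjNormal_apply]
    group
  ker g h1 h2 := h.ker g h1 fun p => by
    simpa [K0.tw_κ] using h2 ((MulAut.conjNormal τ0 : MulAut A8).symm p)
  rr := r
  n2 p hp := h.n2 _ (hp.conj τ0)

theorem HS1.alpha (h : HS1 G) (r : ∃ x, h.toK0.tw.Rr x 3) {b : G} (l : h.Let b) :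
    IsConj (b * h.s) (h.s * h.κ l0) := by
  obtain ⟨b', l'⟩ := (h.tw r).exists_let
  change h.toK0.tw.Let b' at l'
  have ev : h.toK0.tw.κ v1 = h.κ v1 := by rw [K0.tw_κ, show MulAut.conjNormal τ0 v1 = v1 by decide +kernel]
  have eθ : h.toK0.tw.κ th = h.κ th := by rw [K0.tw_κ, show MulAut.conjNormal τ0 th = th by decide +kernel]
  have sq' : b' * b' = h.κ v1 := ev ▸ l'.sq
  have z1 : Commute b (h.κ v1) := tr3 ▸ l.cv 3
  have z2 : Commute b' (h.κ v1) := ev ▸ tr3 ▸ l'.cv 3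
  have θ1 : Commute b (h.κ th) := l.θb.symm
  have θ2 : Commute b' (h.κ th) := eθ ▸ l'.θb.symm
  have vv : h.κ v1 * h.κ v1 = 1 := tr3 ▸ h.t_sq 3
  have sb' : h.s * b' * h.s⁻¹ = b'⁻¹ := l'.sb
  have cs : b' * b⁻¹ * h.s = h.s * (b' * b⁻¹) := by
    have e : h.s * (b' * b⁻¹) * h.s⁻¹ = b' * b⁻¹ := by
      rw [← conj_mul, sb', ← conj_inv, l.sb, inv_inv, l'.inv_eq, ev, l.inv_eq, mul_assoc, z1.eq]
    exact (mul_inv_eq_iff_eq_mul.1 e).symm
  obtain ⟨σ, e⟩ := h.cen _ cs (z2.mul_left z1.inv_left).eq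
  have cm : ∀ p : A8, Commute (b' * b⁻¹) (h.κ p) → σ * p = p * σ := fun p c =>
    mul_inv_eq_iff_eq_mul.1 (congrArg Subtype.val (h.inj ((e p).symm.trans (mul_inv_eq_iff_eq_mul.2 c.eq))))
  obtain ⟨i, j, k, rfl⟩ := cent_th (cm th (θ2.mul_left θ1.inv_left)) (cm v1 (z2.mul_left z1.inv_left))
  obtain rfl | rfl : k = 0 ∨ k = 1 := by omega
  swap
  · obtain ⟨m, e1⟩ : ∃ m, MulAut.conjNormal (H3.th ^ i.1 * H3.v1 ^ j.1 * τ0 ^ (1 : Fin 2).1) (tr 6) =
        MulAut.conjNormal τ0 (tr m) := by clear cm e; revert i j; decide +kernel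
    have e2 := e (tr 6)
    rw [e1, ← K0.tw_κ, mul_assoc b', (show Commute b (h.κ (tr 6)) from l.cv 6).inv_left.eq, mul_inv_rev, inv_inv,
      ← mul_assoc, ← mul_assoc, inv_mul_cancel_right, mul_inv_eq_iff_eq_mul, ← l'.cv, mul_right_inj, K0.tw_κ] at e2
    exact absurd (h.inj e2) (by clear e1 e2; revert m; decide +kernel)
  have e1 : ∀ p, b' * b⁻¹ * h.κ p * (b' * b⁻¹)⁻¹ = h.κ (th ^ i.1 * v1 ^ j.1) * h.κ p * (h.κ (th ^ i.1 * v1 ^ j.1))⁻¹ :=
    fun p => by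
      rw [e, ← map_inv, ← map_mul, ← map_mul]
      congr 1
  have cq : Commute b (h.κ (th ^ i.1 * v1 ^ j.1)) := by
    rw [map_mul, map_pow, map_pow]
    exact (θ1.pow_right _).mul_right (z1.pow_right _)
  have hq : ∀ {x}, x = th ^ i.1 * v1 ^ j.1 → (x * x = 1 → x = 1 ∨ x = v1) ∧ x * x ≠ v1 := by
    rintro _ rfl
    clear cq e1 cm e; revert i j; decide +kernel
  generalize th ^ i.1 * v1 ^ j.1 = q at e1 cq hq
  have hq := hq rfl
  have cb : Commute (h.toK0.tw.b1 b') b := by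
    rcases h.ker (b' * b⁻¹ * (h.κ q)⁻¹) (by rw [← map_inv, mul_assoc, h.comm, ← mul_assoc, cs]; group)
      (fun p => by
        have := e1 (q⁻¹ * p * q)
        rw [map_mul, map_mul, map_inv] at this
        generalize b' * b⁻¹ = g at this
        calc _ = g * ((h.κ q)⁻¹ * h.κ p * h.κ q) * g⁻¹ * (g * (h.κ q)⁻¹) := by group
          _ = _ := by rw [this]; group) with e2 | e2
    · rw [mul_inv_eq_one, mul_inv_eq_iff_eq_mul] at e2
      have e3 : q * q = 1 := h.inj (by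
        rw [e2, mul_assoc, ← mul_assoc b, cq.eq, mul_assoc, l.sq, ← mul_assoc, mul_eq_right] at sq'
        rw [map_mul, sq', map_one])
      rw [eq_comm, ← eq_inv_mul_iff_mul_eq] at e2
      rw [e2]
      refine Commute.mul_right (Commute.inv_right ?_) l'.d1.symm
      rcases hq.1 e3 with rfl | rfl
      · rw [map_one]; exact Commute.one_right _
      · rw [← sq']; exact l'.d1.symm.mul_right l'.d1.symm
    · rw [mul_inv_eq_iff_eq_mul, mul_inv_eq_iff_eq_mul] at e2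
      refine absurd (h.inj ?_) hq.2
      have := l.sb
      rw [h.s_inv] at this
      rw [← sq', e2, map_mul]
      calc _ = h.κ q * (h.s * b * h.s) * (b * h.κ q) := by rw [this]; group
        _ = h.κ q * h.s * b * (h.s * h.κ q * b) := by rw [cq.eq]; group
        _ = _ := by rw [← h.comm]
  have sc : h.s * h.toK0.tw.b1 b' * h.s⁻¹ = (h.toK0.tw.b1 b')⁻¹ := by
    have := l'.cS 0 1 0
    simp only [H3.ph, neg_zero, zpow_zero, zpow_one, one_mul, mul_one, zpow_neg] at this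
    exact this
  have c2 := l'.sq1
  rw [K0.tw_κ, show MulAut.conjNormal τ0 (ze * v1 * ze⁻¹) = v1 * (ze * v1 * ze⁻¹) * (ta * qa * ta * qa) by
    decide +kernel, map_mul, map_mul h.κ v1, ← l.sq1, ← l.sq, map_mul, map_mul, map_mul] at c2
  have al := l.al
  rw [← c2] at al
  refine (isConj_iff.2 ⟨h.toK0.tw.b1 b', ?_⟩).trans (isConj_iff.2 ⟨(h.b2 b)⁻¹, by
    rw [inv_inv, al, l0, map_mul, map_mul, map_mul]⟩)
  generalize h.toK0.tw.b1 b' = c at cb sc
  rw [← mul_assoc, cb.eq, ← sc]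
  have : h.s * c = c⁻¹ * h.s := mul_inv_eq_iff_eq_mul.1 sc
  calc _ = b * c * (h.s * h.s) * c * h.s⁻¹ := by group
    _ = _ := by rw [h.s2, h.s_inv]; group

end Cfsg.Agent.SAc.HSx
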