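import Mathlib
import Cfsg.Agent.SAc.HS3
import Cfsg.Agent.SAc.Typ
import Cfsg.Agent.Sym.Orbits

/-! Higman-Sims end game of S3124: the local facts for an embedded `A₈`. -/

set_option autoImplicit false
set_option linter.unusedSectionVars false

namespace Cfsg.Agent.SAc.HSx

open Cfsg Cfsg.Agent.GT Cfsg.Agent.Loc.Mss Cfsg.Agent.Sym Cfsg.Agent.SAn Subgroup Equiv
open Cfsg.Agent.StdB (C1 mem_C1)
open scoped commutatorElement

variable {α : Type} [Fintype α] [DecidableEq α] {G : Type*} [Group G] [Finite G]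
  {ι : alternatingGroup α →* G} {t g : G} {e : Fin 8 ↪ α} {k : K0 G}

theorem out_eq (h9 : Fintype.card α ≤ 9) {s : Finset α} (h8 : s.card = 8) {x y : α} (hx : x ∉ s) (hy : y ∉ s) :
    x = y := by
  by_contra n
  have := Finset.card_le_univ (insert x (insert y s))
  rw [Finset.card_insert_of_notMem (by simp [n, hx]), Finset.card_insert_of_notMem hy] at this
  omega

theorem tp_via {p : Perm (Fin 8)} {j : ℕ} : Tp (p.viaEmbedding e) j ↔ Tp p j := by
  rw [tp_iff_cycleType, tp_iff_cycleType, cycleType_viaEmbedding]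

theorem via_conj (σ p : Perm (Fin 8)) : (σ * p * σ⁻¹).viaEmbedding e =
    σ.viaEmbedding e * p.viaEmbedding e * (σ.viaEmbedding e)⁻¹ := by
  simp only [← Perm.viaEmbeddingHom_apply, map_mul, map_inv]

theorem restrict (h9 : Fintype.card α ≤ 9) {σ : Perm α}
    (h : σ * H3.v1.viaEmbedding e = H3.v1.viaEmbedding e * σ) : ∃ σ' : Perm (Fin 8), σ = σ'.viaEmbedding e := by
  have o : ∀ x, x ∉ Set.range e → σ x = x := fun x hx => by
    refine out_eq h9 (s := Finset.univ.map e) (by simp) ?_ (by simpa using hx)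
    rw [Finset.mem_map]
    rintro ⟨i, -, hi⟩
    have := congrArg (· x) h
    simp only [Perm.mul_apply] at this
    rw [Perm.viaEmbedding_apply_of_notMem _ _ _ hx, ← hi, Perm.viaEmbedding_apply] at this
    exact absurd (e.injective this) (by clear this hi; revert i; decide +kernel)
  have a : ∀ i, ∃ j, e j = σ (e i) := fun i => by
    by_contra n
    exact n ⟨i, (σ.injective (o _ n)).symm⟩
  choose f hf using a
  have fi : Function.Injective f := fun i j h => e.injective (σ.injective (by rw [← hf, ← hf, h]))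
  refine ⟨Equiv.ofBijective f (Finite.injective_iff_bijective.1 fi), Equiv.ext fun x => ?_⟩
  by_cases hx : x ∈ Set.range e
  · obtain ⟨i, rfl⟩ := hx
    rw [Perm.viaEmbedding_apply, ← hf]; rfl
  · rw [Perm.viaEmbedding_apply_of_notMem _ _ _ hx, o x hx]

/-- `k` is the copy of `A₈` on the points `e`. -/
structure On (ι : alternatingGroup α →* G) (t : G) (e : Fin 8 ↪ α) (k : K0 G) : Prop where
  s : k.s = t
  κ : ∀ p, k.κ p = ι (altEmb e p)

theorem On.ev (o : On ι t e k) (p : A8) : k.κ p = ev ι ((p : Perm (Fin 8)).viaEmbedding e) := by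
  rw [o.κ, ← ev_coe, coe_altEmb]

theorem via_mem (p : A8) : (p : Perm (Fin 8)).viaEmbedding e ∈ alternatingGroup α :=
  coe_altEmb e p ▸ (altEmb e p).2

theorem On.tw (o : On ι t e k) : On ι t (τ0.toEmbedding.trans e) k.tw := by
  refine ⟨o.s, fun p => ?_⟩
  rw [K0.tw_κ, o.κ]
  congr 1
  ext1
  rw [coe_altEmb, coe_altEmb]
  ext x
  by_cases hx : x ∈ Set.range e
  · obtain ⟨i, rfl⟩ := hx
    obtain ⟨i, rfl⟩ := τ0.surjective i
    rw [Perm.viaEmbedding_apply]
    refine Eq.trans ?_ (Perm.viaEmbedding_apply (p : Perm (Fin 8)) (τ0.toEmbedding.trans e) i).symm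
    simp
  · rw [Perm.viaEmbedding_apply_of_notMem _ _ _ hx, Perm.viaEmbedding_apply_of_notMem]
    rintro ⟨i, rfl⟩
    exact hx ⟨_, rfl⟩

variable (h : Cf ι t) (h9 : Fintype.card α ≤ 9) (o : On ι t e k)
include h o

theorem On.n0 (p : A8) : ¬ IsConj k.s (k.κ p) := fun c =>
  h.conj_not_mem (o.s ▸ c) ⟨_, (o.κ p).symm⟩

theorem On.n2 (h2 : ¬ Sg ι t 2) (p : A8) (hp : Tp (p : Perm (Fin 8)) 2) : ¬ IsConj k.s (k.s * k.κ p) := fun c => by
  rw [o.s, o.ev] at c
  refine h2 ⟨_, via_mem p, fun e1 => ?_, tp_via.2 hp, c⟩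
  exact absurd ((tp_via.2 hp).unique (tp_zero.2 e1)) (by decide)

theorem On.f4 (h4 : Sg ι t 4) (i : Fin 8) : IsConj t (t * k.κ (tr i)) := by
  by_cases hi : i = 0
  · rw [hi, k.t0, mul_one]
  · rw [o.ev]
    exact h4.all h.cw (tp_via.2 (by unfold Tp; revert i; decide +kernel))

include h9

theorem On.act (h1 : g * k.s = k.s * g) (h2 : g * k.κ v1 = k.κ v1 * g) :
    ∃ σ : Perm (Fin 8), Act ι g (σ.viaEmbedding e) ∧ ∀ p, g * k.κ p * g⁻¹ = k.κ (MulAut.conjNormal σ p) := by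
  obtain ⟨σ, a⟩ := h.reg g (o.s ▸ h1)
  rw [o.ev] at h2
  obtain ⟨σ, rfl⟩ := restrict h9 ((a.comm_iff h.inj (via_mem v1)).1 h2)
  exact ⟨σ, a, fun p => by rw [o.ev, o.ev, a _ (via_mem p), ← via_conj]; rfl⟩

theorem On.triv (h1 : g * k.s = k.s * g) (h2 : ∀ p, g * k.κ p = k.κ p * g) : Act ι g 1 := by
  obtain ⟨σ, a, b⟩ := o.act h h9 h1 (h2 _)
  have c : ∀ p : A8, σ * p = p * σ := fun p =>
    mul_inv_eq_iff_eq_mul.1 (congrArg Subtype.val (k.inj ((b p).symm.trans (mul_inv_eq_iff_eq_mul.2 (h2 p)))))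
  have e1 := HS1.cent_tr fun j => c (tr j)
  have e2 := c ze
  generalize σ 0 = m at e1
  subst e1
  obtain rfl : m = 0 := by clear a b c; revert m; decide +kernel
  rwa [H3.tr0, ← Perm.viaEmbeddingHom_apply, map_one] at a

theorem On.rr (h4 : Sg ι t 4) (h2 : ¬ Sg ι t 2) : ∃ x, (∀ z, Od ι t z → x * z = z * x) ∧ k.Rr x 3 := by
  have c3 := o.f4 h h4 3
  obtain ⟨g, hg⟩ := isConj_iff.1 c3
  have h' : Cf (cι ι g) (t * k.κ (tr 3)) := hg ▸ h.toC g
  have ct : ∀ p, k.κ p * t = t * k.κ p := fun p => o.s ▸ k.comm p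
  have mC : ∀ p : A8, p * tr 3 = tr 3 * p → k.κ p ∈ C1 (t * k.κ (tr 3)) := fun p c => mem_C1.2 (by
    rw [← mul_assoc, ct, mul_assoc, ← map_mul, c, map_mul, mul_assoc])
  have h1 : ∀ i, ∃ p : alternatingGroup α, g * ι p * g⁻¹ = k.κ (tr i) := fun i => by
    obtain ⟨j, l, e1⟩ : ∃ j l, tr i = ⁅th, tr j⁆ * ⁅qa, tr l⁆ := by revert i; decide +kernel
    have c : ∀ j, tr j * tr 3 = tr 3 * tr j := by decide +kernel
    refine h'.der (g := k.κ (tr i)) ?_ ⟨1, by rw [pow_one, pow_two, k.t_sq]⟩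
    rw [e1, map_mul, map_commutatorElement, map_commutatorElement]
    exact mul_mem (commutator_mem_commutator (mC _ (by decide +kernel)) (mC _ (c j)))
      (commutator_mem_commutator (mC _ (by decide +kernel)) (mC _ (c l)))
  choose φ e1 using h1
  have ig : ∀ {p q : alternatingGroup α}, g * ι p * g⁻¹ = g * ι q * g⁻¹ → p = q := fun e => h.inj (by simpa using e)
  have hm : ∀ i j, φ i * φ j = φ (tr i j) := fun i j => ig (by rw [map_mul, ← conj_mul, e1, e1, e1, k.t_mul])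
  have p0 : φ 0 = 1 := ig (by rw [e1, k.t0, map_one, mul_one, mul_inv_cancel])
  have h0 : ∀ i, φ i = 1 → i = 0 := fun i e => k.t_eq_one (by rw [← e1, e, map_one, mul_one, mul_inv_cancel])
  have hm' : ∀ i j x, (φ i : Perm α) ((φ j : Perm α) x) = (φ (tr i j) : Perm α) x := fun i j x => by
    rw [← hm]; rfl
  have t4 : ∀ i, i ≠ 0 → Tp (φ i : Perm α) 4 := fun i hi => by
    obtain ⟨m, hk⟩ := tp_exists (p := (φ i : Perm α)) (congrArg Subtype.val ((hm i i).trans (by rw [tr_self, p0])))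
    have n1 : (φ i : Perm α) ≠ 1 := fun e => hi (h0 i (Subtype.ext e))
    have c : IsConj t (t * SAn.ev ι (φ i)) := (o.f4 h h4 (tr 3 i)).trans (isConj_iff.2 ⟨g⁻¹, by
      rw [← k.t_mul, ← mul_assoc t, ← hg, ← e1, ev_coe]; group⟩)
    have s : Sg ι t m := ⟨_, (φ i).2, n1, hk, c⟩
    obtain ⟨⟨r, hr⟩, a, b⟩ := s.even
    have : m ≠ 2 := fun e => h2 (e ▸ s)
    exact (show m = 4 by omega) ▸ hk
  obtain ⟨x0, hx⟩ : ∃ x, (φ 1 : Perm α) x ≠ x := by
    by_contra n
    push Not at n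
    exact absurd (h0 1 (Subtype.ext (Equiv.ext n))) (by decide)
  have h8 : ∀ i, i ≠ 0 → (φ i : Perm α) x0 ≠ x0 := fun i hi e => hx (out_eq h9 (t4 i hi).2
    (by rw [Perm.notMem_support, hm', tr_comm, ← hm', e]) (Perm.notMem_support.2 e))
  have hi : Function.Injective fun i => (φ i : Perm α) x0 := fun i j e => tr_eq_zero i j (by_contra fun e' =>
    h8 _ e' (by rw [← hm', ← show (φ i : Perm α) x0 = (φ j : Perm α) x0 from e, hm', tr_self, p0]; rfl))
  let e' : Fin 8 ↪ α := ⟨_, hi⟩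
  have eφ : ∀ j, φ j = altEmb e' (tr j) := fun j => Subtype.ext (Equiv.ext fun x => by
    rw [coe_altEmb]
    by_cases hx : x ∈ Set.range e'
    · obtain ⟨i, rfl⟩ := hx
      rw [Perm.viaEmbedding_apply]
      exact hm' j i x0
    rw [Perm.viaEmbedding_apply_of_notMem _ _ _ hx]
    by_cases hj : j = 0
    · rw [hj, p0]; rfl
    have : Finset.univ.map e' = (φ j : Perm α).support := Finset.eq_of_subset_of_card_le (fun y hy => by
      obtain ⟨i, -, rfl⟩ := Finset.mem_map.1 hy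
      refine Perm.mem_support.2 fun e => ?_
      exact absurd (hi ((hm' j i x0).symm.trans e)) (by clear e hy hx; revert i j; decide +kernel))
      (by rw [(t4 j hj).2]; simp)
    exact Perm.notMem_support.1 (this ▸ by simpa using hx))
  obtain ⟨y, hy⟩ : ∃ y, y = g * ι (altEmb e' ze) * g⁻¹ := ⟨_, rfl⟩
  have y1 : ∀ j, y * k.κ (tr j) * y⁻¹ = k.κ ze * k.κ (tr j) * (k.κ ze)⁻¹ := fun j => by
    obtain ⟨j', e2⟩ : ∃ j', ze * tr j * ze⁻¹ = tr j' := by revert j; decide +kernel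
    rw [← map_inv, ← map_mul, ← map_mul, e2, ← e1, ← e1, eφ, eφ, ← e2, hy]
    simp only [map_mul, map_inv]
    group
  have y2 : y * (t * k.κ (tr 3)) * y⁻¹ = t * k.κ (tr 3) := by
    rw [← hg, hy, conj_inv, conj_mul, conj_mul, ← ev_coe, h.cw.comm_ev, mul_inv_cancel_right]
  have r1 : k.Rr ((k.κ ze)⁻¹ * y) 2 := ⟨fun j => by
    rw [mul_assoc, mul_inv_eq_iff_eq_mul.1 (y1 j)]; group, by
    have e2 : t = t * k.κ (tr 3) * k.κ (tr 3) := by rw [mul_assoc, k.t_sq, mul_one]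
    have e3 : (k.κ ze)⁻¹ * t = t * (k.κ ze)⁻¹ := by rw [← map_inv, ct]
    rw [o.s, show tr 2 = ze⁻¹ * tr 3 * ze * tr 3 by decide +kernel, map_mul, map_mul, map_mul, map_inv]
    calc _ = (k.κ ze)⁻¹ * (y * (t * k.κ (tr 3) * k.κ (tr 3)) * y⁻¹) * k.κ ze := by rw [← e2]; group
      _ = (k.κ ze)⁻¹ * t * k.κ (tr 3) * k.κ ze * k.κ (tr 3) := by rw [← conj_mul, y2, y1]; group
      _ = _ := by rw [e3]; group⟩
  have ck : ∀ p z, Od ι t z → Commute (k.κ p) z := fun p z hz => Der.od_comm hz ⟨_, (o.κ p).symm⟩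
  refine ⟨_, fun z hz => ?_, r1.conj (l := ze ^ 5) (by decide +kernel) (by decide +kernel)⟩
  rw [o.ev] at h' c3
  obtain ⟨τ, a⟩ := h'.reg t (by rw [mul_assoc, h.cw.comm_ev])
  have t3 : Tp ((tr 3 : Perm (Fin 8)).viaEmbedding e) 4 := tp_via.2 (by unfold Tp; decide +kernel)
  have oz := h.od_even (via_mem _) (fun e => absurd (t3.unique (tp_zero.2 e)) (by decide)) h' c3 a
    (h.typ4 t3 h' c3 a) (by omega) hz
  have cy : Commute y z := Der.od_comm oz ⟨_, hy.symm⟩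
  exact (((ck _ z hz).mul_left ((ck _ z hz).inv_left.mul_left cy)).mul_left (ck _ z hz).inv_left).eq

end Cfsg.Agent.SAc.HSx
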