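import Mathlib
import Cfsg.Agent.SAc.Typ
import Cfsg.Agent.H3.HSb
import Cfsg.Agent.SAc.HS6

/-! Type four without type two, degree at most nine: Higman-Sims. See `stubs/Cfsg/Agent/SAc/PLAN.md`. -/

set_option autoImplicit false
set_option linter.unusedSectionVars false

namespace Cfsg.Agent.SAc

open Cfsg Cfsg.Agent.GT Cfsg.Agent.Loc.Mss Cfsg.Agent.Sym Cfsg.Agent.Loc.SO Cfsg.Agent.SAn Subgroup Equiv
open Cfsg.Agent.StdB (C1 mem_C1)
open scoped commutatorElement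

variable {α β γ : Type} [Fintype α] [DecidableEq α] [Fintype β] [DecidableEq β] [Fintype γ]
  [DecidableEq γ] {G : Type*} [Group G] [Finite G] {ι κ l : alternatingGroup α →* G}
  {ψ : Perm β →* G} {X P M L : Subgroup G} {t s u g o : G} {p q σ τ π : Perm α} {k j : ℕ}

theorem Cf.hs (h : Cf ι t) (h9 : Fintype.card α ≤ 9) (h4 : Sg ι t 4) (h2 : ¬ Sg ι t 2) :
    (∀ P : Subgroup G, IsPGroup 2 P → Nat.card P ≤ 1024) ∧
      ∀ X : Subgroup G, X.Normal → IsSimpleGroup X → ι.range ≤ X →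
        Fintype.card α = 8 ∧ Cfsg.Spor.IsoHS X ∧ t ∉ X := HSx.main h h9 h4 h2

end Cfsg.Agent.SAc
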