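import Mathlib
import Cfsg.Agent.SAc.HS
import Cfsg.Agent.SAc.Bas
import Cfsg.Agent.StdB.Red
import Cfsg.Agent.Spor.LC.HSMcL

/-! The normal Higman-Sims subgroup, and a criterion for standard subgroups. See `stubs/Cfsg/Agent/SAc/HN.md`. -/

set_option autoImplicit false
set_option linter.unusedSectionVars false

namespace Cfsg.Agent.SAc

open Cfsg Cfsg.Agent.GT Cfsg.Agent.Loc.Mss Cfsg.Agent.Sym Cfsg.Agent.Loc.SO Cfsg.Agent.SAn Subgroup Equiv
open Cfsg.Agent.StdB (C1 mem_C1)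
open scoped commutatorElement

variable {α : Type} [Fintype α] [DecidableEq α] {G : Type*} [Group G] [Finite G]
  {ι : alternatingGroup α →* G} {L : Subgroup G} {t a b : G}

theorem hqc_qs (h : Cf ι t) : IsQuasisimple ι.range := by
  have h8 := h.eight
  have := alternatingGroup.isSimpleGroup (α := α) (by rw [Nat.card_eq_fintype_card]; omega)
  refine (isQuasisimple_congr (MonoidHom.ofInjective h.inj)).1 (IsQuasisimple.of_isSimpleGroup ?_)
  rw [alternatingGroup.isMulCommutative_iff_card_le_three, Nat.card_eq_fintype_card]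
  omega

theorem hqc_card (h : Cf ι t) : 2 * Nat.card ι.range = (Fintype.card α).factorial := by
  have h8 := h.eight
  have : Nontrivial α := Fintype.one_lt_card_iff_nontrivial.1 (by omega)
  rw [← Nat.card_congr (MonoidHom.ofInjective h.inj).toEquiv, two_mul_nat_card_alternatingGroup,
    Nat.card_eq_fintype_card, Fintype.card_perm]

theorem hqc_std (h : Cf ι t) : IsStandardSubgroup ι.range := by
  obtain ⟨a, b, c, d, h4⟩ := exists_D4 h.cw.four
  have k := k4_W h.inj h4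
  refine (StdB.std_of_two (hqc_qs h) h.iv.1 h.iv.2
    (fun x hx => mem_C1.2 (mem_cent.1 (act_one_iff.1 h.cen) x hx))
    (fun g hg => (h.reg g (mem_C1.1 hg)).elim fun σ hσ => hσ.norm) (fun P hP hle x hx => ?_)
    (StdB.pg_of_el (E := W ι a b c d) k.2) (W_le ι a b c d) (by rw [k.1]; norm_num)).1
  exact (StdB.mem_zpowers_two h.iv.1).2
    (h.ker x (mem_C1.1 (hle hx).1) (act_one_iff.2 (hle hx).2) (pg_iff.1 hP x hx))

theorem Cf.exists_hs (h : Cf ι t) (hO : oddCore G = ⊥) (h9 : Fintype.card α ≤ 9) (h4 : Sg ι t 4)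
    (h2 : ¬ Sg ι t 2) : ∃ M : Subgroup G, M.Normal ∧ Cfsg.Spor.IsoHS M ∧ ι.range ≤ M ∧ t ∉ M ∧
      ∀ q ∈ 𝐂[M], q = 1 := by
  obtain ⟨hP, hX⟩ := h.hs h9 h4 h2
  have hc := hqc_card h
  have hn : ¬ ι.range.Normal := fun hn => by
    obtain ⟨h8, ⟨e⟩, -⟩ := hX _ hn h.cw.simple le_rfl
    rw [h8, Nat.card_congr e.toEquiv, Cfsg.Agent.Spor.LC.card_SporHS] at hc
    exact absurd hc (by decide)
  rcases StdB.std_red hO (hqc_std h) hn (SAn.Bas.iv_ord h.iv) (act_one_iff.1 h.cen) with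
    ⟨-, ⟨e⟩⟩ | ⟨h1, hs, -, hy⟩
  · exfalso
    have h6 : 2 ^ 6 ∣ Nat.card ι.range := by
      have := Nat.factorial_dvd_factorial h.eight
      rw [← hc, show Nat.factorial 8 = 2 * (2 ^ 6 * 315) by decide] at this
      exact Dvd.dvd.trans (Dvd.intro _ rfl) (Nat.dvd_of_mul_dvd_mul_left (by norm_num) this)
    have h12 : 2 ^ 12 ∣ Nat.card (layer G) := by
      rw [Nat.card_congr e.toEquiv, Nat.card_prod, show 2 ^ 12 = 2 ^ 6 * 2 ^ 6 by norm_num]
      exact Nat.mul_dvd_mul h6 h6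
    obtain ⟨Q, hQ⟩ := Sylow.exists_subgroup_card_pow_prime 2 h12
    have := hP _ ((IsPGroup.of_card hQ).map (layer G).subtype)
    rw [card_map_of_injective (layer G).subtype_injective, hQ] at this
    exact absurd this (by norm_num)
  · have hl : (layer G).Normal := layer_normal
    obtain ⟨-, e, ht⟩ := hX _ hl hs h1
    refine ⟨layer G, hl, e, h1, ht, fun q hq => ?_⟩
    by_cases ho : Odd (Nat.card 𝐂[layer G])
    · have := le_oddCore ho hq
      rwa [hO, mem_bot] at this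
    · obtain ⟨⟨u, hu⟩, e⟩ := exists_prime_orderOf_dvd_card' 2
        (even_iff_two_dvd.1 (Nat.not_odd_iff_even.1 ho))
      rw [← orderOf_coe] at e
      obtain ⟨u2, u1⟩ := StdB.mul_self_of_orderOf e
      exact absurd (fun x hx => mem_C1.2 (mem_cent.1 hu x hx)) (hy u (cent_anti h1 hu) u2 u1)

theorem std_of_uniq (hL : IsQuasisimple L) (ht : Iv t) (hle : L ≤ C1 t) (hC : C1 t ≤ 𝐍[L])
    (h : ∀ w ∈ C1 t ⊓ 𝐂[L], w * w = 1 → w = 1 ∨ w = t) (ha : a ∈ L) (hb : b ∈ L) (ia : Iv a)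
    (ib : Iv b) (hab : a ≠ b) (hc : a * b = b * a) : IsStandardSubgroup L := by
  obtain ⟨h2, h1⟩ := ht
  have htK : t ∈ 𝐂[L] := mem_cent.2 fun a ha => mem_C1.1 (hle ha)
  obtain ⟨S, htS, hS⟩ := Syl.exists_ge (StdB.pg_zpowers h2) (zpowers_le.2 htK)
  replace htS : t ∈ S := htS (mem_zpowers t)
  have hu : ∀ w ∈ S, w * w = 1 → w ≠ 1 → w = t := by
    obtain ⟨z, -, hz, iz, hzc⟩ := SAn.Bas.cen_inv (D := S) hS.pg (fun e => h1 (by
      rw [inf_idem] at e; rwa [e, mem_bot] at htS)) le_normalizer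
    obtain rfl : z = t := (h z ⟨mem_C1.2 (hzc t htS), hS.le hz⟩ iz.1).resolve_left iz.2
    exact fun w hw w2 w1 => (h w ⟨mem_C1.2 (hzc w hw).symm, hS.le hw⟩ w2).resolve_left w1
  have cv : ∀ g u : G, u * u = 1 → g * u * g⁻¹ * (g * u * g⁻¹) = 1 := fun g u u2 => by
    rw [conj_mul, u2, mul_one, mul_inv_cancel]
  have key : ∀ u ∈ 𝐂[L], u * u = 1 → u ≠ 1 → ∃ k ∈ 𝐂[L], k * u * k⁻¹ = t := by
    intro u hu' u2 u1
    obtain ⟨k, hk, e⟩ := hS.conj_le (StdB.pg_zpowers u2) (zpowers_le.2 hu')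
    exact ⟨k, hk, hu _ (e (conj_mem_cj (mem_zpowers u))) (cv k u u2)
      fun e => u1 (conj_eq_one_iff.1 e)⟩
  have key2 : ∀ g : G, ∀ u ∈ 𝐂[L], u * u = 1 → u ≠ 1 → g * u * g⁻¹ ∈ 𝐂[L] → g ∈ 𝐍[L] := by
    intro g u hu u2 u1 hg
    obtain ⟨k, hk, e⟩ := key u hu u2 u1
    obtain ⟨k', hk', e'⟩ := key _ hg (cv g u u2) (fun e => u1 (conj_eq_one_iff.1 e))
    have : k' * g * k⁻¹ ∈ C1 t := by
      rw [mem_C1]
      calc k' * g * k⁻¹ * t = k' * g * k⁻¹ * (k * u * k⁻¹) := by rw [e]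
        _ = (k' * (g * u * g⁻¹) * k'⁻¹) * (k' * g * k⁻¹) := by group
        _ = _ := by rw [e']
    have h3 := mul_mem (mul_mem (inv_mem (cent_le_norm L hk')) (hC this)) (cent_le_norm L hk)
    rwa [show k'⁻¹ * (k' * g * k⁻¹) * k = g by group] at h3
  refine ⟨hL, ⟨?_, fun g hg => ?_⟩, fun g _ hb' => ?_, le_antisymm (norm_cent le_rfl) ?_⟩
  · exact even_iff_two_dvd.2 (StdB.orderOf_eq_two h2 h1 ▸ (𝐂[L]).orderOf_dvd_natCard htK)
  · by_contra ho
    obtain ⟨⟨u, hu⟩, e⟩ := exists_prime_orderOf_dvd_card' 2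
      (even_iff_two_dvd.1 (Nat.not_odd_iff_even.1 ho))
    rw [← orderOf_coe] at e
    obtain ⟨u2, u1⟩ := StdB.mul_self_of_orderOf e
    have := key2 g⁻¹ u hu.1 u2 u1 (by simpa using mem_cj.1 hu.2)
    exact hg (norm_cent le_rfl (inv_mem_iff.1 this))
  · have hQ : IsPGroup 2 ↥(zpowers a ⊔ zpowers b) :=
      IsPGroup.to_sup_of_normal_right' (StdB.pg_zpowers ia.1) (StdB.pg_zpowers ib.1)
        (zpowers_le.2 (cent_le_norm _ (mem_cent.2 fun y hy => by
          rcases (StdB.mem_zpowers_two ib.1).1 hy with rfl | rfl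
          · rw [one_mul, mul_one]
          · exact hc.symm)))
    have h3 : cj(g, zpowers a ⊔ zpowers b) ≤ 𝐂[L] :=
      (cj_mono g (sup_le (zpowers_le.2 ha) (zpowers_le.2 hb))).trans (comm_eq_bot_iff'.1 hb')
    obtain ⟨k, -, e⟩ := hS.conj_le (pg_cj hQ g) h3
    have k1 : ∀ x ∈ zpowers a ⊔ zpowers b, Iv x → k * (g * x * g⁻¹) * k⁻¹ = t := fun x hx ix =>
      hu _ (e (conj_mem_cj (conj_mem_cj hx))) (cv k _ (cv g x ix.1))
        fun e => ix.2 (conj_eq_one_iff.1 (conj_eq_one_iff.1 e))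
    have := (k1 a (mem_sup_left (mem_zpowers a)) ia).trans (k1 b (mem_sup_right (mem_zpowers b)) ib).symm
    exact hab (by simpa using this)
  · intro g hg
    exact key2 g t htK h2 h1 (conj_mem_of_norm hg htK)

end Cfsg.Agent.SAc
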