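import Mathlib
import Cfsg.Agent.SAc.HQa
import Cfsg.Agent.SAc.HQm

/-! The normal closure of the alternating group of degree eight. See `stubs/Cfsg/Agent/SAc/HN.md`. -/

set_option autoImplicit false
set_option linter.unusedSectionVars false

namespace Cfsg.Agent.SAc

open Cfsg Cfsg.Agent.GT Cfsg.Agent.Loc.Mss Cfsg.Agent.Sym Cfsg.Agent.Loc.SO Cfsg.Agent.SAn Subgroup Equiv
open Cfsg.Agent.StdB (C1 mem_C1)
open scoped commutatorElement

variable {G : Type*} [Group G] [Finite G] {Q : Type*} [Group Q] [Finite Q] {ψ : Perm (Fin 12) →* G}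
  {θ : NN (ph ψ) →* Q} {M : Subgroup Q} {X : Subgroup G} {g n : G}

theorem NN_le_C1 : NN (ph ψ) ≤ C1 (dd ψ) := fun _ hn => mem_C1.2 (ph_sq (ψ := ψ) ▸ NN_comm_sq ph_four hn)

theorem L8_le_C1 : L8 ψ ≤ C1 (ph ψ) := by
  rintro _ ⟨p, hp, rfl⟩
  exact mem_C1.2 (comm_ph (fx_iff.2 (mem_altOn.1 hp).2))

theorem L8_perf : ⁅L8 ψ, L8 ψ⁆ = L8 ψ := by
  have h1 : Group.IsPerfect (alternatingGroup (Fin S8.card)) :=
    ⟨commutator_alternatingGroup_eq_top (by rw [Nat.card_fin]; decide)⟩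
  have h2 : Group.IsPerfect (altOn S8) :=
    Group.IsPerfect.ofSurjective (f := (altOnEquiv S8).symm.toMonoidHom) (altOnEquiv S8).symm.surjective
  rw [← map_commutator, ← map_subtype_commutator, h2.commutator_eq_top, ← MonoidHom.range_eq_map, range_subtype]

theorem LL_le_C1 : LL ψ ≤ C1 (ph ψ) := by
  have e : C1 (ph ψ) = 𝐂[zpowers (ph ψ)] := by rw [zpowers_eq_closure, centralizer_closure]
  rw [e]
  exact ncl_le_cent (e ▸ L8_le_C1) le_rfl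

theorem LL_le_NN : LL ψ ≤ NN (ph ψ) := fun _ h => mem_NN_of_comm (mem_C1.1 (LL_le_C1 h))

theorem LL_perf : ⁅LL ψ, LL ψ⁆ = LL ψ := by
  refine le_antisymm (comm_le_left (norm_of_le le_rfl)) (ncl_le ?_ (norm_comm (le_norm_ncl _ _) (le_norm_ncl _ _)))
  exact L8_perf.ge.trans (commutator_mono (le_ncl _ _) (le_ncl _ _))

theorem LL_le [X.Normal] (h : L8 ψ ≤ X) : LL ψ ≤ X := ncl_le h (norm_normal _ _)

theorem HM.th_LL (m : HM ψ θ M) (hn : n ∈ LL ψ) : th θ n ∈ M := by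
  have := m.nM
  have : LL ψ ≤ (M.comap θ).map (NN (ph ψ)).subtype := ncl_le_iff.2 fun g hg => cj_le_iff.2 fun a ha => by
    have ha' := LL_le_NN (le_ncl _ _ ha)
    refine ⟨⟨_, mul_mem (mul_mem hg ha') (inv_mem hg)⟩, ?_, rfl⟩
    rw [SetLike.mem_coe, mem_comap, ← th_of_mem, th_conj hg ha']
    exact m.nM.conj_mem _ (m.alt a ha) _
  obtain ⟨x, hx, rfl⟩ := this hn
  exact (th_coe (θ := θ) x).symm ▸ hx

theorem HM.surj_LL (m : HM ψ θ M) (hi : Function.Injective ψ) {q : Q} (hq : q ∈ M) :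
    ∃ l ∈ LL ψ, th θ l = q := by
  let J : Subgroup Q := ((LL ψ).subgroupOf (NN (ph ψ))).map θ
  have hJ : ∀ q, q ∈ J ↔ ∃ l ∈ LL ψ, th θ l = q := fun q =>
    ⟨fun ⟨x, hx, e⟩ => ⟨x, hx, (th_coe x).trans e⟩,
      fun ⟨l, hl, e⟩ => ⟨⟨l, LL_le_NN hl⟩, hl, (th_of_mem _).symm.trans e⟩⟩
  have hN : (J.subgroupOf M).Normal := ⟨fun x hx y => by
    obtain ⟨l, hl, e⟩ := (hJ _).1 hx
    obtain ⟨n, hn, e'⟩ := m.qd.surj y
    exact (hJ _).2 ⟨_, conj_mem_of_norm (le_norm_ncl _ _ hn) hl, by rw [th_conj hn (LL_le_NN hl), e, e']; rfl⟩⟩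
  rcases (hs_simple m.hs).1.eq_bot_or_eq_top_of_normal _ hN with e | e
  · exfalso
    have h8 : ψ (dt 4 5 6 7) ∈ L8 ψ := mem_map_of_mem _ (mem_altOn.2 ⟨dt_mem (by decide) (by decide), by decide⟩)
    have hl := le_ncl (NN (ph ψ)) _ h8
    have h1 : th θ (ψ (dt 4 5 6 7)) = 1 :=
      congrArg Subtype.val (mem_bot.1 (e.le (x := ⟨_, m.alt _ h8⟩) ((hJ _).2 ⟨_, hl, rfl⟩)))
    obtain ⟨k, hk⟩ := m.qd.ker_two (LL_le_NN hl) h1
      ⟨1, by rw [pow_one, pow_two, ← map_mul, ← map_one ψ]; congr 1; decide⟩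
    have := hi ((map_zpow ψ _ k).trans hk)
    have h4 : (c4 0 1 2 3 ^ k : Perm (Fin 12)) 4 = 4 := Perm.zpow_apply_eq_self_of_apply_eq_self (by decide) k
    rw [this] at h4
    exact absurd h4 (by decide)
  · exact (hJ q).1 (subgroupOf_eq_top.1 e hq)

theorem HM.exists_sigma (m : HM ψ θ M) (hi : Function.Injective ψ) :
    ∃ σ : LL ψ →* Cfsg.Spor.HS, Function.Surjective σ ∧ ∀ l : LL ψ, σ l = 1 ↔ th θ (l : G) = 1 := by
  obtain ⟨e⟩ := m.hs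
  let f : LL ψ →* M := (θ.comp (inclusion LL_le_NN)).codRestrict M fun l => by
    have := m.th_LL l.2
    rwa [th_of_mem (LL_le_NN l.2)] at this
  have hf : ∀ l : LL ψ, (f l : Q) = th θ (l : G) := fun l => (th_of_mem (LL_le_NN l.2)).symm
  refine ⟨e.toMonoidHom.comp f, e.surjective.comp fun q => ?_, fun l => ?_⟩
  · obtain ⟨l, hl, k⟩ := m.surj_LL hi q.2
    exact ⟨⟨l, hl⟩, Subtype.ext ((hf _).trans k)⟩
  · rw [← hf]
    exact (map_eq_one_iff e e.injective).trans Subtype.ext_iff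

theorem Oc_inf_le (hn : n ∈ NN (ph ψ)) (ho : n ∈ Oc (C1 (dd ψ))) : n ∈ Oc (NN (ph ψ)) :=
  pPrimeCoreOf_inf_le NN_le_C1 (mem_inf.2 ⟨ho, hn⟩)

theorem Dec.Oc_le (hd : Dec ψ) : Oc (NN (ph ψ)) ≤ Oc (C1 (dd ψ)) := by
  have n1 := le_normalizer_pPrimeCoreOf (p := 2) (C1 (dd ψ))
  have n2 := le_normalizer_pPrimeCoreOf (p := 2) (NN (ph ψ))
  have l2 := (pPrimeCoreOf_le (p := 2) (NN (ph ψ))).trans NN_le_C1
  refine le_sup_left.trans (le_pPrimeCoreOf (N := Oc (NN (ph ψ)) ⊔ Oc (C1 (dd ψ)))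
    (sup_le l2 (pPrimeCoreOf_le _)) (fun g hg => ?_) ?_)
  · obtain ⟨o, ho, h⟩ := hd g hg
    have := mul_mem (inv_mem (norm_of_le le_sup_right ho)) (norm_sup n2 (NN_le_C1.trans n1) h)
    rwa [inv_mul_cancel_left] at this
  · exact Nat.Coprime.coprime_dvd_left (card_sup_dvd_of_le_normalizer (l2.trans n1))
      (Nat.Coprime.mul_left (coprime_card_pPrimeCoreOf 2 _) (coprime_card_pPrimeCoreOf 2 _))

end Cfsg.Agent.SAc
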