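import Mathlib
import Cfsg.Agent.SAc.HQf
import Cfsg.Agent.SAc.HsB
import Cfsg.Agent.SAc.CB

/-! The component of the centralizer of `d`. See `stubs/Cfsg/Agent/SAc/HN.md`. -/

set_option autoImplicit false
set_option linter.unusedSectionVars false

namespace Cfsg.Agent.SAc

open Cfsg Cfsg.Agent.GT Cfsg.Agent.Loc.Mss Cfsg.Agent.Sym Cfsg.Agent.Loc.SO Cfsg.Agent.SAn Subgroup Equiv
open Cfsg.Agent.StdB (C1 mem_C1)
open scoped commutatorElement

variable {G : Type*} [Group G] [Finite G] {Q : Type*} [Group Q] [Finite Q] {ψ : Perm (Fin 12) →* G}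
  {θ : NN (ph ψ) →* Q} {M : Subgroup Q} {X : Subgroup G} {g n : G}

namespace HQh

theorem qs_range {A B S : Type*} [Group A] [Group B] [Group S] (hS : IsQuasisimple S) [Group.IsPerfect A]
    {σ : A →* S} (hσ : Function.Surjective σ) (π : A →* B) (h1 : ∀ a, π a = 1 → σ a = 1)
    (h2 : ∀ a, σ a = 1 → ∀ b, π (b * a) = π (a * b)) : IsQuasisimple π.range := by
  have hs := π.rangeRestrict_surjective
  have : Group.IsPerfect π.range := Group.IsPerfect.ofSurjective hs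
  let τ : π.range →* S := π.rangeRestrict.liftOfSurjective hs
    ⟨σ, fun a ha => h1 a (congrArg Subtype.val ha)⟩
  have hτ : ∀ a, τ (π.rangeRestrict a) = σ a := fun a =>
    π.rangeRestrict.liftOfRightInverse_comp_apply _ _ _ a
  refine hS.of_ker_le_center (f := τ) (fun s => ?_) fun x hx => mem_center_iff.2 fun y => ?_
  · obtain ⟨a, rfl⟩ := hσ s
    exact ⟨_, hτ a⟩
  · obtain ⟨a, rfl⟩ := hs x
    obtain ⟨b, rfl⟩ := hs y
    rw [← map_mul, ← map_mul]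
    exact Subtype.ext (h2 a ((hτ a).symm.trans hx) b)

theorem qs_HS : IsQuasisimple Cfsg.Spor.HS ∧ center Cfsg.Spor.HS = ⊥ := by
  have : Finite Cfsg.Spor.HS :=
    Nat.finite_of_card_ne_zero (by rw [Cfsg.Agent.Spor.LC.card_SporHS]; decide)
  obtain ⟨h1, h2, -⟩ := hs_simple (Γ := Cfsg.Spor.HS) ⟨MulEquiv.refl _⟩
  have hq := IsQuasisimple.of_isSimpleGroup h2
  exact ⟨hq, (h1.eq_bot_or_eq_top_of_normal _ inferInstance).resolve_right hq.center_ne_top⟩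

theorem perf_LL : Group.IsPerfect (LL ψ) := Subgroup.isPerfect_iff.2 LL_perf

theorem pw_cen (k : ℕ) : ph ψ ^ k ∈ 𝐂[LL ψ] :=
  pow_mem (mem_cent.2 fun _ ha => mem_C1.1 (LL_le_C1 ha)) k

theorem dd_ne (h : Function.Injective ψ) : dd ψ ≠ 1 := fun e =>
  absurd (h (e.trans (map_one ψ).symm)) (by decide)

end HQh

open HQh

theorem GH.cen_LL (h : GH ψ X) (m : HM ψ θ M) (hd : Dec ψ) :
    LL ψ ≤ 𝐂[Oc (C1 (dd ψ))] ∧ C1 (dd ψ) ≤ 𝐍[LL ψ] := by
  have hL : LL ψ ≤ C1 (dd ψ) := LL_le_NN.trans NN_le_C1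
  refine cent_of_B (hasB_of_strong (h.fr 0 1 (by decide)).hB) h.core ⟨dd_sq, dd_ne h.hs.inj⟩ hL LL_perf
    rfl ?_ fun g hg => ?_
  · obtain ⟨σ, hσ, hk⟩ := m.exists_sigma h.hs.inj
    have := perf_LL (ψ := ψ)
    have key : ∀ a : C1 (dd ψ), a ∈ oddCore (C1 (dd ψ)) ↔ (a : G) ∈ Oc (C1 (dd ψ)) := fun a =>
      (mem_map_iff_mem (C1 (dd ψ)).subtype_injective).symm
    have := qs_range qs_HS.1 hσ ((QuotientGroup.mk' (oddCore (C1 (dd ψ)))).comp (inclusion hL))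
      (fun a ha => (hk a).2 ((m.qd.ker _ (LL_le_NN a.2)).2 (mem_sup_right (Oc_inf_le (LL_le_NN a.2)
        ((key _).1 ((QuotientGroup.eq_one_iff _).1 ha))))))
      fun a ha b => QuotientGroup.eq.2 ((key _).2 ?_)
    · rwa [MonoidHom.range_comp, inclusion_range] at this
    · obtain ⟨k, o, ho, e⟩ := m.qd.ker_dec (LL_le_NN a.2) ((hk a).1 ha)
      have ho' := hd.Oc_le ho
      have h1 : (b : G)⁻¹ * ph ψ ^ k * (b : G)⁻¹⁻¹ = ph ψ ^ k :=
        mul_inv_eq_iff_eq_mul.2 (mem_cent.1 (pw_cen k) _ (inv_mem b.2))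
      have h2 := mul_mem (inv_mem ho') (conj_mem_of_norm' (CB.norm_O _ (hL b.2)) ho')
      change ((b : G) * a)⁻¹ * (a * b) ∈ _
      convert h2 using 1
      rw [e]
      calc _ = o⁻¹ * (ph ψ ^ k)⁻¹ * ((b : G)⁻¹ * ph ψ ^ k * (b : G)⁻¹⁻¹) * ((b : G)⁻¹ * o * b) := by group
        _ = _ := by rw [h1]; group
  · obtain ⟨o, ho, e⟩ := hd g hg
    have k2 := norm_sup (le_norm_ncl (NN (ph ψ)) (L8 ψ)) (NN_le_C1.trans (CB.norm_O _)) e
    have k3 := le_normalizer (mem_sup_right (S := LL ψ) ho)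
    simpa using mul_mem (inv_mem k3) k2

theorem GH.ld (h : GH ψ X) (m : HM ψ θ M) (hd : Dec ψ) : LD ψ := by
  obtain ⟨h1, h2⟩ := h.cen_LL m hd
  have hO := cent_comm h1
  refine ⟨LL_perf, LL_le_C1, h2, h1, fun w hw w2 => ?_, ?_⟩
  · obtain ⟨o, ho, e⟩ := hd w hw.1
    have hc : o * w ∈ 𝐂[LL ψ] := mul_mem (hO ho) hw.2
    have h3 : th θ (o * w) = 1 := m.cen _ (mem_cent.2 fun q hq => by
      obtain ⟨l, hl, rfl⟩ := m.surj_LL h.hs.inj hq
      rw [← th_mul (LL_le_NN hl) e, ← th_mul e (LL_le_NN hl), mem_cent.1 hc l hl])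
    obtain ⟨k, o', ho', e'⟩ := m.qd.ker_dec e h3
    have nf : ph ψ ^ k ∈ 𝐍[Oc (C1 (dd ψ))] := CB.norm_O _ (NN_le_C1 (pow_mem ph_mem k))
    have h4 : w * (ph ψ ^ k)⁻¹ ∈ Oc (C1 (dd ψ)) := by
      have := mul_mem (inv_mem ho) (conj_mem_of_norm nf (hd.Oc_le ho'))
      rwa [← e', show o⁻¹ * (o * w * (ph ψ ^ k)⁻¹) = w * (ph ψ ^ k)⁻¹ by group] at this
    have h5 : ph ψ ^ k * ph ψ ^ k ∈ Oc (C1 (dd ψ)) := by
      have := inv_mem (mul_mem h4 (conj_mem_of_norm nf h4))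
      convert this using 1
      calc _ = (w * w * (ph ψ ^ k)⁻¹ * (ph ψ ^ k)⁻¹)⁻¹ := by rw [w2]; group
        _ = _ := by group
    rw [← (Commute.refl (ph ψ)).mul_pow, ph_sq] at h5
    have d2 : dd ψ ^ 2 = 1 := by rw [pow_two, dd_sq]
    have one : ∀ {a : G}, a ∈ Oc (C1 (dd ψ)) → a * a = 1 → a = 1 := StdB.eq_one_of_odd (CB.odd_O _)
    obtain ⟨j, rfl | rfl⟩ := Nat.even_or_odd' k
    · rw [pow_mul, pow_two, ph_sq] at h4
      obtain ⟨i, rfl | rfl⟩ := Nat.even_or_odd' j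
      · rw [pow_mul, d2, one_pow, inv_one, mul_one] at h4
        exact .inl (one h4 w2)
      · rw [pow_succ, pow_mul, d2, one_pow, one_mul] at h4
        refine .inr (mul_inv_eq_one.1 (one h4 ?_))
        have c : Commute w (dd ψ) := mem_C1.1 hw.1
        rw [← pow_two, c.inv_right.mul_pow, pow_two, w2, inv_pow, d2, inv_one, mul_one]
    · rw [pow_succ, pow_mul, d2, one_pow, one_mul] at h5
      exact absurd (one h5 dd_sq) (dd_ne h.hs.inj)
  · obtain ⟨σ, hσ, hk⟩ := m.exists_sigma h.hs.inj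
    have := perf_LL (ψ := ψ)
    have k1 : σ.ker ≤ center (LL ψ) := fun a ha => mem_center_iff.2 fun b => Subtype.ext (by
      obtain ⟨k, o, ho, e⟩ := m.qd.ker_dec (LL_le_NN a.2) ((hk a).1 ha)
      exact mem_cent.1 (e ▸ mul_mem (pw_cen k) (hO (hd.Oc_le ho)) : (a : G) ∈ 𝐂[LL ψ]) b b.2)
    refine ⟨σ, ⟨hσ, k1, by rw [Group.IsPerfect.commutator_eq_top]; exact le_top⟩,
      le_antisymm k1 fun a ha => ?_⟩
    rw [MonoidHom.mem_ker, ← mem_bot, ← qs_HS.2]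
    refine mem_center_iff.2 fun y => ?_
    obtain ⟨b, rfl⟩ := hσ y
    rw [← map_mul, mem_center_iff.1 ha b, map_mul]

end Cfsg.Agent.SAc
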