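import Mathlib
import Cfsg.Agent.SAc.HPi

/-! The data for the Harada-Norton group. -/

set_option autoImplicit false
set_option linter.unusedSectionVars false

namespace Cfsg.Agent.SAc

open Cfsg Cfsg.Agent.GT Cfsg.Agent.Loc.Mss Cfsg.Agent.Sym Cfsg.Agent.Loc.SO Cfsg.Agent.SAn Subgroup Equiv
open Cfsg.Agent.StdB (C1 mem_C1)
open scoped commutatorElement

variable {α β γ : Type} [Fintype α] [DecidableEq α] [Fintype β] [DecidableEq β] [Fintype γ]
  [DecidableEq γ] {G : Type*} [Group G] [Finite G] {ι κ l : alternatingGroup α →* G}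
  {ψ : Perm β →* G} {X P M L : Subgroup G} {t s u g o : G} {p q σ τ π : Perm α} {k j : ℕ}

namespace HC

theorem not_even (h : Hs ψ) {x y : β} (hxy : x ≠ y) {r : Perm β} (hc : IsConj (ψ (swap x y)) (ψ r)) :
    r ∉ alternatingGroup β := fun hr => by
  have r2 : r * r = 1 := h.inj (by
    obtain ⟨c, hc⟩ := isConj_iff.1 hc
    rw [map_mul, ← hc, conj_mul, ← map_mul, swap_mul_self, map_one, mul_one, mul_inv_cancel])
  obtain ⟨k, hk⟩ := tp_exists r2
  exact Nat.not_even_iff_odd.2 (h.odd ⟨r, x, y, hxy, hk, hc⟩) (hk.even_iff.1 hr)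

theorem fix_sub {x y : β} {r : Perm β} (hx : r x = x) (hy : r y = y) :
    ∃ r' : Perm (Rm x y), r = Perm.ofSubtype r' :=
  ⟨r.subtypePerm fun _ => and_congr (r.injective.ne_iff' hx) (r.injective.ne_iff' hy),
    (Perm.ofSubtype_subtypePerm _ fun _ hz => ⟨fun e => hz (e ▸ hx), fun e => hz (e ▸ hy)⟩).symm⟩

theorem comm_sub {x y : β} (hxy : x ≠ y) {r : Perm β} (h : r * swap x y = swap x y * r) :
    ∃ r' : Perm (Rm x y), r = Perm.ofSubtype r' ∨ r = swap x y * Perm.ofSubtype r' := by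
  have h1 : r y = swap x y (r x) := by simpa using congrArg (fun p : Perm β => p x) h
  by_cases a : r x = x
  · obtain ⟨r', e⟩ := fix_sub a (by rw [h1, a, swap_apply_left])
    exact ⟨r', .inl e⟩
  by_cases b : r x = y
  · obtain ⟨r', e⟩ := fix_sub (x := x) (y := y) (r := swap x y * r) (by rw [Perm.mul_apply, b, swap_apply_right])
      (by rw [Perm.mul_apply, h1, swap_apply_self, b])
    exact ⟨r', .inr (by rw [← e, swap_mul_self_mul])⟩
  · rw [swap_apply_of_ne_of_ne a b] at h1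
    exact (hxy (r.injective h1).symm).elim

/-- A neighbour of type one inside the symmetric group is a transposition. -/
theorem swap_of_sw (h : Hs ψ) (hc : Fintype.card β = Fintype.card α + 2) {x y : β} (hxy : x ≠ y) {r : Perm β}
    (hw : Sw α (ψ (swap x y)) (ψ r)) : r.IsSwap := by
  obtain ⟨κ, a, b, h1, h2⟩ := hw
  have h0 := h.cf hxy
  have hc' : Fintype.card α = Fintype.card (Rm x y) := by have := card_Rm hxy; omega
  have k : ∀ r' : Perm (Rm x y), Act (sub ψ fun z => z ≠ x ∧ z ≠ y) (ψ r) r' → Tp (Perm.ofSubtype r') 1 :=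
    fun r' e => Tp.ofSubtype.2 (h1.cw.tp h0.cw hc' h2.act e (tp_one.2 ⟨a, b, h2.ne, rfl⟩))
  obtain ⟨r', e | e⟩ := comm_sub hxy (h.inj (by rw [map_mul, map_mul, h2.comm]) : r * swap x y = swap x y * r)
  · exact tp_one.1 (e ▸ k r' (e ▸ h.act r'))
  · refine (not_even h hxy h2.cj ?_).elim
    have := k r' (by rw [e, map_mul, ← one_mul r']; simpa using h0.cen.mul (h.act r'))
    rw [e]
    exact Perm.mul_mem_alternatingGroup_of_isSwap ⟨x, y, hxy, rfl⟩ (tp_one.1 this)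

/-- Two involutions of type three agree on the fixed points of a four-cycle. -/
theorem fix_six {a b c d x : α} {f s s' : Perm α} (h10 : Fintype.card α = 10) (h4 : D4 a b c d)
    (hf : f.support.card = 4) (ff : Fx a b c d f) (hs : Tp s 3) (fs : Fx a b c d s) (hs' : Tp s' 3)
    (fs' : Fx a b c d s') (c1 : ∀ x, f x = x → f (s x) = s x) (c2 : ∀ x, f x = x → f (s' x) = s' x)
    (hx : f x = x) : s (s' x) = x := by
  have hD : ({a, b, c, d} : Finset α).card = 4 := P0.supp h4 ▸ (tp_two.2 ⟨a, b, c, d, h4, rfl⟩).2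
  have fx : ∀ {p : Perm α}, Fx a b c d p → ∀ y ∈ ({a, b, c, d} : Finset α), p y = y := fun hp y hy => by
    simp only [Finset.mem_insert, Finset.mem_singleton] at hy
    rcases hy with rfl | rfl | rfl | rfl
    exacts [hp.a, hp.b, hp.c, hp.d]
  by_cases hx' : x ∈ ({a, b, c, d} : Finset α)
  · rw [fx fs' x hx', fx fs x hx']
  have mv : ∀ {p : Perm α}, Tp p 3 → Fx a b c d p → p x ≠ x ∧ p x ∉ ({a, b, c, d} : Finset α) := fun {p} hp fp => by
    have e : p.support = {a, b, c, d}ᶜ := Finset.eq_of_subset_of_card_le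
      (fun y hy => Finset.mem_compl.2 fun hy' => Perm.mem_support.1 hy (fx fp y hy'))
      (by rw [Finset.card_compl, hD, hp.2, h10])
    have h1 : x ∈ p.support := e ▸ Finset.mem_compl.2 hx'
    exact ⟨Perm.mem_support.1 h1, Finset.mem_compl.1 (e ▸ Perm.apply_mem_support.2 h1)⟩
  have h2 : (f.supportᶜ \ {a, b, c, d}).card = 2 := by
    rw [Finset.card_sdiff_of_subset fun y hy => Finset.mem_compl.2 (Perm.notMem_support.2 (fx ff y hy)),
      Finset.card_compl, hD, hf, h10]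
  have m : ∀ y, f y = y → y ∉ ({a, b, c, d} : Finset α) → y ∈ f.supportᶜ \ {a, b, c, d} := fun y h1 h2 =>
    Finset.mem_sdiff.2 ⟨Finset.mem_compl.2 (Perm.notMem_support.2 h1), h2⟩
  obtain ⟨u, v, -, e⟩ := Finset.card_eq_two.1 h2
  have m0 := m x hx hx'
  have m1 := m _ (c1 x hx) (mv hs fs).2
  have m2 := m _ (c2 x hx) (mv hs' fs').2
  have n1 := (mv hs fs).1
  have n2 := (mv hs' fs').1
  simp only [e, Finset.mem_insert, Finset.mem_singleton] at m0 m1 m2
  have : s' x = s x := by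
    rcases m0 with e0 | e0 <;> rcases m1 with e1 | e1 <;> rcases m2 with e2 | e2 <;>
      first | exact e2.trans e1.symm | exact (n1 (e1.trans e0.symm)).elim | exact (n2 (e2.trans e0.symm)).elim
  rw [this, ← Perm.mul_apply, hs.1, Perm.one_apply]

theorem fix_conj {f s : Perm α} (h : s * f = f * s ∨ f * s * f = s) (x : α) (hx : f x = x) : f (s x) = s x := by
  rcases h with h | h
  · rw [← Perm.mul_apply, ← h, Perm.mul_apply, hx]
  · conv_rhs => rw [← h, Perm.mul_apply, hx, Perm.mul_apply]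

theorem d4 : D4 (0 : Fin 12) 1 2 3 := by constructor <;> decide

/-- The four-cycle. -/
abbrev cc : Perm (Fin 12) := c4 0 1 2 3

theorem disj {z r : Perm (Fin 12)} (hz : Fx 0 1 2 3 z) (hr : ∀ x : Fin 12, 4 ≤ x → r x = x) : r.Disjoint z :=
  fun x => by
    have : x = 0 ∨ x = 1 ∨ x = 2 ∨ x = 3 ∨ 4 ≤ x := by revert x; decide
    rcases this with rfl | rfl | rfl | rfl | h
    exacts [.inr hz.a, .inr hz.b, .inr hz.c, .inr hz.d, .inl (hr x h)]

theorem mem_zp {ψ : Perm (Fin 12) →* G} (h : g ∈ zpowers (ψ cc)) :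
    g = 1 ∨ g = ψ cc ∨ g = ψ (dt 0 1 2 3) ∨ g = ψ cc⁻¹ := by
  obtain ⟨k, rfl⟩ := mem_zpowers_iff.1 h
  have e : cc ^ 4 = 1 ∧ cc ^ 2 = dt 0 1 2 3 ∧ cc ^ 3 = cc⁻¹ := by decide +kernel
  rw [← map_zpow, zpow_eq_zpow_emod' k e.1]
  have : k % (4 : ℕ) = (0 : ℕ) ∨ k % (4 : ℕ) = (1 : ℕ) ∨ k % (4 : ℕ) = (2 : ℕ) ∨ k % (4 : ℕ) = (3 : ℕ) := by
    omega
  rcases this with h | h | h | h <;> rw [h, zpow_natCast]
  · exact .inl (by rw [pow_zero, map_one])
  · exact .inr (.inl (by rw [pow_one]))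
  · exact .inr (.inr (.inl (by rw [e.2.1])))
  · exact .inr (.inr (.inr (by rw [e.2.2])))

theorem tp3 : ∀ m m' : Fin 12, m ≠ m' → swap m m' * cc = cc * swap m m' →
    Tp (swap 0 1 * cc * swap m m') 3 ∧ Tp (swap 0 1 * cc⁻¹ * swap m m') 3 := by
  unfold Tp
  decide +kernel

end HC

open HC

/-- With type three there is an alternating group of degree six centralizing everything. -/
theorem Hs.six {ψ : Perm (Fin 12) →* G} (h : Hs ψ) (h3 : Ty ψ 3) :
    ∃ f : alternatingGroup (Fin 6) →* G, Function.Injective f ∧ ∀ b,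
      f b * ψ (swap 0 1 * z8) = ψ (swap 0 1 * z8) * f b ∧
      f b * ψ (swap 2 3 * z8) = ψ (swap 2 3 * z8) * f b ∧
      f b * ψ (c4 0 1 2 3) = ψ (c4 0 1 2 3) * f b := by
  have h10 : Fintype.card (Rm (0 : Fin 12) 1) = 10 := by
    have := card_Rm (x := (0 : Fin 12)) (y := 1) (by decide)
    rw [Fintype.card_fin] at this
    omega
  let e : Fin 6 ↪ Fin 12 := ⟨![4, 5, 6, 7, 8, 9], by decide⟩
  obtain ⟨κ, hκ⟩ := (h.cf d4.ab).emb (h3.all d4.ab (r := swap 4 5 * swap 6 7 * swap 8 9) (by unfold Tp; decide +kernel))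
  obtain ⟨-, a, b, c, d, h4, -, -, k⟩ := h.three h3 (by rw [h10, Fintype.card_fin]) e hκ
  obtain ⟨s1, a1, f1, t1, -⟩ := k (swap 0 1) (by decide)
  obtain ⟨s2, a2, f2, t2, -⟩ := k (swap 2 3) (by decide)
  obtain ⟨s6, a6, f6, t6, -⟩ := k (swap 10 11) (by decide)
  obtain ⟨f, af, ff, -, -, -, tf⟩ := k cc (by decide)
  have hf : f.support.card = 4 := by rw [← Perm.sum_cycleType, tf (c4_inv d4).2.2.2, Multiset.sum_singleton]
  have inv : ∀ {r : Perm (Fin 12)} {s}, Act κ (ψ r) s → cc * r * cc = r → ∀ x, f x = x → f (s x) = s x :=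
    fun hs e => fix_conj (.inr (hκ.cw.uniq ((af.mul hs).mul af) (by rwa [← map_mul, ← map_mul, e])))
  have c6 := fix_conj (.inl (a6.comm hκ.inj (le_trans (by norm_num) hκ.eight) af
    (by rw [← map_mul, ← map_mul]; exact congrArg ψ (by decide +kernel))))
  have t6' := t6 (tp_one.2 ⟨_, _, by decide, rfl⟩)
  have g1 := fun x => fix_six (x := x) h10 h4 hf ff (t1 (tp_one.2 ⟨_, _, by decide, rfl⟩)) f1 t6' f6
    (inv a1 (by decide +kernel)) c6
  have g2 := fun x => fix_six (x := x) h10 h4 hf ff (t2 (tp_one.2 ⟨_, _, by decide, rfl⟩)) f2 t6' f6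
    (inv a2 (by decide +kernel)) c6
  have h6 : Fintype.card (Fin 6) = Fintype.card (f.supportᶜ : Finset _) := by
    rw [Fintype.card_coe, Finset.card_compl, hf, h10, Fintype.card_fin]
  let F := (alternatingGroup.ofSubtype f.supportᶜ).comp (Fintype.equivOfCardEq h6).altCongrHom.toMonoidHom
  have key : ∀ b y s, Act κ y s → (∀ x, f x = x → s x = x) → κ (F b) * y = y * κ (F b) := fun b y s hs hx => by
    rw [← ev_coe, eq_comm, hs.comm_iff hκ.inj (F b).2]
    refine (Perm.Disjoint.commute fun x => ?_).eq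
    by_cases hx' : f x = x
    · exact .inl (hx x hx')
    · exact .inr (Perm.ofSubtype_apply_of_not_mem _ fun h => hx' (Perm.notMem_support.1 (Finset.mem_compl.1 h)))
  refine ⟨κ.comp F, hκ.inj.comp (alternatingGroup.ofSubtype_injective.comp (MulEquiv.injective _)), fun b =>
    ⟨key b _ (s1 * s6 * 1) ?_ fun x hx => g1 x hx, key b _ (s2 * s6 * 1) ?_ fun x hx => g2 x hx, key b _ f af fun _ h => h⟩⟩
  · have := (a1.mul a6).mul hκ.cen
    rwa [← map_mul, ← map_mul, show swap 0 1 * swap 10 11 * (swap 4 5 * swap 6 7 * swap 8 9) = swap 0 1 * z8 by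
      decide +kernel] at this
  · have := (a2.mul a6).mul hκ.cen
    rwa [← map_mul, ← map_mul, show swap 2 3 * swap 10 11 * (swap 4 5 * swap 6 7 * swap 8 9) = swap 2 3 * z8 by
      decide +kernel] at this

theorem HC.two {ψ : Perm (Fin 12) →* G} (h : Hs ψ) (hg : g ∈ 𝐍[zpowers (ψ cc)]) {z : Perm (Fin 12)}
    (hz : Fx 0 1 2 3 z) (h2 : Tp z 2) : (g * ψ (swap 0 1) * g⁻¹)⁻¹ * ψ (swap 0 1 * z) ∉ zpowers (ψ cc) := fun hm => by
  have cj1 : ∀ {r}, g * ψ (swap 0 1) * g⁻¹ = ψ r → IsConj (ψ (swap 0 1)) (ψ r) := fun e => isConj_iff.2 ⟨g, e⟩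
  have hd : g * ψ (dt 0 1 2 3) * g⁻¹ = ψ (dt 0 1 2 3) := by
    have e : cc * cc = dt 0 1 2 3 ∧ cc⁻¹ * cc⁻¹ = dt 0 1 2 3 ∧ dt (0 : Fin 12) 1 2 3 ≠ 1 := by decide +kernel
    have n : g * ψ cc * g⁻¹ * (g * ψ cc * g⁻¹) ≠ 1 := fun h1 => by
      rw [conj_mul, conj_eq_one_iff, ← map_mul, e.1, ← map_one ψ] at h1
      exact e.2.2 (h.inj h1)
    rw [← e.1, map_mul, ← conj_mul]
    rcases mem_zp (conj_mem_of_norm hg (mem_zpowers _)) with e1 | e1 | e1 | e1 <;> rw [e1] at n ⊢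
    · exact (n (mul_one 1)).elim
    · exact (n (by rw [← map_mul, d4.iv.1, map_one])).elim
    · rw [← map_mul, ← map_mul, e.1, e.2.1]
  have sw := (h.sw (α := Fin 10) (by simp) d4).conj g
  have e2 : g * ψ (swap 2 3) * g⁻¹ = g * ψ (swap 0 1) * g⁻¹ * ψ (dt 0 1 2 3) := by
    rw [← hd, conj_mul, ← map_mul, dt, swap_mul_self_mul]
  have z1 := disj hz (r := swap 0 1) (by decide)
  have z2 := disj hz (r := swap 2 3) (by decide)
  have zd := (disj hz (r := dt 0 1 2 3) (by decide)).commute.eq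
  have p1 : swap 0 1 * z * dt 0 1 2 3 = swap 2 3 * z := by rw [mul_assoc, ← zd, ← mul_assoc, dt, swap_mul_self_mul]
  have p2 : swap 2 3 * z * dt 0 1 2 3 = swap 0 1 * z := by rw [← p1, mul_assoc, d4.iv.1, mul_one]
  have ev : z ∈ alternatingGroup (Fin 12) := h2.even_iff.2 even_two
  have od : ∀ c' : Perm (Fin 12), Perm.sign c' = -1 → swap 0 1 * z * c' ∈ alternatingGroup (Fin 12) := fun c' e => by
    rw [Perm.mem_alternatingGroup, map_mul, map_mul, Perm.mem_alternatingGroup.1 ev, e, Perm.sign_swap d4.ab]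
    decide
  rcases mem_zp (inv_mem hm) with e | e | e | e <;> rw [mul_inv_rev, inv_inv, inv_mul_eq_iff_eq_mul] at e
  · rw [mul_one] at e
    rw [e2, e, ← map_mul, p1] at sw
    exact (h.two3 (by simp) d4 hz h2).elim (fun n => n sw) fun n =>
      n ⟨_, 0, 1, d4.ab, (tp_one.2 ⟨_, _, d4.ab, rfl⟩).mul_disjoint h2 z1, cj1 e⟩
  · exact not_even h d4.ab (cj1 (e.trans (map_mul ..).symm)) (od _ (by decide +kernel))
  · rw [← map_mul, p1] at e
    rw [e2, e, ← map_mul, p2] at sw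
    exact (h.two3 (by simp) d4 hz h2).elim (fun n => n sw.symm) fun n =>
      n ⟨_, 0, 1, d4.ab, (tp_one.2 ⟨_, _, d4.cd, rfl⟩).mul_disjoint h2 z2, cj1 e⟩
  · exact not_even h d4.ab (cj1 (e.trans (map_mul ..).symm)) (od _ (by decide +kernel))

theorem HC.no3 {ψ ψ' : Perm (Fin 12) →* G} (h : Hs ψ) (h' : Hs ψ') (h3 : Ty ψ 3) {π c : Perm (Fin 12)}
    (e1 : ψ' (swap 0 1) = ψ (swap 0 1 * z8)) (e2 : ψ' (swap 2 3) = ψ (swap 2 3 * z8)) (hπ : Tp π 4)
    (hc : ∀ x : Fin 12, 4 ≤ x → c x = x) (e3 : ψ' (c * π) = ψ cc) : False := by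
  obtain ⟨f, hf, k⟩ := h.six h3
  have le : ∀ b, f b ∈ ψ'.range := fun b => by
    obtain ⟨p, hp⟩ := (h'.cf d4.ab).alt_le (by simp) f (fun b => by rw [e1, (k b).1]) ⟨b, rfl⟩
    exact ⟨_, hp⟩
  let r := (MonoidHom.ofInjective h'.inj).symm.toMonoidHom.comp (f.codRestrict _ le)
  have hr : ∀ b, ψ' (r b) = f b := fun b => MonoidHom.apply_ofInjective_symm h'.inj _
  have ri : Function.Injective r := fun a b e => hf (by rw [← hr, e, hr])
  have cm : ∀ b p, f b * ψ' p = ψ' p * f b → r b * p = p * r b := fun b p e =>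
    h'.inj (by rw [map_mul, map_mul, hr, e])
  have fx : ∀ {x y : Fin 12}, x ≠ y → (∀ b, f b * ψ' (swap x y) = ψ' (swap x y) * f b) →
      ∀ b, r b x = x ∧ r b y = y := fun {x y} hxy e b => by
    rcases alt_cent (by simp) r ri (tp_one.2 ⟨x, y, hxy, rfl⟩) fun b => cm b _ (e b) with n | ⟨-, n⟩
    · simp at n
    · exact ⟨n b x (by rw [swap_apply_left]; exact hxy.symm), n b y (by rw [swap_apply_right]; exact hxy)⟩
  have f1 := fx d4.ab fun b => by rw [e1, (k b).1]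
  have f2 := fx d4.cd fun b => by rw [e2, (k b).2.1]
  rcases alt_cent (by simp) r ri hπ fun b => mul_left_cancel (a := c) (by
    rw [← mul_assoc, (disj ⟨(f1 b).1, (f1 b).2, (f2 b).1, (f2 b).2⟩ hc).commute.eq, mul_assoc,
      cm b _ (by rw [e3, (k b).2.2]), mul_assoc]) with n | ⟨n, -⟩ <;> simp at n

theorem HC.yes3 {ψ ψ' : Perm (Fin 12) →* G} (h' : Hs ψ') (h5 : Ty ψ 5)
    (hw : Sw (Fin 10) (ψ (swap 0 1 * z8)) (ψ (swap 2 3 * z8))) {c ζ η : Perm (Fin 12)}
    (e1 : ψ' (swap 0 1) = ψ (swap 0 1 * z8)) (e2 : ψ' (swap 2 3) = ψ (swap 2 3 * z8)) (e3 : ψ' ζ = ψ z8)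
    (e4 : ψ' η = ψ (swap 10 11)) (hc : c = cc ∨ c = cc⁻¹) (e5 : ψ' c = ψ (cc * z8)) : Ty ψ' 3 := by
  have e6 : ψ' (swap 0 1 * swap 2 3 * ζ * η) = ψ (dt 0 1 2 3 * (swap 4 5 * swap 6 7 * swap 8 9)) := by
    rw [map_mul, map_mul, map_mul, e1, e2, e3, e4, ← map_mul, ← map_mul, ← map_mul]
    exact congrArg ψ (by decide +kernel)
  have sw := hw.conj (ψ (dt 0 10 1 11))
  rw [← map_inv, ← map_mul, ← map_mul, ← map_mul, ← map_mul,
    show dt 0 10 1 11 * (swap 0 1 * z8) * (dt 0 10 1 11)⁻¹ = swap 0 1 * z8 by decide +kernel,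
    show dt 0 10 1 11 * (swap 2 3 * z8) * (dt 0 10 1 11)⁻¹ = dt 0 1 2 3 * (swap 4 5 * swap 6 7 * swap 8 9) by
      decide +kernel, ← e1, ← e6] at sw
  obtain ⟨m, m', hm, e⟩ := swap_of_sw h' (by simp) d4.ab sw
  rw [e] at e6
  have cm : Commute (swap m m') c := h'.inj (by
    rw [map_mul, map_mul, e5, e6, ← map_mul, ← map_mul]
    exact congrArg ψ (by decide +kernel))
  have e7 : IsConj (ψ' (swap 0 1)) (ψ' (swap 0 1 * c * swap m m')) := by
    rw [map_mul, map_mul, e1, e5, e6, ← map_mul, ← map_mul]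
    exact (h5.all d4.ab (by unfold Tp; decide +kernel)).symm.trans (h5.all d4.ab (by unfold Tp; decide +kernel))
  rcases hc with rfl | rfl
  · exact ⟨_, 0, 1, d4.ab, (tp3 m m' hm cm).1, e7⟩
  · exact ⟨_, 0, 1, d4.ab, (tp3 m m' hm (Commute.inv_right_iff.1 cm)).2, e7⟩

theorem Hs.hnc {ψ : Perm (Fin 12) →* G} (h : Hs ψ) (h5 : Ty ψ 5) : HNc ψ 0 1 2 3 := by
  refine ⟨Fintype.card_fin 12, d4, ?_, fun g hg z hz h2 => two h hg hz h2⟩
  have hw : Sw (Fin 10) (ψ (swap 0 1 * z8)) (ψ (swap 2 3 * z8)) := by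
    by_cases h3 : Ty ψ 3
    exacts [h.sw55a h3, h.sw55b h3 h5]
  obtain ⟨g, π, c, e1, e2, e4, fπ, hc, e3, rfl | ⟨hπ, e5⟩⟩ := h.pi h5 hw
  · refine ⟨g, ?_, z8, by constructor <;> decide, by unfold Tp; decide +kernel, by rw [e1, inv_mul_cancel]; exact one_mem _⟩
    rw [mul_one] at e3
    refine mem_norm_of_cj_le ?_
    rw [MonoidHom.map_zpowers, zpowers_le]
    show g * ψ cc * g⁻¹ ∈ _
    rcases hc with rfl | rfl
    · rw [← e3]; exact mem_zpowers _
    · rw [map_inv, ← conj_inv, eq_comm, inv_eq_iff_eq_inv] at e3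
      rw [e3]; exact inv_mem (mem_zpowers _)
  exfalso
  have h' := h.toC g
  have c4' : ∀ x : Fin 12, 4 ≤ x → c x = x := by rcases hc with rfl | rfl <;> decide +kernel
  by_cases h3 : Ty ψ 3
  · exact no3 h h' h3 e1 e2 hπ c4' e3.symm
  obtain ⟨η, e4⟩ := mem_cj.1 e4
  have e4' : g * ψ η * g⁻¹ = ψ (swap 10 11) := by rw [e4]; group
  refine h3 (Ty.of_toC (g := g) ?_)
  rcases e5 with e5 | e5
  · refine yes3 h' h5 hw e1 e2 e5.symm e4' hc ?_
    rw [map_mul ψ, e3, e5, conj_mul, ← map_mul, mul_assoc c, hπ.1, mul_one]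
    rfl
  · refine yes3 h' h5 hw e1 e2 e5.symm e4' (c := c * dt 0 1 2 3) ?_ ?_
    · rcases hc with rfl | rfl
      · exact .inr (by decide +kernel)
      · exact .inl (by decide +kernel)
    · rw [map_mul ψ, e3, e5, conj_mul, ← map_mul, (disj fπ (r := dt 0 1 2 3) (by decide)).commute.eq, mul_assoc c,
        ← mul_assoc π, hπ.1, one_mul]
      rfl

end Cfsg.Agent.SAc
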