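import Mathlib
import Cfsg.Agent.SAc.Der
import Cfsg.Agent.SAc.SetC
import Cfsg.Agent.SAc.WrU
import Cfsg.Agent.SAc.WrB
import Cfsg.Agent.WrA.Main

/-! The wreathed case does not occur. See `stubs/Cfsg/Agent/SAc/PLAN.md`. -/

set_option autoImplicit false
set_option linter.unusedSectionVars false

namespace Cfsg.Agent.SAc

open Cfsg Cfsg.Agent.GT Cfsg.Agent.Loc.Mss Cfsg.Agent.Sym Cfsg.Agent.Loc.SO Cfsg.Agent.SAn Subgroup Equiv
open Cfsg.Agent.StdB (C1 mem_C1)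
open scoped commutatorElement

variable {α β γ : Type} [Fintype α] [DecidableEq α] [Fintype β] [DecidableEq β] [Fintype γ]
  [DecidableEq γ] {G : Type*} [Group G] [Finite G] {ι κ l : alternatingGroup α →* G}
  {ψ : Perm β →* G} {X P M L : Subgroup G} {t s u g o : G} {p q σ τ π : Perm α} {k j : ℕ}

namespace Wr1

open WrU

variable {w : WrA.Wr G}

theorem L2_eq (e : w.L1 = l.range) : w.L2 = (cι l w.t).range := by rw [range_cι, ← e, w.sw]

theorem disj (h4 : 4 ≤ Fintype.card α) (hl : Function.Injective l) (e : w.L1 = l.range)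
    (h1 : g ∈ w.L1) (h2 : g ∈ w.L2) : g = 1 := by
  have h3 := cent_comm w.cm h2
  rw [e] at h1 h3
  obtain ⟨p, hp, rfl⟩ := mem_range_iff.1 h1
  rw [(act_ev hp).unique hl h4 (act_one_iff.2 h3), ev_one]

theorem exists_iv (h4 : 4 ≤ Fintype.card α) (hl : Function.Injective l) : ∃ x ∈ l.range, Iv x := by
  obtain ⟨a, b, c, d, h⟩ := exists_D4 h4
  exact ⟨_, ev_mem (dt a b c d), by rw [← ev_mul h.mem h.mem, h.iv.1, ev_one],
    fun e => h.iv.2 (ev_eq_one hl h.mem e)⟩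

theorem syl_ne {T D : Subgroup G} (hT : Syl 2 T D) (hg : g ∈ D) (hi : Iv g) : T ≠ ⊥ := fun e =>
  hi.2 (mem_bot.1 (eq_bot_of_coprime (SAn.Bas.pg_zpowers hi.1) (zpowers_le.2 hg) (hT.eq_bot_iff.1 e) ▸
    mem_zpowers g))

theorem odd_cent (h : Cw ι w.t) (hl : Dbl ι w.t l) (e : w.L1 = l.range) :
    ∀ c ∈ 𝐂[w.L1], c ∈ 𝐂[w.L2] → c * c = 1 → c = 1 := fun c h1 h2 h3 => by
  by_contra h4
  have hn : w.t ∈ 𝐍[𝐂[w.L1] ⊓ 𝐂[w.L2]] := by
    rw [← cj_eq_iff, cj_inf, cj_cent, cj_cent, w.sw, w.sw', inf_comm]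
  obtain ⟨S, s1, s2⟩ := Syl.exists_ge (SAn.Bas.pg_zpowers w.t2) (zpowers_le.2 hn)
  obtain ⟨z, hz, -, iz, hc⟩ := SAn.Bas.cen_inv s2.pg
    (syl_ne (s2.inf le_normalizer s2.le) ⟨h1, h2⟩ ⟨h3, h4⟩) s2.le
  have ha : Act ι z 1 := act_one_iff.2 (mem_cent.2 (by
    rintro _ ⟨p, rfl⟩
    have m1 : l p ∈ w.L1 := e ▸ ⟨p, rfl⟩
    rw [hl.diag, mul_assoc, mem_cent.1 hz.2 _ (w.sw ▸ conj_mem_cj m1), ← mul_assoc,
      mem_cent.1 hz.1 _ m1, mul_assoc]))
  rcases h.ker2 z (hc _ (s1 (mem_zpowers _))) ha iz.1 with e1 | e1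
  · exact iz.2 e1
  · obtain ⟨x, hx, ix⟩ := exists_iv h.four (hl.inj h.inj)
    rw [← e] at hx
    refine ix.2 (disj h.four (hl.inj h.inj) e hx ?_)
    rw [← w.sw, cj_of_cent (e1 ▸ hz.1)]
    exact hx

theorem noT (h : Cw ι w.t) (hl : Dbl ι w.t l) (e : w.L1 = l.range) (g : G) :
    g * w.t * g⁻¹ ∉ w.H0 := fun hs => by
  have h' := h.toC g
  have i1 := hl.inj h.inj
  have i2 := Bas.injC i1 w.t
  have h8 := h.eight
  have e2 := L2_eq e
  obtain ⟨σ, h1⟩ := exists_act i1 h.four (by omega) (e ▸ hs.1)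
  obtain ⟨τ, h2⟩ := exists_act i2 h.four (by omega) (e2 ▸ hs.2)
  obtain ⟨E1, a1, b1, c1, d1⟩ := flips (σ := σ) (by
    rw [← pow_two]; exact h1.pow_eq_one i1 h.four (by rw [pow_two, h'.iv.1]))
  obtain ⟨E2, a2, b2, c2, d2⟩ := flips (σ := τ) (by
    rw [← pow_two]; exact h2.pow_eq_one i2 h.four (by rw [pow_two, h'.iv.1]))
  have m1 : ∀ x, l x ∈ w.L1 := fun x => e ▸ ⟨x, rfl⟩
  have m2 : ∀ x, cι l w.t x ∈ w.L2 := fun x => e2 ▸ ⟨x, rfl⟩
  let F := (l.comp (inclusion a1)).noncommCoprod ((cι l w.t).comp (inclusion a2))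
    fun x y => w.comm (m1 _) (m2 _)
  have hF : ∀ x, F x = l (inclusion a1 x.1) * cι l w.t (inclusion a2 x.2) := fun _ => rfl
  have iF : Function.Injective F := (injective_iff_map_eq_one F).2 fun x hx => by
    rw [hF] at hx
    have h3 : l (inclusion a1 x.1) = 1 :=
      disj h.four i1 e (m1 _) (by rw [eq_inv_of_mul_eq_one_left hx]; exact inv_mem (m2 _))
    rw [h3, one_mul] at hx
    exact Prod.ext ((injective_iff_map_eq_one (l.comp (inclusion a1))).1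
      (i1.comp (inclusion_injective a1)) _ h3)
      ((injective_iff_map_eq_one ((cι l w.t).comp (inclusion a2))).1
      (i2.comp (inclusion_injective a2)) _ hx)
  have h3 := h'.el_card (P := F.range) (by
    rintro _ ⟨x, rfl⟩
    have c3 := (h1.comm_iff i1 (a1 x.1.2)).2 (c1 _ x.1.2)
    have c4 := (h2.comm_iff i2 (a2 x.2.2)).2 (c2 _ x.2.2)
    rw [ev_of_mem (a1 x.1.2)] at c3
    rw [ev_of_mem (a2 x.2.2)] at c4
    exact mem_C1.2 (Commute.mul_left (show Commute _ _ from c3.symm) c4.symm)) (by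
    rintro _ ⟨x, rfl⟩
    rw [← map_mul, show x * x = 1 from
      Prod.ext (Subtype.ext (b1 _ x.1.2)) (Subtype.ext (b2 _ x.2.2)), map_one])
  rw [← Nat.card_congr (MonoidHom.ofInjective iF).toEquiv, Nat.card_prod] at h3
  exact arith h8 d1 d2 h3

/-- A copy of the alternating group commuting with its conjugate under `t` is a doubling. -/
theorem exists_dbl (h : Cw ι t) (hκ : Function.Injective κ)
    (hc : ∀ p q, κ p * (t * κ q * t⁻¹) = t * κ q * t⁻¹ * κ p) :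
    ∃ κ' : alternatingGroup α →* G, Dbl ι t κ' ∧ κ'.range = κ.range := by
  let δ : alternatingGroup α →* G :=
    { toFun := fun p => κ p * (t * κ p * t⁻¹)
      map_one' := by rw [map_one]; group
      map_mul' := fun p q => by
        rw [map_mul, mul_assoc (κ p) (t * κ p * t⁻¹), ← mul_assoc (t * κ p * t⁻¹), ← hc]; group }
  have hd : Dbl δ t κ := ⟨hc, fun _ => rfl⟩
  have iδ : Function.Injective δ := (injective_iff_map_eq_one δ).2 fun p hp => by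
    have h1 := hd.act p.2
    rw [ev_coe, hp] at h1
    exact Subtype.ext (h1.unique hκ h.four Act.one)
  have h1 : δ.range ≤ ι.range := h.le_range h.five δ iδ fun p => by
    have h2 := hd.sand h.iv.1 p.2
    have h3 := hd.diag_ev p.2
    simp only [ev_coe] at h2 h3
    rw [← h2, h3, mul_assoc, inv_mul_cancel_right, mul_assoc]
  have h2 : δ.range = ι.range := eq_of_le_of_card_ge h1 (by
    rw [← Nat.card_congr (MonoidHom.ofInjective iδ).toEquiv,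
      ← Nat.card_congr (MonoidHom.ofInjective h.inj).toEquiv])
  let θ := ((MonoidHom.ofInjective h.inj).trans (MulEquiv.subgroupCongr h2.symm)).trans
    (MonoidHom.ofInjective iδ).symm
  refine ⟨κ.comp θ.toMonoidHom, ⟨fun p q => hc _ _, fun p => ?_⟩, ?_⟩
  · exact (MonoidHom.apply_ofInjective_symm iδ
      (MulEquiv.subgroupCongr h2.symm (MonoidHom.ofInjective h.inj p))).symm
  · rw [MonoidHom.range_comp, MonoidHom.range_eq_top.2 θ.surjective, ← MonoidHom.range_eq_map]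

theorem uf (h : Cw ι w.t) (hl : Dbl ι w.t l) (e : w.L1 = l.range) (g : G)
    (hs : g * w.t * g⁻¹ ∈ w.H) : g ∈ w.H := by
  have hn := noT h hl e g
  have m1 : ∀ x, l x ∈ w.L1 := fun x => e ▸ ⟨x, rfl⟩
  obtain ⟨κ, h1, h2⟩ := exists_dbl h (Bas.injC (hl.inj h.inj) g⁻¹) fun p q => by
    have h1 := SAn.Bas.conj_comm (w.comm (m1 p) (WrA.Wr.swap1 hs hn (m1 q))) g⁻¹
    change g⁻¹ * l p * g⁻¹⁻¹ * (w.t * (g⁻¹ * l q * g⁻¹⁻¹) * w.t⁻¹) =
      w.t * (g⁻¹ * l q * g⁻¹⁻¹) * w.t⁻¹ * (g⁻¹ * l p * g⁻¹⁻¹)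
    convert h1 using 2 <;> group
  rw [range_cι, ← e] at h2
  have h3 : cj(g⁻¹, w.L2) = cj(w.t, cj(g⁻¹, w.L1)) := by
    rw [← WrA.Wr.cj_L1 hs hn, cj_cj, cj_cj]
    congr 3; group
  refine inv_mem_iff.1 ?_
  rcases hl.uniq h h1 with rfl | rfl
  · rw [← e] at h2
    rw [← h2, w.sw] at h3
    exact w.H0_le ⟨cj_eq_iff.1 h2.symm, cj_eq_iff.1 h3⟩
  · rw [← L2_eq e] at h2
    rw [← h2, w.sw'] at h3
    exact WrA.Wr.mem_H_of_swap h2.symm h3

theorem four (h8 : 8 ≤ Fintype.card α) (hl : Function.Injective l) (e : w.L1 = l.range)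
    (hs : Syl 2 w.S w.H) : ∃ E, E ≤ w.U1 ∧ w.S0 ≤ 𝐍[E] ∧ (∀ x ∈ E, x * x = 1) ∧ 2 < Nat.card E := by
  have s0 : Syl 2 w.S0 w.H0 := hs.inf w.H0_le (hs.le.trans w.H_norm)
  have hn : w.S0 ≤ 𝐍[w.L1] := fun x hx => hx.2.1
  obtain ⟨x, hx, ix⟩ := exists_iv (by omega) hl
  obtain ⟨z, hz, -, iz, hc⟩ := SAn.Bas.cen_inv s0.pg (syl_ne (s0.inf w.L1_le hn) (e ▸ hx) ix) hn
  rw [e] at hz
  obtain ⟨p, hp, rfl⟩ := mem_range_iff.1 hz
  obtain ⟨E, a, b, c, d⟩ := four0 hp ⟨ev_eq_one hl (mul_mem hp hp) (by rw [ev_mul hp hp, iz.1]),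
    fun e => iz.2 (by rw [e, ev_one])⟩
  have h1 : (l.comp (inclusion a)).range ≤ w.L1 := by
    rintro _ ⟨y, rfl⟩; exact e ▸ ⟨_, rfl⟩
  have h2 : w.S0 ≤ 𝐍[(l.comp (inclusion a)).range] := norm_of_forall_cj_le fun g hg => cj_le_iff.2 (by
    rintro _ ⟨y, rfl⟩
    obtain ⟨σ, hσ⟩ := exists_act hl (by omega) (by omega) (e ▸ hn hg)
    have h3 := d σ ((hσ.comm_iff hl hp).1 (hc g hg).symm) y y.2
    have h4 := hσ y (a y.2)
    rw [ev_of_mem (a y.2), ev_of_mem (a h3)] at h4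
    exact ⟨⟨_, h3⟩, h4.symm⟩)
  have h3 : ∀ x ∈ (l.comp (inclusion a)).range, x * x = 1 := by
    rintro _ ⟨y, rfl⟩
    rw [← map_mul, show y * y = 1 from Subtype.ext (b _ y.2), map_one]
  refine ⟨_, le_inf ((s0.le_of_norm (pg_el h3) (h1.trans w.L1_le) h2).trans inf_le_left) h1, h2, h3, ?_⟩
  rwa [← Nat.card_congr (MonoidHom.ofInjective (f := l.comp (inclusion a))
    (hl.comp (inclusion_injective a))).toEquiv]

end Wr1

theorem Gl.no_dbl (h : Gl ι t X) (hl : Dbl ι t l) : False := by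
  have hc := h.cf.cw
  have cm : l.range ≤ 𝐂[cj(t, l.range)] := by
    rintro _ ⟨p, rfl⟩
    refine mem_cent.2 ?_
    rintro _ ⟨_, ⟨q, rfl⟩, rfl⟩
    exact (hl.comm p q).symm
  let w0 : WrA.Wr G := ⟨l.range, cj(t, l.range), ⊤, t, hc.iv.1, rfl, cm, mem_top _⟩
  obtain ⟨S, s1, s2⟩ := Syl.exists_ge (SAn.Bas.pg_zpowers hc.iv.1) (zpowers_le.2 w0.t_mem)
  let w : WrA.Wr G := ⟨l.range, cj(t, l.range), S, t, hc.iv.1, rfl, cm, s1 (mem_zpowers _)⟩
  have hi := hl.inj hc.inj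
  have h1 := Wr1.uf (w := w) hc hl rfl
  have h2 := Wr1.noT (w := w) hc hl rfl
  have ok : w.Ok := ⟨s2, fun a _ => Wr1.disj hc.four hi rfl, h1, h2, Wr1.four hc.eight hi rfl s2,
    wr_blk hc.eight hi rfl s2 h1 h2 (Wr1.odd_cent (w := w) hc hl rfl)⟩
  have := h.fr.nX
  have := h.fr.sX
  refine ok.false h.fr.top (WrB.le_of_sq fun x _ => ?_)
  rcases h.fr.top x with h3 | h3
  · exact mul_mem h3 h3
  · have h4 := mul_mem h3 (h.fr.nX.conj_mem _ h3 t)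
    rwa [show x * t * (t * (x * t) * t⁻¹) = x * (t * t) * x by group, hc.iv.1, mul_one] at h4

end Cfsg.Agent.SAc
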