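import Mathlib
import Cfsg.Agent.SAc.A1
import Cfsg.Agent.SAc.Wr
import Cfsg.Agent.SAc.B10
import Cfsg.Agent.SAc.HS
import Cfsg.Agent.SAc.HN
import Cfsg.Agent.SAc.HNc
import Cfsg.Agent.SAc.CC
import Cfsg.Agent.SAc.Glue
import Cfsg.Agent.SAc.Chi
import Cfsg.Agent.SAc.Small
import Cfsg.Agent.SAc.Odd3
import Cfsg.Agent.SAc.SetB
import Cfsg.Agent.SAc.H3A

/-! The main theorem for S3124. -/

set_option autoImplicit false
set_option linter.unusedSectionVars false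

namespace Cfsg.Agent.SAc

open Cfsg Cfsg.Agent.GT Cfsg.Agent.Loc.Mss Cfsg.Agent.Sym Cfsg.Agent.Loc.SO Cfsg.Agent.SAn Subgroup Equiv
open Cfsg.Agent.StdB (C1 mem_C1)

variable {α β : Type} [Fintype α] [DecidableEq α] [Fintype β] [DecidableEq β] {G : Type*} [Group G] [Finite G]
  {ι : alternatingGroup α →* G} {ψ : Perm β →* G} {X : Subgroup G} {t : G}

/-- The conclusion. -/
def Con (n : ℕ) (X : Type*) [Group X] : Prop :=
  Nonempty (X ≃* alternatingGroup (Fin (n + 2))) ∨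
    (n = 8 ∧ ((∃ (F : Type) (_ : Field F) (_ : Fintype F), Fintype.card F = 4 ∧
      Nonempty (X ≃* Matrix.ProjectiveSpecialLinearGroup (Fin 4) F)) ∨ Cfsg.Spor.IsoHS X)) ∨
    (n = 10 ∧ Cfsg.Spor.IsoHN X)

theorem Con.congr {n : ℕ} {X Y : Type*} [Group X] [Group Y] (h : Con n X) (e : X ≃* Y) : Con n Y := by
  rcases h with ⟨⟨f⟩⟩ | ⟨h, ⟨F, i1, i2, h4, ⟨f⟩⟩ | ⟨⟨f⟩⟩⟩ | ⟨h, ⟨f⟩⟩
  · exact .inl ⟨e.symm.trans f⟩
  · exact .inr (.inl ⟨h, .inl ⟨F, i1, i2, h4, ⟨e.symm.trans f⟩⟩⟩)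
  · exact .inr (.inl ⟨h, .inr ⟨e.symm.trans f⟩⟩)
  · exact .inr (.inr ⟨h, ⟨e.symm.trans f⟩⟩)

theorem GH.hn' (h : GH ψ X) (hc : Fintype.card β = 12) (h5 : Ty ψ 5) : Cfsg.Spor.IsoHN X :=
  let e : Fin 12 ≃ β := (Fintype.equivFinOfCardEq hc).symm
  (h.congr e).hn ((h.hs.congr e).hnc (h5.congr e))

theorem Gl.main (h : Gl ι t X) : Con (Fintype.card α) X := by
  have gl : G2 ι t → ∃ (β : Type) (_ : Fintype β) (_ : DecidableEq β) (ψ : Perm β →* G),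
      Fintype.card β = Fintype.card α + 2 ∧ GH ψ X ∧
        ∀ k, k ≠ 0 → Even k → (Ty ψ (k + 1) ↔ Sg ι t k) := fun h2 => by
    obtain ⟨β, _, _, ψ, x, y, hc, hxy, hs, rfl⟩ := h.cf.glue h2
    exact ⟨β, _, _, ψ, hc, h.gh hxy hs hc, fun k h0 he => hs.ty_iff hxy h.cf hc h0 he⟩
  by_cases hn : ∀ k, ¬ Sg ι t k
  · obtain ⟨u, h1, h2, h3⟩ := h.nb
    obtain ⟨β, _, _, ψ, hc, hG, hT⟩ := gl (h.cf.g2_of_ev0 (h.cf.ev0 hn) h1 h2 h3)
    have := hG.caseC fun k hk => by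
      obtain ⟨m, rfl⟩ := hG.hs.odd hk
      by_contra h0
      exact hn _ ((hT (2 * m) (by omega) (even_two_mul m)).1 hk)
    rw [hc] at this
    exact .inl this
  push Not at hn
  obtain ⟨k, hk⟩ := hn
  by_cases h2 : Sg ι t 2
  · rcases h.cf.a12 h2 with h1 | h1
    · rcases h.a1 h1 with ⟨l, hl⟩ | ⟨h8, h4⟩
      · exact (h.no_dbl hl).elim
      · exact .inr (.inl ⟨h8, .inl h4⟩)
    · obtain ⟨β, _, _, ψ, hc, hG, hT⟩ := gl (h.cf.g2_of_a2 h1)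
      obtain ⟨h12, h5⟩ := hG.hs.card3 ((hT 2 two_ne_zero even_two).2 h2)
      exact .inr (.inr ⟨by omega, hG.hn' h12 h5⟩)
  have h4 := (h.cf.small hk).resolve_left h2
  by_cases h9 : Fintype.card α ≤ 9
  · obtain ⟨h8, h5, -⟩ := (h.cf.hs h9 h4 h2).2 X h.fr.nX h.fr.sX h.AX
    exact .inr (.inl ⟨h8, .inr h5⟩)
  obtain ⟨h10, u, x, y, h1⟩ := h.cf.b10 (by omega) h4 h2
  obtain ⟨β, _, _, ψ, hc, hG, hT⟩ := gl (h.cf.g2_of_t1 (by omega) h2 h1)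
  exact .inr (.inr ⟨h10, hG.hn' (by omega) ((hT 4 (by norm_num) (by decide)).2 h4)⟩)

theorem main (h8 : 8 ≤ Fintype.card α) (hι : Function.Injective ι) (hO : oddCore G = ⊥)
    (hB : HasStrongBProperty G) (hA : IsStandardSubgroup ι.range) (hn : ¬ ι.range.Normal)
    (hR : ∀ R : Subgroup G, IsPGroup 2 R → R ≤ 𝐂[ι.range] → IsCyclic R) :
    Nonempty (layer G ≃* ι.range × ι.range) ∨ Con (Fintype.card α) (layer G) := by
  obtain ⟨t, h⟩ := cw_of_std h8 hι hA hR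
  rcases StdB.std_red hO hA hn (StdB.orderOf_eq_two h.iv.1 h.iv.2) (act_one_iff.1 h.cen) with ⟨-, h1⟩ | ⟨h1, h2, -, h3⟩
  · exact .inl h1
  have : (layer G).Normal := layer_normal
  obtain ⟨u, u1, u2, u3⟩ := exists_nb h h1 (h3 t (act_one_iff.1 h.cen) h.iv.1 h.iv.2)
  obtain ⟨H, ι', t', X', hG, ⟨e⟩⟩ := exists_gl (h.cf_of_cyc u1 u2 u3 hR) h1 hB h3
  exact .inr (hG.main.congr e)

end Cfsg.Agent.SAc
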